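import Groth.Agent.CILift.Main
import Groth.Agent.S2865
import Groth.Agent.CILib.Basic
import Groth.Agent.CMClosed.Basic
import Groth.Agent.LC.GorLoc
import Groth.Agent.LC.ExtDim
import Groth.Agent.RamSam.RegParam
import Groth.Agent.RegUFD.Basic
import Groth.Agent.RegLoc6.Open
import Groth.Agent.LC.DepthFlatFibre

/-!
# Complete intersections of dimension at least four are parafactorial
-/

set_option linter.style.haveILetI false

universe u

open IsLocalRing RingTheory.Sequence

namespace Groth.Agent.CILift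

open Groth.Agent

/-- A quotient of a regular local ring by a regular sequence is Cohen–Macaulay of complementary dimension. -/
theorem quot_cm {R : Type u} [CommRing R] [IsRegularLocalRing R] {rs : List R} (hmem : ∀ r ∈ rs, r ∈ maximalIdeal R)
    (hreg : IsWeaklyRegular R rs) [IsLocalRing (R ⧸ Ideal.ofList rs)] :
    LocCoh.IsCohenMacaulayLocalRing (R ⧸ Ideal.ofList rs) ∧
      ringKrullDim (R ⧸ Ideal.ofList rs) + rs.length = ringKrullDim R := by
  haveI := LC.gorenstein_of_isRegularLocalRing (R := R)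
  haveI hR : LocCoh.IsCohenMacaulayLocalRing R := LC.isCohenMacaulayLocalRing_of_gorenstein
  have hM : LocCoh.IsCohenMacaulayModule R R := hR.supportDim_eq_depth
  have hq := LC.isCM_quot_ofList R hM hreg hmem
  have heq : (Ideal.ofList rs • ⊤ : Submodule R R) = Ideal.ofList rs := by rw [smul_eq_mul, Ideal.mul_top]
  let e := Submodule.quotEquivOfEq (Ideal.ofList rs • ⊤ : Submodule R R) (Ideal.ofList rs) heq
  have hdim : Module.supportDim R (R ⧸ (Ideal.ofList rs • ⊤ : Submodule R R)) =
      ringKrullDim (R ⧸ Ideal.ofList rs) := by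
    rw [Module.supportDim_eq_of_equiv e, Module.supportDim_quotient_eq_ringKrullDim]
  refine ⟨{ supportDim_eq_depth := ?_ }, ?_⟩
  · rw [Module.supportDim_self_eq_ringKrullDim, ← hdim]
    refine hq.trans ?_
    unfold LocCoh.depth
    rw [LC.idealDepth_congr _ e, LC.idealDepth_quot_self_le,
      map_maximalIdeal_of_surjective _ Ideal.Quotient.mk_surjective]
  · rw [← hdim, Module.supportDim_add_length_eq_supportDim_of_isRegular rs
      (IsRegular.of_isWeaklyRegular_of_mem_maximalIdeal R hmem hreg), Module.supportDim_self_eq_ringKrullDim]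

theorem dim_le_depth {A : Type u} [CommRing A] [hA : LocCoh.IsCohenMacaulayLocalRing A] :
    ringKrullDim A = ((LocCoh.depth A A : ℕ∞) : WithBot ℕ∞) := by
  rw [← Module.supportDim_self_eq_ringKrullDim]
  exact hA.supportDim_eq_depth

theorem isLocalRing_quot {R : Type u} [CommRing R] [IsLocalRing R] {rs : List R}
    (hmem : ∀ r ∈ rs, r ∈ maximalIdeal R) : IsLocalRing (R ⧸ Ideal.ofList rs) := by
  haveI : Nontrivial (R ⧸ Ideal.ofList rs) := Ideal.Quotient.nontrivial_iff.mpr fun h =>
    (maximalIdeal.isMaximal R).ne_top (top_le_iff.mp (h ▸ Ideal.span_le.mpr hmem))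
  exact IsLocalRing.of_surjective' (Ideal.Quotient.mk _) Ideal.Quotient.mk_surjective

/-- Parafactoriality for quotients by regular sequences of a given length. -/
def CIPara (r : ℕ) : Prop :=
  ∀ (R : Type u) [CommRing R] [IsRegularLocalRing R] (rs : List R), rs.length = r →
    (∀ x ∈ rs, x ∈ maximalIdeal R) → IsWeaklyRegular R rs → ((r + 4 : ℕ) : WithBot ℕ∞) ≤ ringKrullDim R →
    ∀ [IsLocalRing (R ⧸ Ideal.ofList rs)], ParaF.IsParafactorialLocalRing (R ⧸ Ideal.ofList rs)

theorem ciPara_zero : CIPara.{u} 0 := by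
  intro R _ _ rs hlen _ _ hdim _
  obtain rfl := List.length_eq_zero_iff.mp hlen
  obtain ⟨hdom, hufd⟩ := RegUFD.ufd R
  exact ParaFX.PairIff.of_ringEquiv ((Ideal.quotEquivOfEq Ideal.ofList_nil).trans (RingEquiv.quotientBot R))
    (ParaFX.isParafactorial_of_ufd R (le_trans (by norm_num) hdim))

set_option maxHeartbeats 1600000 in
/-- The step in a complete regular ring. -/
theorem ciPara_complete {r : ℕ} (ih : CIPara.{u} r) (R : Type u) [CommRing R] [IsRegularLocalRing R]
    [IsAdicComplete (maximalIdeal R) R] (rs : List R) (hlen : rs.length = r + 1)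
    (hmem : ∀ x ∈ rs, x ∈ maximalIdeal R) (hreg : IsWeaklyRegular R rs)
    (hdim : ((r + 1 + 4 : ℕ) : WithBot ℕ∞) ≤ ringKrullDim R) [IsLocalRing (R ⧸ Ideal.ofList rs)] :
    ParaF.IsParafactorialLocalRing (R ⧸ Ideal.ofList rs) := by
  obtain ⟨init, t, rfl⟩ : ∃ init t, rs = init ++ [t] := by
    rcases List.eq_nil_or_concat rs with h | ⟨init, t, h⟩
    · rw [h] at hlen; simp at hlen
    · exact ⟨init, t, by rw [h, List.concat_eq_append]⟩
  rw [List.length_append, List.length_singleton] at hlen
  have hlen' : init.length = r := by omega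
  obtain ⟨hreg₁, hreg₂⟩ := (isWeaklyRegular_append_iff R init [t]).mp hreg
  have hmem₁ : ∀ x ∈ init, x ∈ maximalIdeal R := fun x hx => hmem x (List.mem_append_left _ hx)
  haveI := isLocalRing_quot hmem₁
  haveI : IsAdicComplete (maximalIdeal (R ⧸ Ideal.ofList init)) (R ⧸ Ideal.ofList init) :=
    CILib.isAdicComplete_quotient _
  have hle : Ideal.ofList init ≤ Ideal.ofList (init ++ [t]) := by
    rw [Ideal.ofList_append]; exact le_sup_left
  let q : R ⧸ Ideal.ofList init →+* R ⧸ Ideal.ofList (init ++ [t]) := Ideal.Quotient.factor hle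
  haveI : IsLocalHom (Ideal.Quotient.mk (Ideal.ofList init)) := IsLocalHom.of_surjective _ Ideal.Quotient.mk_surjective
  let t' : R ⧸ Ideal.ofList init := Ideal.Quotient.mk _ t
  obtain ⟨hcmA, hdimA⟩ := quot_cm hmem hreg
  obtain ⟨hcmB, hdimB⟩ := quot_cm hmem₁ hreg₁
  haveI := hcmA
  haveI := hcmB
  obtain ⟨dA, hdA⟩ := AvramovLib.exists_nat_dim (R ⧸ Ideal.ofList (init ++ [t]))
  obtain ⟨dB, hdB⟩ := AvramovLib.exists_nat_dim (R ⧸ Ideal.ofList init)
  obtain ⟨dR, hdR⟩ := AvramovLib.exists_nat_dim R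
  rw [hdA, hdR, List.length_append, List.length_singleton, hlen'] at hdimA
  rw [hdB, hdR, hlen'] at hdimB
  rw [hdR] at hdim
  have e1 : dA + (r + 1) = dR := by exact_mod_cast hdimA
  have e2 : dB + r = dR := by exact_mod_cast hdimB
  have e3 : r + 1 + 4 ≤ dR := by exact_mod_cast hdim
  refine isParafactorial_of_regular_quotient q (Ideal.Quotient.factor_surjective hle) t' ?_
    (map_nonunit _ t (hmem t (by simp))) ?_ ?_ (ih R init hlen' hmem₁ hreg₁ (by rw [hdR]; exact_mod_cast (by omega)))
    fun P htP hP => ?_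
  · rw [Ideal.Quotient.factor_ker hle, Ideal.ofList_append, Ideal.map_sup, Ideal.map_quotient_self, bot_sup_eq,
      Ideal.ofList_singleton, Ideal.map_span, Set.image_singleton]
  · intro b hb
    obtain ⟨b, rfl⟩ := Ideal.Quotient.mk_surjective b
    have h1 := (isWeaklyRegular_singleton_iff _ t).mp hreg₂
    have h2 : t • (Submodule.Quotient.mk b : R ⧸ (Ideal.ofList init • ⊤ : Submodule R R)) = 0 := by
      rw [← Submodule.Quotient.mk_smul, Submodule.Quotient.mk_eq_zero, Ideal.smul_eq_mul, Ideal.mul_top]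
      exact Ideal.Quotient.eq_zero_iff_mem.mp hb
    have h3 : (Submodule.Quotient.mk b : R ⧸ (Ideal.ofList init • ⊤ : Submodule R R)) = 0 :=
      h1.right_eq_zero_of_smul h2
    rw [Submodule.Quotient.mk_eq_zero, Ideal.smul_eq_mul, Ideal.mul_top] at h3
    exact Ideal.Quotient.eq_zero_iff_mem.mpr h3
  · have h1 := dim_le_depth (A := R ⧸ Ideal.ofList (init ++ [t]))
    rw [hdA] at h1
    have h2 : LocCoh.depth (R ⧸ Ideal.ofList (init ++ [t])) (R ⧸ Ideal.ofList (init ++ [t])) = (dA : ℕ∞) := by
      exact_mod_cast h1.symm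
    rw [h2]
    exact_mod_cast (by omega : 4 ≤ dA)
  -- the localization at a curve
  let p := P.asIdeal.comap (Ideal.Quotient.mk (Ideal.ofList init))
  haveI : p.IsPrime := Ideal.comap_isPrime _ _
  haveI := RegLoc6.isRegularLocalRing_localization R p
  obtain ⟨ψ⟩ := RegLoc6.exists_quotLocalEquiv (Ideal.ofList init) p P.asIdeal rfl
  rw [Ideal.map_ofList] at ψ
  have hmem_p : ∀ x ∈ init.map (algebraMap R (Localization.AtPrime p)), x ∈ maximalIdeal (Localization.AtPrime p) := by
    intro x hx
    obtain ⟨y, hy, rfl⟩ := List.mem_map.mp hx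
    rw [IsLocalization.AtPrime.to_map_mem_maximal_iff (Localization.AtPrime p) p]
    show Ideal.Quotient.mk _ y ∈ P.asIdeal
    rw [Ideal.Quotient.eq_zero_iff_mem.mpr (Ideal.subset_span hy : y ∈ Ideal.ofList init)]
    exact zero_mem _
  have hreg_p := IsWeaklyRegular.of_isLocalization (Localization.AtPrime p) p.primeCompl hreg₁
  haveI := isLocalRing_quot hmem_p
  obtain ⟨-, hdimP⟩ := quot_cm hmem_p hreg_p
  rw [List.length_map, hlen', ringKrullDim_eq_of_ringEquiv ψ,
    IsLocalization.AtPrime.ringKrullDim_eq_height P.asIdeal] at hdimP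
  have hh := LC.height_add_ringKrullDim_quotient P.asIdeal P.2.ne_top
  rw [hP, hdB] at hh
  obtain ⟨hP', hPe⟩ : ∃ n : ℕ, P.asIdeal.height = n := by
    obtain ⟨n, hn⟩ := ENat.ne_top_iff_exists.mp (Ideal.height_ne_top P.2.ne_top)
    exact ⟨n, hn.symm⟩
  rw [hPe] at hh hdimP
  have e4 : 1 + hP' = dB := by exact_mod_cast hh
  refine ParaFX.PairIff.of_ringEquiv ψ.symm (ih _ _ (by rw [List.length_map, hlen']) hmem_p hreg_p ?_)
  rw [← hdimP]
  exact le_trans (Nat.cast_le.mpr (by omega : r + 4 ≤ hP' + r)) (le_of_eq (by push_cast; rfl))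

set_option maxHeartbeats 1600000 in
theorem ciPara : ∀ r : ℕ, CIPara.{u} r
  | 0 => ciPara_zero
  | r + 1 => by
    intro R _ _ rs hlen hmem hreg hdim _
    let A := R ⧸ Ideal.ofList rs
    let π := Ideal.Quotient.mk (Ideal.ofList rs)
    obtain ⟨τ, hτ, hker⟩ := CILib.exists_completion_surjection π Ideal.Quotient.mk_surjective
    haveI := CILib.isRegularLocalRing_adicCompletion R
    haveI := CILib.isAdicComplete_adicCompletion R
    haveI := LC.Canon.isNoetherianRing_completion (R := A)
    let Rh := AdicCompletion (maximalIdeal R) R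
    let Ah := AdicCompletion (maximalIdeal A) A
    rw [Ideal.mk_ker, Ideal.map_ofList] at hker
    have hmem' : ∀ x ∈ rs.map (algebraMap R Rh), x ∈ maximalIdeal Rh := by
      intro x hx
      obtain ⟨y, hy, rfl⟩ := List.mem_map.mp hx
      rw [AdicCompletion.maximalIdeal_eq_map (R := R)]
      exact Ideal.mem_map_of_mem _ (hmem y hy)
    have hreg' := IsWeaklyRegular.of_flat (S := Rh) hreg
    haveI := isLocalRing_quot hmem'
    let e : (Rh ⧸ Ideal.ofList (rs.map (algebraMap R Rh))) ≃+* Ah :=
      (Ideal.quotEquivOfEq hker.symm).trans (RingHom.quotientKerEquivOfSurjective hτ)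
    have hAh : ParaF.IsParafactorialLocalRing Ah :=
      ParaFX.PairIff.of_ringEquiv e.symm (ciPara_complete (ciPara r) Rh _ (by rw [List.length_map, hlen]) hmem' hreg'
        (by rw [CILib.ringKrullDim_adicCompletion]; exact hdim))
    haveI : IsLocalHom (algebraMap A Ah) := AdicCompletion.algebraMap_isLocalHom_of_fg (IsNoetherian.noetherian _)
    refine S2865.result A Ah ?_ hAh
    rw [← AdicCompletion.maximalIdeal_eq_map (R := A)]
    exact ringKrullDim_eq_zero_of_isField
      ((Ideal.Quotient.maximal_ideal_iff_isField_quotient _).mp (maximalIdeal.isMaximal Ah))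
  termination_by r => r

/-- Complete intersections of dimension at least four are parafactorial. -/
theorem isParafactorial_of_ci (A : Type u) [CommRing A] [IsLocalRing A] (hA : SGA2.IsAbsCompleteIntersection A)
    (hdim : (4 : WithBot ℕ∞) ≤ ringKrullDim A) : ParaF.IsParafactorialLocalRing A := by
  obtain ⟨R, _, _, rs, hmem, hreg, ⟨e⟩⟩ := hA
  haveI := isLocalRing_quot hmem
  obtain ⟨-, hd⟩ := quot_cm hmem hreg.1
  obtain ⟨d, hd'⟩ := AvramovLib.exists_nat_dim (R ⧸ Ideal.ofList rs)
  rw [ringKrullDim_eq_of_ringEquiv e, show Ideal.span {r | r ∈ rs} = Ideal.ofList rs from rfl, hd'] at hdim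
  rw [hd'] at hd
  have h4 : 4 ≤ d := by exact_mod_cast hdim
  exact ParaFX.PairIff.of_ringEquiv e (ciPara rs.length R rs rfl hmem hreg.1
    (by rw [← hd]; exact_mod_cast (by omega : rs.length + 4 ≤ d + rs.length)))

end Groth.Agent.CILift
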