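import Mathlib

/-!
# Čech vanishing inside one localization

For elements `f i` whose product is a nonzerodivisor every Čech term is a submodule of a single localization; deep
regular sequences then kill the first three Čech groups by hand.
-/

set_option linter.style.haveILetI false

universe u v w

namespace Groth.Agent.CILift

variable {R : Type u} [CommRing R] (K : Type v) [CommRing K] [Algebra R K]

/-- Elements of `K` which a power of `h` carries into the image of `I`. -/
def Sub (I : Ideal R) (h : R) : Submodule R K where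
  carrier := {x | ∃ N : ℕ, ∃ z ∈ I, algebraMap R K (h ^ N) * x = algebraMap R K z}
  add_mem' := by
    rintro x y ⟨N, z, hz, hx⟩ ⟨M, w, hw, hy⟩
    refine ⟨N + M, h ^ M * z + h ^ N * w, add_mem (I.mul_mem_left _ hz) (I.mul_mem_left _ hw), ?_⟩
    simp only [map_add, map_mul, ← hx, ← hy, pow_add]
    ring
  zero_mem' := ⟨0, 0, zero_mem _, by simp⟩
  smul_mem' := by
    rintro r x ⟨N, z, hz, hx⟩
    exact ⟨N, r * z, I.mul_mem_left _ hz, by rw [map_mul, ← hx, Algebra.smul_def]; ring⟩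

variable {K}

theorem mem_sub {I : Ideal R} {h : R} {x : K} :
    x ∈ Sub K I h ↔ ∃ N : ℕ, ∃ z ∈ I, algebraMap R K (h ^ N) * x = algebraMap R K z := Iff.rfl

theorem sub_le {I : Ideal R} {h h' : R} (hd : h ∣ h') : Sub K I h ≤ Sub K I h' := by
  rintro x ⟨N, z, hz, hx⟩
  obtain ⟨d, rfl⟩ := hd
  exact ⟨N, d ^ N * z, I.mul_mem_left _ hz, by rw [map_mul, ← hx, mul_pow, map_mul]; ring⟩

theorem sub_ideal_le {I I' : Ideal R} {h : R} (hI : I ≤ I') : Sub K I h ≤ Sub K I' h := by
  rintro x ⟨N, z, hz, hx⟩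
  exact ⟨N, z, hI hz, hx⟩

theorem algebraMap_mem_sub {I : Ideal R} {h z : R} (hz : z ∈ I) : algebraMap R K z ∈ Sub K I h :=
  ⟨0, z, hz, by simp⟩

theorem mul_mem_sub {I : Ideal R} {h : R} {x y : K} (hx : x ∈ Sub K ⊤ h) (hy : y ∈ Sub K I h) :
    x * y ∈ Sub K I h := by
  obtain ⟨N, z, -, hz⟩ := hx
  obtain ⟨M, w, hw, hy⟩ := hy
  exact ⟨N + M, z * w, I.mul_mem_left _ hw, by rw [map_mul, ← hz, ← hy, pow_add, map_mul]; ring⟩

theorem sub_bot (hinj : Function.Injective (algebraMap R K)) {h : R} (hh : IsUnit (algebraMap R K h)) {x : K}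
    (hx : x ∈ Sub K (⊥ : Ideal R) h) : x = 0 := by
  obtain ⟨N, z, hz, he⟩ := hx
  rw [Ideal.mem_bot.mp hz, map_zero, map_pow] at he
  exact (hh.pow N).mul_right_eq_zero.mp he

/-- A regular element modulo `I` cancels. -/
theorem cancel (hinj : Function.Injective (algebraMap R K)) {I : Ideal R} {h a : R}
    (ha : ∀ y, a * y ∈ I → y ∈ I) {x : K} (hx : x ∈ Sub K ⊤ h) (hax : algebraMap R K a * x ∈ Sub K I h) :
    x ∈ Sub K I h := by
  obtain ⟨N, z, -, hz⟩ := hx
  obtain ⟨M, w, hw, he⟩ := hax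
  refine ⟨N + M, h ^ M * z, ha _ ?_, by rw [map_mul, ← hz, pow_add, map_mul]; ring⟩
  have h1 : algebraMap R K (a * (h ^ M * z)) = algebraMap R K (h ^ N * w) := by
    simp only [map_mul, ← hz, ← he]
    ring
  rw [hinj h1]
  exact I.mul_mem_left _ hw

/-- Elements modulo a sum with a principal ideal decompose. -/
theorem exists_decomp {I : Ideal R} {h a : R} (hh : IsUnit (algebraMap R K h)) {x : K}
    (hx : x ∈ Sub K (I ⊔ Ideal.span {a}) h) :
    ∃ y ∈ Sub K ⊤ h, x - algebraMap R K a * y ∈ Sub K I h := by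
  obtain ⟨N, z, hz, he⟩ := hx
  obtain ⟨p, hp, q, hq, rfl⟩ := Submodule.mem_sup.mp hz
  obtain ⟨q', rfl⟩ := Ideal.mem_span_singleton'.mp hq
  obtain ⟨u, hu⟩ := (hh.pow N)
  refine ⟨((u⁻¹ : Kˣ) : K) * algebraMap R K q', ⟨N, q', trivial, ?_⟩, N, p, hp, ?_⟩
  · rw [map_pow, ← hu, ← mul_assoc, Units.mul_inv, one_mul]
  · rw [mul_sub, he, map_pow, ← hu, map_add, map_mul]
    have h1 : (u : K) * (algebraMap R K a * (((u⁻¹ : Kˣ) : K) * algebraMap R K q')) =
        algebraMap R K a * algebraMap R K q' * ((u : K) * ((u⁻¹ : Kˣ) : K)) := by ring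
    rw [h1, Units.mul_inv]
    ring

/-- One factor of the denominator can be cleared by a uniform power. -/
theorem exists_clear {I : Ideal R} {g h : R} {x : K} (hx : x ∈ Sub K I (g * h)) :
    ∃ N, ∀ M, N ≤ M → algebraMap R K (g ^ M) * x ∈ Sub K I h := by
  obtain ⟨N, z, hz, he⟩ := hx
  refine ⟨N, fun M hM => ⟨N, g ^ (M - N) * z, I.mul_mem_left _ hz, ?_⟩⟩
  rw [map_mul, ← he, mul_pow, show g ^ M = g ^ (M - N) * g ^ N by rw [← pow_add, Nat.sub_add_cancel hM]]
  simp only [map_mul]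
  ring

variable {ι : Type w} [Fintype ι] (f : ι → R)

/-- Weakly regular sequences of length `r` modulo `I` with arbitrary powers, inside the radical of the cover. -/
def Deep : ℕ → Ideal R → Prop
  | 0, _ => True
  | r + 1, I => ∃ a ∈ (Ideal.span (Set.range f)).radical, (∀ y, a * y ∈ I → y ∈ I) ∧
      ∀ N : ℕ, 1 ≤ N → Deep r (I ⊔ Ideal.span {a ^ N})

variable {f}

omit [Fintype ι] in
theorem exists_pow_mem {a : R} (ha : a ∈ (Ideal.span (Set.range f)).radical) (J : Ideal R)
    (h : ∀ o, ∃ N, f o ^ N ∈ J) : ∃ N, 1 ≤ N ∧ a ^ N ∈ J := by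
  have : (Ideal.span (Set.range f)).radical ≤ J.radical := by
    rw [Ideal.radical_le_radical_iff, Ideal.span_le]
    rintro _ ⟨o, rfl⟩
    exact h o
  obtain ⟨N, hN⟩ := this ha
  exact ⟨N + 1, by omega, by rw [pow_succ]; exact J.mul_mem_right _ hN⟩

omit [Fintype ι] in
theorem pow_cancel {I : Ideal R} {a : R} (ha : ∀ y, a * y ∈ I → y ∈ I) :
    ∀ N (y : R), a ^ N * y ∈ I → y ∈ I := by
  intro N
  induction N with
  | zero => simp
  | succ N ih =>
    intro y hy
    refine ha y (ih _ ?_)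
    rwa [← mul_assoc, ← pow_succ]

variable [hinj : Fact (Function.Injective (algebraMap R K))] (hu : ∀ i, IsUnit (algebraMap R K (f i)))

theorem exists_uniform {κ : Type*} [Fintype κ] (P : κ → ℕ → Prop) (h : ∀ i, ∃ N, ∀ M, N ≤ M → P i M) :
    ∃ N, ∀ i, P i N := by
  choose N hN using h
  exact ⟨Finset.univ.sup N, fun i => hN i _ (Finset.le_sup (Finset.mem_univ i))⟩

include hu

/-- The zeroth Čech group modulo an ideal with two regular elements. -/
theorem cech₀ {I : Ideal R} (hI : Deep f 2 I) (s : ι → K) (hs : ∀ i, s i ∈ Sub K ⊤ (f i))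
    (hc : ∀ i j, s i - s j ∈ Sub K I (f i * f j)) :
    ∃ z : R, ∀ i, s i - algebraMap R K z ∈ Sub K I (f i) := by
  obtain ⟨b, hb, hbreg, hb'⟩ := hI
  let J : Ideal R :=
    { carrier := {r | ∃ z : R, ∀ i, algebraMap R K r * s i - algebraMap R K z ∈ Sub K I (f i)}
      add_mem' := by
        rintro r r' ⟨z, hz⟩ ⟨z', hz'⟩
        refine ⟨z + z', fun i => ?_⟩
        have := add_mem (hz i) (hz' i)
        convert this using 1
        simp only [map_add]; ring
      zero_mem' := ⟨0, fun i => by simp⟩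
      smul_mem' := by
        rintro q r ⟨z, hz⟩
        refine ⟨q * z, fun i => ?_⟩
        have := (Sub K I (f i)).smul_mem q (hz i)
        rw [Algebra.smul_def] at this
        convert this using 1
        simp only [smul_eq_mul, map_mul]; ring }
  obtain ⟨N, hN1, z, hz⟩ := exists_pow_mem hb J fun o => by
    obtain ⟨N₀, zo, -, hzo⟩ := hs o
    obtain ⟨N₁, hN₁⟩ := exists_uniform (fun i M => algebraMap R K (f o ^ M) * (s i - s o) ∈ Sub K I (f i))
      fun i => by
        obtain ⟨N, hN⟩ := exists_clear (g := f o) (h := f i) (by rw [mul_comm]; exact hc i o)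
        exact ⟨N, hN⟩
    refine ⟨N₁ + N₀, f o ^ N₁ * zo, fun i => ?_⟩
    have := (Sub K I (f i)).smul_mem (f o ^ N₀) (hN₁ i)
    rw [Algebra.smul_def] at this
    convert this using 1
    rw [pow_add, map_mul, map_mul, ← hzo]
    ring
  obtain ⟨a, ha, hareg, -⟩ := hb' N hN1
  have hzmem : z ∈ I ⊔ Ideal.span {b ^ N} := by
    have hloc : ∀ i, algebraMap R K z ∈ Sub K (I ⊔ Ideal.span {b ^ N}) (f i) := fun i => by
      obtain ⟨M, w, -, hw⟩ := hs i
      have h1 : algebraMap R K (b ^ N) * s i ∈ Sub K (I ⊔ Ideal.span {b ^ N}) (f i) :=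
        ⟨M, b ^ N * w, Ideal.mem_sup_right (Ideal.mul_mem_right _ _ (Ideal.mem_span_singleton_self _)), by
          rw [map_mul, ← hw]; ring⟩
      have := sub_mem h1 (sub_ideal_le le_sup_left (hz i))
      rwa [sub_sub_cancel] at this
    let J' : Ideal R := Submodule.comap (LinearMap.toSpanSingleton R R z) (I ⊔ Ideal.span {b ^ N})
    obtain ⟨M, -, hM⟩ := exists_pow_mem ha J' fun o => by
      obtain ⟨M, w, hw, he⟩ := hloc o
      rw [← map_mul] at he
      exact ⟨M, show f o ^ M * z ∈ _ from hinj.out he ▸ hw⟩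
    exact pow_cancel hareg M z hM
  obtain ⟨p, hp, q, hq, rfl⟩ := Submodule.mem_sup.mp hzmem
  obtain ⟨z', rfl⟩ := Ideal.mem_span_singleton'.mp hq
  refine ⟨z', fun i => cancel hinj.out (pow_cancel hbreg N)
    (sub_mem (hs i) (algebraMap_mem_sub trivial)) ?_⟩
  have := add_mem (hz i) (algebraMap_mem_sub (K := K) (h := f i) hp)
  convert this using 1
  simp only [map_add, map_mul]
  ring

/-- The first Čech group modulo an ideal with three regular elements. -/
theorem cech₁ {I : Ideal R} (hI : Deep f 3 I) (c : ι → ι → K) (hs : ∀ i j, c i j ∈ Sub K ⊤ (f i * f j))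
    (hc : ∀ i j l, c i j + c j l - c i l ∈ Sub K I (f i * f j * f l)) :
    ∃ r : ι → K, (∀ i, r i ∈ Sub K ⊤ (f i)) ∧ ∀ i j, c i j - (r i - r j) ∈ Sub K I (f i * f j) := by
  obtain ⟨a, ha, hareg, ha'⟩ := hI
  let J : Ideal R :=
    { carrier := {q | ∃ r : ι → K, (∀ i, r i ∈ Sub K ⊤ (f i)) ∧
        ∀ i j, algebraMap R K q * c i j - (r i - r j) ∈ Sub K I (f i * f j)}
      add_mem' := by
        rintro q q' ⟨r, hr, hq⟩ ⟨r', hr', hq'⟩
        refine ⟨r + r', fun i => add_mem (hr i) (hr' i), fun i j => ?_⟩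
        have := add_mem (hq i j) (hq' i j)
        convert this using 1
        simp only [map_add, Pi.add_apply]; ring
      zero_mem' := ⟨0, fun i => zero_mem _, fun i j => by simp⟩
      smul_mem' := by
        rintro q q' ⟨r, hr, hq⟩
        refine ⟨q • r, fun i => Submodule.smul_mem _ _ (hr i), fun i j => ?_⟩
        have := (Sub K I (f i * f j)).smul_mem q (hq i j)
        rw [Algebra.smul_def] at this
        convert this using 1
        simp only [smul_eq_mul, map_mul, Pi.smul_apply, Algebra.smul_def]; ring }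
  obtain ⟨N, hN1, r, hr, hr'⟩ := exists_pow_mem ha J fun o => by
    obtain ⟨N, hN⟩ := exists_uniform (κ := ι × ι) (fun p M => algebraMap R K (f o ^ M) * c o p.1 ∈ Sub K ⊤ (f p.1) ∧
        algebraMap R K (f o ^ M) * (c o p.1 + c p.1 p.2 - c o p.2) ∈ Sub K I (f p.1 * f p.2)) fun p => by
      obtain ⟨N₁, h₁⟩ := exists_clear (g := f o) (h := f p.1) (hs o p.1)
      obtain ⟨N₂, h₂⟩ := exists_clear (g := f o) (h := f p.1 * f p.2) (by rw [← mul_assoc]; exact hc o p.1 p.2)
      exact ⟨max N₁ N₂, fun M hM => ⟨h₁ M (le_of_max_le_left hM), h₂ M (le_of_max_le_right hM)⟩⟩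
    refine ⟨N, fun i => -(algebraMap R K (f o ^ N) * c o i), fun i => neg_mem (hN (i, i)).1, fun i j => ?_⟩
    convert (hN (i, j)).2 using 1
    ring
  have hdeep := ha' N hN1
  obtain ⟨z, hz⟩ := cech₀ hu hdeep r hr fun i j => by
    have h1 : algebraMap R K (a ^ N) * c i j ∈ Sub K (I ⊔ Ideal.span {a ^ N}) (f i * f j) := by
      obtain ⟨M, w, -, hw⟩ := hs i j
      exact ⟨M, a ^ N * w, Ideal.mem_sup_right (Ideal.mul_mem_right _ _ (Ideal.mem_span_singleton_self _)), by
        rw [map_mul, ← hw]; ring⟩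
    have := sub_mem h1 (sub_ideal_le le_sup_left (hr' i j))
    rwa [sub_sub_cancel] at this
  choose r' hr₁ hr₂ using fun i => exists_decomp (hu i) (hz i)
  refine ⟨r', hr₁, fun i j => cancel hinj.out (pow_cancel hareg N)
    (sub_mem (hs i j) (sub_mem (sub_le (dvd_mul_right _ _) (hr₁ i)) (sub_le (dvd_mul_left _ _) (hr₁ j)))) ?_⟩
  have := add_mem (hr' i j) (sub_mem (sub_le (h' := f i * f j) (dvd_mul_right _ _) (hr₂ i))
    (sub_le (h' := f i * f j) (dvd_mul_left _ _) (hr₂ j)))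
  convert this using 1
  ring

/-- The second Čech group of a ring with four regular elements. -/
theorem cech₂ (hI : Deep f 4 (⊥ : Ideal R)) (d : ι → ι → ι → K) (hs : ∀ i j l, d i j l ∈ Sub K ⊤ (f i * f j * f l))
    (hc : ∀ i j l o, d j l o - d i l o + d i j o - d i j l = 0) :
    ∃ r : ι → ι → K, (∀ i j, r i j ∈ Sub K ⊤ (f i * f j)) ∧ ∀ i j l, d i j l = r i j + r j l - r i l := by
  obtain ⟨a, ha, hareg, ha'⟩ := hI
  let J : Ideal R :=
    { carrier := {q | ∃ r : ι → ι → K, (∀ i j, r i j ∈ Sub K ⊤ (f i * f j)) ∧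
        ∀ i j l, algebraMap R K q * d i j l = r i j + r j l - r i l}
      add_mem' := by
        rintro q q' ⟨r, hr, hq⟩ ⟨r', hr', hq'⟩
        refine ⟨r + r', fun i j => add_mem (hr i j) (hr' i j), fun i j l => ?_⟩
        simp only [map_add, add_mul, hq, hq', Pi.add_apply]; ring
      zero_mem' := ⟨0, fun i j => zero_mem _, fun i j l => by simp⟩
      smul_mem' := by
        rintro q q' ⟨r, hr, hq⟩
        refine ⟨q • r, fun i j => Submodule.smul_mem _ _ (hr i j), fun i j l => ?_⟩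
        simp only [smul_eq_mul, map_mul, Pi.smul_apply, Algebra.smul_def, mul_assoc, hq]; ring }
  obtain ⟨N, hN1, r, hr, hr'⟩ := exists_pow_mem ha J fun o => by
    obtain ⟨N, hN⟩ := exists_uniform (κ := ι × ι)
      (fun p M => algebraMap R K (f o ^ M) * d o p.1 p.2 ∈ Sub K ⊤ (f p.1 * f p.2)) fun p =>
        exists_clear (g := f o) (h := f p.1 * f p.2) (by rw [← mul_assoc]; exact hs o p.1 p.2)
    refine ⟨N, fun i j => algebraMap R K (f o ^ N) * d o i j, fun i j => hN (i, j), fun i j l => ?_⟩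
    linear_combination (algebraMap R K (f o ^ N)) * hc o i j l
  obtain ⟨q, hq, hq'⟩ := cech₁ hu (ha' N hN1) r hr fun i j l => by
    obtain ⟨M, w, -, hw⟩ := hs i j l
    rw [← hr' i j l]
    exact ⟨M, a ^ N * w, Ideal.mem_sup_right (Ideal.mul_mem_right _ _ (Ideal.mem_span_singleton_self _)), by
      rw [map_mul, ← hw]; ring⟩
  have hu2 : ∀ i j, IsUnit (algebraMap R K (f i * f j)) := fun i j => by
    rw [map_mul]; exact (hu i).mul (hu j)
  choose r' hr₁ hr₂ using fun i j => exists_decomp (hu2 i j) (hq' i j)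
  refine ⟨r', hr₁, fun i j l => sub_eq_zero.mp (sub_bot hinj.out (h := f i * f j * f l)
    (by rw [map_mul, map_mul]; exact ((hu i).mul (hu j)).mul (hu l))
    (cancel hinj.out (pow_cancel hareg N) ?_ ?_))⟩
  · exact sub_mem (hs i j l) (sub_mem (add_mem (sub_le (dvd_mul_right _ _) (hr₁ i j))
      (sub_le ⟨f i, by ring⟩ (hr₁ j l))) (sub_le ⟨f j, by ring⟩ (hr₁ i l)))
  · have h3 : ∀ i j, r i j - (q i - q j) - algebraMap R K (a ^ N) * r' i j = 0 := fun i j =>
      sub_bot hinj.out (hu2 i j) (hr₂ i j)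
    rw [show algebraMap R K (a ^ N) * (d i j l - (r' i j + r' j l - r' i l)) = 0 by
      linear_combination hr' i j l + h3 i j + h3 j l - h3 i l]
    exact zero_mem _

end Groth.Agent.CILift
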