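import Groth.Agent.RamSam.Core

/-!
# A cover by regular elements trivializing a rank one module

On a punctured local spectrum of positive depth a module of rank one is free outside the zero sets of finitely many
regular elements, with functionals as coordinates.
-/

set_option linter.style.haveILetI false

universe u

open IsLocalRing

namespace Groth.Agent.CILift

open Groth.Agent.RamSam

variable {A : Type u} [CommRing A] [IsNoetherianRing A] (M : Type u) [AddCommGroup M] [Module A M] [Module.Finite A M]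

/-- One element whose functional avoids finitely many primes of rank one. -/
theorem exists_functional_avoiding (S : Finset (Ideal A)) (hS : ∀ Q ∈ S, Q.IsPrime ∧ RankOne M Q) :
    ∃ φ : M →ₗ[A] A, ∃ x, ∀ Q ∈ S, φ x ∉ Q := by
  classical
  let T := S.filter fun Q => Maximal (· ∈ S) Q
  have hT : ∀ Q ∈ T, ∃ φ : M →ₗ[A] A, ∃ x, φ x ∉ Q := fun Q hQ => by
    obtain ⟨hp, hr⟩ := hS Q (Finset.mem_filter.mp hQ).1
    haveI := hp
    exact exists_functional_at M Q hr
  choose φ x hx using hT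
  have hc : ∀ Q ∈ T, ∃ c, c ∉ Q ∧ ∀ Q' ∈ T, Q' ≠ Q → c ∈ Q' := fun Q hQ => by
    haveI := (hS Q (Finset.mem_filter.mp hQ).1).1
    have : ∀ Q' : {Q' // Q' ∈ T ∧ Q' ≠ Q}, ∃ a ∈ (Q' : Ideal A), a ∉ Q := fun ⟨Q', hQ', hne⟩ =>
      SetLike.not_le_iff_exists.mp fun h => hne (le_antisymm h
        ((Finset.mem_filter.mp hQ').2.2 (Finset.mem_filter.mp hQ).1 h))
    choose a ha ha' using this
    haveI : Fintype {Q' // Q' ∈ T ∧ Q' ≠ Q} := Fintype.subtype (T.filter (· ≠ Q)) (by simp)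
    refine ⟨∏ Q', a Q', fun h => ?_, fun Q' hQ' hne => ?_⟩
    · obtain ⟨Q', -, h'⟩ := (Ideal.IsPrime.prod_mem_iff).mp h
      exact ha' Q' h'
    · exact Q'.mem_of_dvd (Finset.dvd_prod_of_mem a (Finset.mem_univ (⟨Q', hQ', hne⟩ : {Q' // Q' ∈ T ∧ Q' ≠ Q})))
        (ha ⟨Q', hQ', hne⟩)
  choose c hc₁ hc₂ using hc
  refine ⟨∑ Q : T, c Q Q.2 • φ Q Q.2, ∑ Q : T, c Q Q.2 • x Q Q.2, fun Q hQ => ?_⟩
  obtain ⟨Q₀, hle, hmax⟩ := S.exists_le_maximal hQ
  have hQ₀ : Q₀ ∈ T := Finset.mem_filter.mpr ⟨hmax.1, hmax⟩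
  haveI := (hS Q₀ hmax.1).1
  intro h
  have h' := hle h
  simp only [LinearMap.coe_sum, Finset.sum_apply, LinearMap.smul_apply, map_sum, map_smul, smul_eq_mul] at h'
  rw [← Finset.add_sum_erase _ _ (Finset.mem_univ (⟨Q₀, hQ₀⟩ : T))] at h'
  have h1 := (Ideal.IsPrime.mem_or_mem inferInstance ((Ideal.add_mem_iff_left _ (Q₀.sum_mem fun Q' hQ' => Q₀.mul_mem_right _
      (hc₂ Q'.1 Q'.2 Q₀ hQ₀ fun he => (Finset.mem_erase.mp hQ').1 (Subtype.ext he.symm)))).mp h')).resolve_left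
    (hc₁ Q₀ hQ₀)
  rw [← Finset.add_sum_erase _ _ (Finset.mem_univ (⟨Q₀, hQ₀⟩ : T))] at h1
  have h2 := (Ideal.add_mem_iff_left _ (Q₀.sum_mem fun Q' hQ' => Q₀.mul_mem_right _
    (hc₂ Q'.1 Q'.2 Q₀ hQ₀ fun he => (Finset.mem_erase.mp hQ').1 (Subtype.ext he.symm)))).mp h1
  exact (Ideal.IsPrime.mem_or_mem inferInstance h2).elim (hc₁ Q₀ hQ₀) (hx Q₀ hQ₀)

omit [IsNoetherianRing A] [Module.Finite A M] in
/-- Rank one makes the two ways of pairing agree locally. -/
theorem exists_smul_cross_eq_zero {Q : Ideal A} [Q.IsPrime] (h : RankOne M Q) (φ : M →ₗ[A] A) (x y : M) :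
    ∃ r ∉ Q, r • (φ x • y - φ y • x) = 0 := by
  obtain ⟨e, he, -⟩ := h
  obtain ⟨r, hr, b, hb⟩ := he x
  obtain ⟨r', hr', b', hb'⟩ := he y
  refine ⟨r * r', fun hm => (Ideal.IsPrime.mem_or_mem inferInstance hm).elim hr hr', ?_⟩
  have h1 : (r * r') • (φ x • y) = (b * φ e) • (b' • e) := by
    have := congrArg φ hb
    simp only [map_smul, smul_eq_mul] at this
    rw [← this, ← hb', smul_smul, smul_smul]
    congr 1
    ring
  have h2 : (r * r') • (φ y • x) = (b' * φ e) • (b • e) := by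
    have := congrArg φ hb'
    simp only [map_smul, smul_eq_mul] at this
    rw [← this, ← hb, smul_smul, smul_smul]
    congr 1
    ring
  rw [smul_sub, h1, h2, smul_smul, smul_smul, sub_eq_zero]
  congr 1
  ring

variable [IsLocalRing A]

/-- An element of the maximal ideal outside finitely many given primes, with coordinates. -/
theorem exists_chart_avoid (hM : ∀ P : Ideal A, P.IsPrime → P ≠ maximalIdeal A → RankOne M P)
    (S : Finset (Ideal A)) (hS : ∀ Q ∈ S, Q.IsPrime ∧ Q ≠ maximalIdeal A) :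
    ∃ h ∈ maximalIdeal A, (∀ Q ∈ S, h ∉ Q) ∧ ∃ (e : M) (lam : M →ₗ[A] A), lam e = h ∧ ∀ y, h • y = lam y • e := by
  classical
  obtain ⟨φ, x, hx⟩ := exists_functional_avoiding M S fun Q hQ =>
    ⟨(hS Q hQ).1, hM Q (hS Q hQ).1 (hS Q hQ).2⟩
  obtain ⟨s, hs⟩ := (inferInstance : Module.Finite A M).fg_top
  have hvan : ∀ Q ∈ S, ∃ r ∉ Q, ∀ y ∈ s, r • (φ x • y - φ y • x) = 0 := fun Q hQ => by
    haveI := (hS Q hQ).1
    choose r hr hr' using exists_smul_cross_eq_zero M (hM Q (hS Q hQ).1 (hS Q hQ).2) φ x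
    refine ⟨∏ y ∈ s, r y, fun h => ?_, fun y hy => ?_⟩
    · obtain ⟨y, -, h'⟩ := (Ideal.IsPrime.prod_mem_iff).mp h
      exact hr y h'
    · rw [← Finset.mul_prod_erase s r hy, mul_comm, mul_smul, hr' y, smul_zero]
  let J : Ideal A :=
    (Submodule.span A (Set.range fun y : s => φ x • (y : M) - φ y • x)).annihilator ⊓ maximalIdeal A
  have hJ : ¬ ((J : Set A) ⊆ ⋃ Q ∈ (S : Set (Ideal A)), (Q : Set A)) := fun hsub => by
    obtain ⟨Q, hQ, hle⟩ := (Ideal.subset_union_prime (f := id) ⊤ ⊤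
      fun Q hQ _ _ => (hS Q hQ).1).mp hsub
    haveI := (hS Q hQ).1
    obtain ⟨r, hr, hr'⟩ := hvan Q hQ
    obtain ⟨a, ha, ha'⟩ := SetLike.not_le_iff_exists.mp fun h : maximalIdeal A ≤ Q =>
      (hS Q hQ).2 ((maximalIdeal.isMaximal A).eq_of_le (hS Q hQ).1.ne_top h).symm
    have hra : r * a ∈ J := by
      refine ⟨Ideal.mul_mem_right _ _ ?_, Ideal.mul_mem_left _ _ ha⟩
      rw [Submodule.mem_annihilator_span]
      rintro ⟨_, y, rfl⟩
      exact hr' y y.2
    exact ((hS Q hQ).1.mem_or_mem (hle hra : r * a ∈ Q)).elim hr ha'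
  obtain ⟨r, hrJ, hr⟩ := Set.not_subset.mp hJ
  simp only [Set.mem_iUnion, not_exists] at hr
  refine ⟨r * φ x, Ideal.mul_mem_right _ _ hrJ.2, fun Q hQ h => ?_, x, r • φ, by simp, fun y => ?_⟩
  · haveI := (hS Q hQ).1
    exact (Ideal.IsPrime.mem_or_mem inferInstance h).elim (hr Q hQ) (hx Q hQ)
  · have hrJ' := (Submodule.mem_annihilator_span _ r).mp hrJ.1
    let D : M →ₗ[A] M := r • (φ x • LinearMap.id - φ.smulRight x)
    have hD : D = 0 := LinearMap.ext_on hs fun z hz => by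
      show r • (φ x • z - φ z • x) = 0
      exact hrJ' ⟨_, ⟨z, hz⟩, rfl⟩
    have := LinearMap.congr_fun hD y
    rw [LinearMap.smul_apply, mul_smul, smul_eq_mul, mul_smul, ← sub_eq_zero, ← smul_sub]
    exact this

/-- A regular element outside a given prime with coordinates. -/
theorem exists_chart (hM : ∀ P : Ideal A, P.IsPrime → P ≠ maximalIdeal A → RankOne M P) {s₀ : A}
    (hs₀ : s₀ ∈ maximalIdeal A) (hs₀' : IsSMulRegular A s₀) (P : Ideal A) [P.IsPrime] (hP : P ≠ maximalIdeal A) :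
    ∃ h ∉ P, IsSMulRegular A h ∧ ∃ (e : M) (lam : M →ₗ[A] A), lam e = h ∧ ∀ y, h • y = lam y • e := by
  classical
  let S : Finset (Ideal A) := insert P (associatedPrimes.finite A A).toFinset
  have hassoc : ∀ Q ∈ S, Q.IsPrime ∧ Q ≠ maximalIdeal A := fun Q hQ => by
    rcases Finset.mem_insert.mp hQ with rfl | hQ
    · exact ⟨inferInstance, hP⟩
    · rw [Set.Finite.mem_toFinset] at hQ
      refine ⟨hQ.isPrime, fun he => ?_⟩
      have : s₀ ∈ ⋃ p ∈ associatedPrimes A A, (p : Set A) := Set.mem_biUnion hQ (he ▸ hs₀)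
      rw [biUnion_associatedPrimes_eq_compl_regular A A] at this
      exact this hs₀'
  obtain ⟨h, -, hh, hd⟩ := exists_chart_avoid M hM S hassoc
  refine ⟨h, hh P (Finset.mem_insert_self _ _), ?_, hd⟩
  by_contra hn
  have : h ∈ ⋃ p ∈ associatedPrimes A A, (p : Set A) := by
    rw [biUnion_associatedPrimes_eq_compl_regular A A]
    exact hn
  simp only [Set.mem_iUnion] at this
  obtain ⟨Q, hQ, hQm⟩ := this
  exact hh Q (Finset.mem_insert_of_mem ((Set.Finite.mem_toFinset _).mpr hQ)) hQm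

/-- Finitely many charts cover the punctured spectrum. -/
theorem exists_cover (hM : ∀ P : Ideal A, P.IsPrime → P ≠ maximalIdeal A → RankOne M P) {s₀ : A}
    (hs₀ : s₀ ∈ maximalIdeal A) (hs₀' : IsSMulRegular A s₀) :
    ∃ (ι : Type u) (_ : Fintype ι) (f : ι → A) (e : ι → M) (lam : ι → M →ₗ[A] A), Nonempty ι ∧
      (∀ i, IsSMulRegular A (f i)) ∧ maximalIdeal A ≤ (Ideal.span (Set.range f)).radical ∧
      (∀ i, lam i (e i) = f i) ∧ ∀ i y, f i • y = lam i y • e i := by
  classical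
  let G : Set A := {h | IsSMulRegular A h ∧ ∃ (e : M) (lam : M →ₗ[A] A), lam e = h ∧ ∀ y, h • y = lam y • e}
  obtain ⟨F, hF, hspan⟩ := (Submodule.fg_span_iff_fg_span_finset_subset G).mp (IsNoetherian.noetherian (Ideal.span G))
  have hrad : maximalIdeal A ≤ (Ideal.span G).radical := fun z hz => by
    rw [Ideal.radical_eq_sInf, Submodule.mem_sInf]
    rintro P ⟨hle, hP⟩
    haveI := hP
    by_cases hPm : P = maximalIdeal A
    · exact hPm ▸ hz
    · obtain ⟨h, hh, hreg, hd⟩ := exists_chart M hM hs₀ hs₀' P hPm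
      exact absurd (hle (Ideal.subset_span ⟨hreg, hd⟩)) hh
  choose e lam he hlam using fun i : F => (hF i.2).2
  have hrange : Ideal.span (Set.range fun i : F => (i : A)) = Ideal.span G := by
    exact (congrArg Ideal.span (by ext; simp)).trans hspan.symm
  refine ⟨F, inferInstance, fun i => i, e, lam, ?_, fun i => (hF i.2).1, hrange ▸ hrad, he, hlam⟩
  by_contra hne
  haveI := not_nonempty_iff.mp hne
  have h0 := hrad hs₀
  rw [← hrange, Set.range_eq_empty, Ideal.span_empty] at h0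
  obtain ⟨N, hN⟩ := h0
  exact one_ne_zero (α := A) ((hs₀'.pow N) (by simp only [smul_eq_mul]; rw [Ideal.mem_bot.mp hN, zero_mul, zero_mul]))

/-- Charts whose functions stay regular on a quotient. -/
theorem exists_cover_quotient (hM : ∀ P : Ideal A, P.IsPrime → P ≠ maximalIdeal A → RankOne M P) {A₀ : Type u}
    [CommRing A₀] [IsLocalRing A₀] [IsNoetherianRing A₀] (q : A →+* A₀) (hq : Function.Surjective q) {s₀ : A₀}
    (hs₀ : s₀ ∈ maximalIdeal A₀) (hs₀' : IsSMulRegular A₀ s₀) :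
    ∃ (ι : Type u) (_ : Fintype ι) (f : ι → A) (e : ι → M) (lam : ι → M →ₗ[A] A), Nonempty ι ∧
      (∀ i, IsSMulRegular A₀ (q (f i))) ∧ (∀ i, f i ∈ maximalIdeal A) ∧
      maximalIdeal A ≤ (Ideal.span (Set.range f)).radical ∧
      (∀ i, lam i (e i) = f i) ∧ ∀ i y, f i • y = lam i y • e i := by
  classical
  haveI : IsLocalHom q := IsLocalHom.of_surjective q hq
  let G : Set A := {h | h ∈ maximalIdeal A ∧ IsSMulRegular A₀ (q h) ∧
    ∃ (e : M) (lam : M →ₗ[A] A), lam e = h ∧ ∀ y, h • y = lam y • e}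
  have hass : ∀ p ∈ associatedPrimes A₀ A₀, p.IsPrime ∧ p.comap q ≠ maximalIdeal A := fun p hp => by
    refine ⟨hp.isPrime, fun he => ?_⟩
    have hp' : p = maximalIdeal A₀ := by
      rw [← Ideal.map_comap_of_surjective q hq p, he, ← maximalIdeal_comap (f := q),
        Ideal.map_comap_of_surjective q hq]
    have : s₀ ∈ ⋃ p ∈ associatedPrimes A₀ A₀, (p : Set A₀) := Set.mem_biUnion hp (hp' ▸ hs₀)
    rw [biUnion_associatedPrimes_eq_compl_regular A₀ A₀] at this
    exact this hs₀'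
  obtain ⟨F, hF, hspan⟩ := (Submodule.fg_span_iff_fg_span_finset_subset G).mp (IsNoetherian.noetherian (Ideal.span G))
  have hrad : maximalIdeal A ≤ (Ideal.span G).radical := fun z hz => by
    rw [Ideal.radical_eq_sInf, Submodule.mem_sInf]
    rintro P ⟨hle, hP⟩
    by_cases hPm : P = maximalIdeal A
    · exact hPm ▸ hz
    · let S := insert P ((associatedPrimes.finite A₀ A₀).toFinset.image (Ideal.comap q))
      obtain ⟨h, hhm, hh, hd⟩ := exists_chart_avoid M hM S fun Q hQ => by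
        rcases Finset.mem_insert.mp hQ with rfl | hQ
        · exact ⟨hP, hPm⟩
        · obtain ⟨p, hp, rfl⟩ := Finset.mem_image.mp hQ
          rw [Set.Finite.mem_toFinset] at hp
          haveI := (hass p hp).1
          exact ⟨inferInstance, (hass p hp).2⟩
      have hreg : IsSMulRegular A₀ (q h) := by
        by_contra hn
        have : q h ∈ ⋃ p ∈ associatedPrimes A₀ A₀, (p : Set A₀) := by
          rw [biUnion_associatedPrimes_eq_compl_regular A₀ A₀]
          exact hn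
        simp only [Set.mem_iUnion] at this
        obtain ⟨p, hp, hpm⟩ := this
        exact hh _ (Finset.mem_insert_of_mem (Finset.mem_image_of_mem _ ((Set.Finite.mem_toFinset _).mpr hp))) hpm
      exact absurd (hle (Ideal.subset_span ⟨hhm, hreg, hd⟩)) (hh P (Finset.mem_insert_self _ _))
  choose e lam he hlam using fun i : F => (hF i.2).2.2
  have hrange : Ideal.span (Set.range fun i : F => (i : A)) = Ideal.span G :=
    (congrArg Ideal.span (by ext; simp)).trans hspan.symm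
  refine ⟨F, inferInstance, fun i => i, e, lam, ?_, fun i => (hF i.2).2.1, fun i => (hF i.2).1, hrange ▸ hrad, he,
    hlam⟩
  by_contra hne
  haveI := not_nonempty_iff.mp hne
  obtain ⟨z, rfl⟩ := hq s₀
  have h0 := hrad (show z ∈ maximalIdeal A from fun hu => hs₀ (hu.map q))
  rw [← hrange, Set.range_eq_empty, Ideal.span_empty] at h0
  obtain ⟨N, hN⟩ := h0
  refine one_ne_zero (α := A₀) ((hs₀'.pow N) ?_)
  simp only [smul_eq_mul]
  rw [← map_pow, Ideal.mem_bot.mp hN, map_zero, zero_mul, zero_mul]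

end Groth.Agent.CILift
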