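import Groth.Agent.CILift.Sections
import Groth.Agent.ParaDef.Lift
import Groth.Agent.RamSam.PairFun
import Groth.Agent.ParaFX.PairIff

/-!
# The algebraized module and its functional

Compatible sequences of sections form a finite module which is free of rank one outside finitely many curves; where
these are parafactorial it has a functional, whose reduction trivializes the invertible module we started from.
-/

set_option linter.style.haveILetI false

universe u

open IsLocalRing

namespace Groth.Agent.CILift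

open Groth.Agent Groth.Agent.RamSam

/-- Power series in one element converge in a complete local ring. -/
theorem exists_series {B : Type u} [CommRing B] [IsLocalRing B] [IsNoetherianRing B]
    [IsAdicComplete (maximalIdeal B) B] {t : B} (ht : t ∈ maximalIdeal B) (b : ℕ → B) :
    ∃ β : B, ∀ N, ∃ c, β = (∑ n ∈ Finset.range N, t ^ n * b n) + t ^ N * c := by
  let S : ℕ → B := fun N => ∑ n ∈ Finset.range N, t ^ n * b n
  have hle : ∀ N M, N ≤ M → S M - S N ∈ Ideal.span {t ^ N} := by
    intro N M h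
    induction M, h using Nat.le_induction with
    | base => simp
    | succ M hNM ih =>
      have h1 : S (M + 1) - S N = (S M - S N) + t ^ M * b M := by
        simp only [S, Finset.sum_range_succ]; ring
      rw [h1]
      refine add_mem ih (Ideal.mem_span_singleton.mpr ((pow_dvd_pow t hNM).trans (dvd_mul_right _ _)))
  have hsm : ∀ {N : ℕ} {x y : B}, x ≡ y [SMOD (maximalIdeal B ^ N • ⊤ : Submodule B B)] ↔
      x - y ∈ maximalIdeal B ^ N := fun {N x y} => by rw [SModEq.sub_mem, smul_eq_mul, Ideal.mul_top]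
  obtain ⟨β, hβ⟩ := IsPrecomplete.prec (I := maximalIdeal B) (inferInstance : IsPrecomplete _ B)
    (f := S) (fun {N M} h => hsm.mpr (by
      rw [← neg_sub]
      exact neg_mem ((Ideal.span_singleton_le_iff_mem _).mpr (Ideal.pow_mem_pow ht N) (hle N M h))))
  refine ⟨β, fun N => ?_⟩
  have h2 : β - S N ∈ Ideal.span {t ^ N} := ParaDef.mem_of_forall_sup_pow _ fun M => by
    refine Submodule.mem_sup.mpr ⟨S (max N M) - S N, hle N _ (le_max_left _ _), β - S (max N M), ?_, by ring⟩
    rw [← neg_sub]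
    exact neg_mem (Ideal.pow_le_pow_right (le_max_right N M) (hsm.mp (hβ (max N M))))
  obtain ⟨c, hc⟩ := Ideal.mem_span_singleton.mp h2
  exact ⟨c, sub_eq_iff_eq_add'.mp hc⟩

variable {B A Kb K : Type u} [CommRing B] [CommRing A] [CommRing Kb] [CommRing K] [Algebra B Kb] [Algebra A K]
  {q : B →+* A} {t : B} {π : Kb →+* K} {ι : Type u} [Fintype ι] {fB : ι → B}
  {μ ε : ι → K} {v : ℕ → ι → Kb}

theorem cg_smul (b : B) {n : ℕ} {x y : Kb} (h : Cg t n x y) : Cg t n (b • x) (b • y) := by
  obtain ⟨w, hw⟩ := h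
  exact ⟨algebraMap B Kb b * w, by simp only [Algebra.smul_def]; linear_combination (algebraMap B Kb b) * hw⟩

/-- Compatible sequences of sections. -/
def seqMod (t : B) (fB : ι → B) (v : ℕ → ι → Kb) : Submodule B (ℕ → Kb) where
  carrier := {s | IsSeq t fB v s}
  add_mem' := fun {s s'} h h' k => ⟨isSect_add (h k).1 (h' k).1, by
    obtain ⟨w, hw⟩ := (h k).2
    obtain ⟨w', hw'⟩ := (h' k).2
    exact ⟨w + w', by simp only [Pi.add_apply]; linear_combination hw + hw'⟩⟩
  zero_mem' := fun k => ⟨fun i => ⟨0, zero_mem _, 0, by simp⟩, Cg.refl _ _⟩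
  smul_mem' := fun b s h k => ⟨isSect_smul b (h k).1, cg_smul b (h k).2⟩

/-- Sequences congruent to zero. -/
def nullMod (t : B) (fB : ι → B) (v : ℕ → ι → Kb) : Submodule B ↥(seqMod t fB v) where
  carrier := {s | ∀ k, Cg t (k + 1) ((s : ℕ → Kb) k) 0}
  add_mem' := fun {s s'} h h' k => by
    obtain ⟨w, hw⟩ := h k
    obtain ⟨w', hw'⟩ := h' k
    exact ⟨w + w', by simp only [Submodule.coe_add, Pi.add_apply]; linear_combination hw + hw'⟩
  zero_mem' := fun k => Cg.refl _ _
  smul_mem' := fun b s h k => by simpa using cg_smul b (h k)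

/-- The module of compatible sequences. -/
abbrev LimMod (t : B) (fB : ι → B) (v : ℕ → ι → Kb) : Type u := ↥(seqMod t fB v) ⧸ nullMod t fB v

/-- Sections of the invertible module. -/
def T0 (A : Type u) [CommRing A] [Algebra A K] (μ : ι → K) : Submodule A K where
  carrier := {x | ∀ l, ∃ z, μ l * x = algebraMap A K z}
  add_mem' := fun {x y} h h' l => by
    obtain ⟨z, hz⟩ := h l
    obtain ⟨z', hz'⟩ := h' l
    exact ⟨z + z', by rw [map_add, ← hz, ← hz']; ring⟩
  zero_mem' := fun l => ⟨0, by simp⟩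
  smul_mem' := fun a x h l => by
    obtain ⟨z, hz⟩ := h l
    exact ⟨a * z, by rw [Algebra.smul_def, map_mul, ← hz]; ring⟩

variable [IsLocalRing B] [IsNoetherianRing B] [IsAdicComplete (maximalIdeal B) B] [IsLocalRing A] [IsNoetherianRing A]
  [hinj : Fact (Function.Injective (algebraMap A K))]

set_option maxHeartbeats 1600000 in
/-- The global functional. -/
theorem exists_functional (hS : Setup q t π fB) (hv : ∀ n, Datum t π fB μ n (v n))
    (hc : ∀ n m, n ≤ m → ∀ i, Cg t (n + 1) (v m i) (v n i)) (hD : DivData K (fun i => q (fB i)) μ ε)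
    (hd : Deep (fun i => q (fB i)) 3 (⊥ : Ideal A)) (hd2 : Deep (fun i => q (fB i)) 2 (⊥ : Ideal A))
    [Nonempty ι] (ht : t ∈ maximalIdeal B) (hreg : ∀ b, t * b = 0 → b = 0)
    (hcover : ∀ P : Ideal A, P.IsPrime → P ≠ maximalIdeal A → ∃ i, q (fB i) ∉ P)
    (hB : ParaF.IsParafactorialLocalRing B)
    (hP : ∀ P : PrimeSpectrum B, t ∉ P.asIdeal → ringKrullDim (B ⧸ P.asIdeal) = 1 →
      ParaF.IsParafactorialLocalRing (Localization.AtPrime P.asIdeal)) :
    ∃ ψ : ↥(T0 A μ) →ₗ[A] A, ∀ P : Ideal A, P.IsPrime → ∀ i, q (fB i) ∉ P →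
      ∀ hε : ε i ∈ T0 A μ, ψ ⟨ε i, hε⟩ ∉ P := by
  classical
  obtain ⟨n₁, hn₁⟩ := exists_seq hS hv hc hD hd
  have hcompI : ∀ b (x : Kb), π (b • x) = algebraMap A K (q b) * π x := fun b x => by
    rw [Algebra.smul_def, map_mul, hS.comm]
  have hcg0 : ∀ {n : ℕ} {x y : Kb}, 1 ≤ n → Cg t n x y → π x = π y := fun {n x y} hn h => by
    obtain ⟨w, hw⟩ := h
    rw [hw, map_add, map_mul, map_pow, hS.pi_t, zero_pow (by omega), zero_mul, add_zero]
  -- sections of the reduction
  have hT0 : ∀ x : K, x ∈ T0 A μ → ∃ σ, IsSect t fB (v) 0 σ ∧ π σ = x := fun x hx => by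
    obtain ⟨σ, hσ⟩ := hS.surj x
    refine ⟨σ, fun l => ?_, hσ⟩
    obtain ⟨z, hz⟩ := hx l
    obtain ⟨z, rfl⟩ := hS.surj_q z
    obtain ⟨w, hw⟩ := hS.ker (v 0 l * σ - algebraMap B Kb z) (by
      rw [map_sub, map_mul, (hv 0).1, hσ, hz, hS.comm, sub_self])
    exact ⟨algebraMap B Kb z, algebraMap_mem_sub trivial, w, by linear_combination hw⟩
  have hraise : ∀ x ∈ T0 A μ, ∀ o, ∃ s : ↥(seqMod t fB v), π ((s : ℕ → Kb) 0) =
      algebraMap A K (q (fB o) ^ n₁) * x := fun x hx o => by
    obtain ⟨σ, hσ, rfl⟩ := hT0 x hx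
    obtain ⟨σ', hσ', hcg⟩ := exists_raise_pow hS hv hc hD hd hσ o n₁
    obtain ⟨s, hs, hs0⟩ := hn₁ σ' hσ'
    exact ⟨⟨s, hs⟩, by rw [hs0, hcg0 le_rfl hcg, hcompI, map_pow q]⟩
  have hmem0 : ∀ s : ↥(seqMod t fB v), π ((s : ℕ → Kb) 0) ∈ T0 A μ := fun s l => by
    have hloc : ∀ i, μ i * π ((s : ℕ → Kb) 0) ∈ Sub K ⊤ (q (fB i)) := fun i => by
      obtain ⟨r, hr, hw⟩ := (s.2 0).1 i
      rw [← (hv 0).1 i, ← map_mul, hcg0 le_rfl hw]
      exact hS.map_mem hr
    obtain ⟨z, hz⟩ := cech₀ hD.unit_f hd2 (fun i => μ l * π ((s : ℕ → Kb) 0))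
      (fun i => hD.move i l dvd_rfl (hloc i)) fun i j => by rw [sub_self]; exact zero_mem _
    obtain ⟨o⟩ := ‹Nonempty ι›
    exact ⟨z, sub_eq_zero.mp (sub_bot hinj.out (hD.unit_f o) (hz o))⟩
  -- reduction modulo `t`
  have hdiv : ∀ s : ↥(seqMod t fB v), π ((s : ℕ → Kb) 0) = 0 → ∃ s', s - t • s' ∈ nullMod t fB v := fun s hs => by
    have h0 : ∀ k, π ((s : ℕ → Kb) k) = 0 := by
      intro k
      induction k with
      | zero => exact hs
      | succ k ih => rw [hcg0 (by omega) (s.2 k).2, ih]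
    choose y hy using fun k => hS.ker _ (h0 (k + 1))
    have hy' : IsSeq t fB v y := fun k => by
      refine ⟨fun i => ?_, ?_⟩
      · obtain ⟨r, hr, w, hw⟩ := (s.2 (k + 1)).1 i
        obtain ⟨r', hr'⟩ := hS.ker r (by
          have := congrArg π hw
          rw [map_mul, hy k, map_mul π (algebraMap B Kb t), hS.pi_t, zero_mul, mul_zero, map_add, map_mul, map_pow,
            hS.pi_t, zero_pow (Nat.succ_ne_zero _), zero_mul, add_zero] at this
          exact this.symm)
        refine ⟨r', hS.div_t 1 (by rw [pow_one, ← hr']; exact hr), ?_⟩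
        have h1 : Cg t (k + 1) (v (k + 1) i * y k) r' := ⟨w, sub_eq_zero.mp (hS.reg_t _ (by
          rw [hy k, hr'] at hw
          linear_combination hw))⟩
        exact ((hc k (k + 1) (Nat.le_succ k) i).symm.mul_right _).trans h1
      · obtain ⟨w, hw⟩ := (s.2 (k + 1)).2
        exact ⟨w, sub_eq_zero.mp (hS.reg_t _ (by
          rw [hy (k + 1), hy k] at hw
          linear_combination hw))⟩
    refine ⟨⟨y, hy'⟩, fun k => ?_⟩
    obtain ⟨w, hw⟩ := (s.2 k).2
    exact ⟨-w, by
      simp only [Submodule.coe_sub, Submodule.coe_smul, Pi.sub_apply, Pi.smul_apply]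
      simp only [Algebra.smul_def]
      linear_combination hy k - hw⟩
  have hregT : ∀ x : LimMod t fB v, t • x = 0 → x = 0 := fun x hx => by
    obtain ⟨s, rfl⟩ := Submodule.Quotient.mk_surjective _ x
    rw [← Submodule.Quotient.mk_smul, Submodule.Quotient.mk_eq_zero] at hx
    rw [Submodule.Quotient.mk_eq_zero]
    intro k
    obtain ⟨w, hw⟩ := hx (k + 1)
    have h1 : (s : ℕ → Kb) (k + 1) = algebraMap B Kb t ^ (k + 1) * w := sub_eq_zero.mp (hS.reg_t _ (by
      simp only [Submodule.coe_smul, Pi.smul_apply, Algebra.smul_def] at hw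
      linear_combination hw))
    obtain ⟨w', hw'⟩ := (s.2 k).2
    exact ⟨w - w', by linear_combination h1 - hw'⟩
  -- the image
  let P0 : Submodule A K :=
    { carrier := {x | ∃ s : ↥(seqMod t fB v), π ((s : ℕ → Kb) 0) = x}
      add_mem' := by rintro _ _ ⟨s, rfl⟩ ⟨s', rfl⟩; exact ⟨s + s', map_add π _ _⟩
      zero_mem' := ⟨0, map_zero π⟩
      smul_mem' := by
        rintro a _ ⟨s, rfl⟩
        obtain ⟨b, rfl⟩ := hS.surj_q a
        exact ⟨b • s, by rw [Algebra.smul_def]; exact hcompI b _⟩ }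
  have hP0T : P0 ≤ T0 A μ := by rintro _ ⟨s, rfl⟩; exact hmem0 s
  haveI : IsNoetherian A (T0 A μ) := by
    let Λ : K →ₗ[A] (ι → K) := LinearMap.pi fun l => LinearMap.mulLeft A (μ l)
    let E : (ι → A) →ₗ[A] (ι → K) := LinearMap.pi fun l => (Algebra.linearMap A K).comp (LinearMap.proj l)
    have hsub : ∀ x : T0 A μ, Λ x ∈ LinearMap.range E := fun x => by
      choose z hz using x.2
      exact ⟨z, funext fun l => (hz l).symm⟩
    refine isNoetherian_of_injective (LinearMap.codRestrict (LinearMap.range E) (Λ.comp (Submodule.subtype _)) hsub)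
      fun x y h => Subtype.ext ?_
    obtain ⟨o⟩ := ‹Nonempty ι›
    exact (hD.unit_μ o).mul_left_cancel (congrFun (congrArg Subtype.val h) o)
  have hP0fg : P0.FG := by
    have := (IsNoetherian.noetherian (P0.comap (T0 A μ).subtype)).map (T0 A μ).subtype
    rwa [Submodule.map_comap_subtype, inf_eq_right.mpr hP0T] at this
  -- finiteness
  haveI : Module.Finite B (LimMod t fB v) := by
    obtain ⟨r, x, hx⟩ := Submodule.fg_iff_exists_fin_generating_family.mp hP0fg
    choose g hg using fun l => (hx ▸ Submodule.subset_span ⟨l, rfl⟩ : x l ∈ P0)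
    let φ : (Fin r → B) →ₗ[B] ↥(seqMod t fB v) := Fintype.linearCombination B g
    have hstep : ∀ s, ∃ (b : Fin r → B) (s' : ↥(seqMod t fB v)), s - φ b - t • s' ∈ nullMod t fB v := fun s => by
      obtain ⟨a, ha⟩ := (Submodule.mem_span_range_iff_exists_fun A).mp (hx.ge (⟨s, rfl⟩ : π ((s : ℕ → Kb) 0) ∈ P0))
      choose b hb using fun l => hS.surj_q (a l)
      obtain ⟨s', hs'⟩ := hdiv (s - φ b) (by
        simp only [φ, Fintype.linearCombination_apply, Submodule.coe_sub, Submodule.coe_sum, Submodule.coe_smul,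
          Pi.sub_apply, Finset.sum_apply, Pi.smul_apply, map_sub, map_sum, hcompI, hg, hb]
        rw [← ha]
        simp [Algebra.smul_def])
      exact ⟨b, s', hs'⟩
    choose b s' hbs using hstep
    refine Module.Finite.of_surjective ((nullMod t fB v).mkQ.comp φ) fun X => ?_
    obtain ⟨s, rfl⟩ := Submodule.Quotient.mk_surjective _ X
    let it : ℕ → ↥(seqMod t fB v) := Nat.rec s fun _ p => s' p
    choose β hβ using fun l => exists_series ht (fun n => b (it n) l)
    have happrox : ∀ N, s - φ (fun l => ∑ n ∈ Finset.range N, t ^ n * b (it n) l) - t ^ N • it N ∈ nullMod t fB v := by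
      intro N
      induction N with
      | zero =>
        have : s - φ (fun l => ∑ n ∈ Finset.range 0, t ^ n * b (it n) l) - t ^ 0 • it 0 = 0 := by
          have h0 : (fun l : Fin r => ∑ n ∈ Finset.range 0, t ^ n * b (it n) l) = 0 := by funext l; simp
          rw [h0, map_zero, pow_zero, one_smul, sub_zero]
          exact sub_self s
        rw [this]
        exact zero_mem _
      | succ N ih =>
        have h1 := add_mem ih ((nullMod t fB v).smul_mem (t ^ N) (hbs (it N)))
        have h2 : (fun l => ∑ n ∈ Finset.range (N + 1), t ^ n * b (it n) l) =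
            (fun l => ∑ n ∈ Finset.range N, t ^ n * b (it n) l) + t ^ N • b (it N) := by
          funext l; simp [Finset.sum_range_succ]
        rw [h2, map_add, map_smul]
        convert h1 using 1
        rw [smul_sub, smul_sub, smul_smul, ← pow_succ]
        show _ = _ + (t ^ N • it N - t ^ N • φ (b (it N)) - t ^ (N + 1) • it (N + 1))
        abel
    refine ⟨β, ?_⟩
    rw [LinearMap.comp_apply, Submodule.mkQ_apply, Submodule.Quotient.eq]
    intro k
    choose c hc' using fun l => hβ l (k + 1)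
    obtain ⟨w, hw⟩ := happrox (k + 1) k
    refine ⟨((φ c : ↥(seqMod t fB v)) : ℕ → Kb) k - ((it (k + 1) : ↥(seqMod t fB v)) : ℕ → Kb) k - w, ?_⟩
    have hβeq : β = (fun l => ∑ n ∈ Finset.range (k + 1), t ^ n * b (it n) l) + t ^ (k + 1) • c := by
      funext l; simp [hc' l]
    rw [hβeq, map_add, map_smul]
    simp only [Submodule.coe_sub, Submodule.coe_add, Submodule.coe_smul, Pi.sub_apply, Pi.add_apply,
      Pi.smul_apply] at hw ⊢
    simp only [Algebra.smul_def, map_pow] at hw ⊢
    linear_combination (-1 : Kb) * hw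
  -- rank one off finitely many curves
  have hεT : ∀ i, ε i ∈ T0 A μ := fun i l => hD.glob i l
  choose e he using fun i => hraise (ε i) (hεT i) i
  let eT : ι → LimMod t fB v := fun i => Submodule.Quotient.mk (e i)
  have hy : ∀ i, ∃ y : B, (∃ d, q y = q (fB i) ^ d) ∧ ∀ x : LimMod t fB v, ∃ b, y • x = b • eT i := fun i => by
    let Q := LimMod t fB v ⧸ Submodule.span B {eT i}
    let c := fB i ^ (n₁ + 1)
    have hrange : LinearMap.range (algebraMap B (Module.End B Q) c) ≤ Ideal.span {t} • (⊤ : Submodule B Q) := by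
      rintro _ ⟨X, rfl⟩
      obtain ⟨x, rfl⟩ := Submodule.Quotient.mk_surjective _ X
      obtain ⟨s, rfl⟩ := Submodule.Quotient.mk_surjective _ x
      obtain ⟨z, hz⟩ := hmem0 s i
      obtain ⟨z, rfl⟩ := hS.surj_q z
      obtain ⟨s'', hs''⟩ := hdiv (c • s - z • e i) (by
        simp only [Submodule.coe_sub, Submodule.coe_smul, Pi.sub_apply, Pi.smul_apply, map_sub, hcompI, he, c,
          map_pow]
        have hfr := hD.frame i
        linear_combination algebraMap A K (q (fB i)) ^ n₁ * ε i * hz -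
          algebraMap A K (q (fB i)) ^ n₁ * π ((s : ℕ → Kb) 0) * hfr)
      rw [Module.algebraMap_end_apply, Submodule.ideal_span_singleton_smul, Submodule.mem_smul_pointwise_iff_exists]
      refine ⟨Submodule.Quotient.mk (Submodule.Quotient.mk s''), trivial, ?_⟩
      show (Submodule.Quotient.mk (Submodule.Quotient.mk (t • s'')) : Q) =
        Submodule.Quotient.mk (Submodule.Quotient.mk (c • s))
      rw [Submodule.Quotient.eq, Submodule.mem_span_singleton]
      refine ⟨-z, ?_⟩
      show (Submodule.Quotient.mk (-z • e i) : LimMod t fB v) = Submodule.Quotient.mk (t • s'' - c • s)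
      rw [Submodule.Quotient.eq]
      convert hs'' using 1
      module
    obtain ⟨p, hp1, -, hp2, hp3⟩ :=
      LinearMap.exists_monic_and_natDegree_eq_and_coeff_mem_pow_and_aeval_eq_zero B (algebraMap B (Module.End B Q) c)
        (Ideal.span {t}) hrange
    refine ⟨p.eval c, ⟨(n₁ + 1) * p.natDegree, ?_⟩, fun x => ?_⟩
    · rw [Polynomial.eval_eq_sum_range, map_sum, Finset.sum_range_succ, hp1.coeff_natDegree, one_mul]
      rw [Finset.sum_eq_zero fun k hk => ?_, zero_add, map_pow, map_pow, ← pow_mul]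
      obtain ⟨w, hw⟩ := Ideal.mem_span_singleton.mp
        (Ideal.pow_le_self (Nat.sub_ne_zero_of_lt (Finset.mem_range.mp hk)) (hp2 k))
      rw [hw, map_mul, map_mul, hS.q_t, zero_mul, zero_mul]
    · rw [Polynomial.aeval_algebraMap_apply_eq_algebraMap_eval] at hp3
      have h0 := LinearMap.congr_fun hp3 (Submodule.Quotient.mk x)
      rw [Module.algebraMap_end_apply, LinearMap.zero_apply, ← Submodule.Quotient.mk_smul,
        Submodule.Quotient.mk_eq_zero, Submodule.mem_span_singleton] at h0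
      obtain ⟨b, hb⟩ := h0
      exact ⟨b, hb.symm⟩
  choose y hyq hyT using hy
  have hann : ∀ i (b : B), b • eT i = 0 → b = 0 := by
    intro i b hb
    suffices ∀ N, b ∈ Ideal.span {t ^ N} by
      rw [← Ideal.mem_bot, ← Ideal.iInf_pow_eq_bot_of_isLocalRing _ (maximalIdeal.isMaximal B).ne_top,
        Submodule.mem_iInf]
      exact fun N => (Ideal.span_singleton_le_iff_mem _).mpr (Ideal.pow_mem_pow ht N) (this N)
    intro N
    induction N generalizing b with
    | zero => simp
    | succ N ih =>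
      have hb' := hb
      rw [← Submodule.Quotient.mk_smul, Submodule.Quotient.mk_eq_zero] at hb'
      have h0 := hcg0 le_rfl (hb' 0)
      simp only [Submodule.coe_smul, Pi.smul_apply, hcompI, he, map_zero] at h0
      obtain ⟨ue, hue⟩ : IsUnit (ε i) := isUnit_of_mul_isUnit_right (hD.frame i ▸ hD.unit_f i)
      have hqb : q b = 0 := hinj.out (by
        rw [map_zero]
        rw [← mul_assoc] at h0
        have hu : IsUnit (algebraMap A K (q (fB i) ^ n₁)) := by rw [map_pow]; exact (hD.unit_f i).pow _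
        exact hu.mul_left_eq_zero.mp ((hue ▸ ue.isUnit : IsUnit (ε i)).mul_left_eq_zero.mp h0))
      obtain ⟨b₁, rfl⟩ := hS.ker_q b hqb
      obtain ⟨c, hc'⟩ := Ideal.mem_span_singleton.mp (ih b₁ (hregT _ (by rw [smul_smul]; exact hb)))
      exact Ideal.mem_span_singleton.mpr ⟨c, by rw [hc', pow_succ]; ring⟩
  let Y : TopologicalSpace.Closeds (PrimeSpectrum B) :=
    ⟨PrimeSpectrum.zeroLocus (Set.range y), PrimeSpectrum.isClosed_zeroLocus _⟩
  have hYmem : ∀ P : PrimeSpectrum B, P ∈ Y ↔ ∀ i, y i ∈ P.asIdeal := fun P => by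
    show P ∈ PrimeSpectrum.zeroLocus _ ↔ _
    rw [PrimeSpectrum.mem_zeroLocus, Set.range_subset_iff]
    rfl
  obtain ⟨ψ, hψ⟩ := exists_functional_of_pair B Y (fun P hPY => by
    rcases eq_or_ne P (closedPoint B) with rfl | hPm
    · exact ParaFX.PairIff.of_ringEquiv (IsLocalization.atUnits B (closedPoint B).asIdeal.primeCompl
        (S := Localization.AtPrime (closedPoint B).asIdeal) fun x hx => notMem_maximalIdeal.1 hx).toRingEquiv.symm hB
    rw [hYmem] at hPY
    have hmax : ∀ Q : Ideal B, Q.IsPrime → P.asIdeal ≤ Q → t ∈ Q → Q = maximalIdeal B := fun Q hQ hPQ htQ => by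
      have hker : RingHom.ker q ≤ Q := fun b hb => by
        obtain ⟨c, rfl⟩ := hS.ker_q b hb
        exact Q.mul_mem_right _ htQ
      haveI : (Q.map q).IsPrime := Ideal.map_isPrime_of_surjective hS.surj_q hker
      have hQeq : (Q.map q).comap q = Q := by
        rw [Ideal.comap_map_of_surjective q hS.surj_q, ← RingHom.ker_eq_comap_bot, sup_eq_left.mpr hker]
      haveI : IsLocalHom q := IsLocalHom.of_surjective q hS.surj_q
      by_contra hQm
      obtain ⟨i, hi⟩ := hcover (Q.map q) inferInstance fun h => hQm (by rw [← hQeq, h]; exact maximalIdeal_comap q)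
      obtain ⟨d, hd'⟩ := hyq i
      exact hi (Ideal.IsPrime.mem_of_pow_mem inferInstance d (hd' ▸ Ideal.mem_map_of_mem q (hPQ (hPY i))))
    have htP : t ∉ P.asIdeal := fun h => hPm (PrimeSpectrum.ext (hmax _ P.2 le_rfl h))
    refine hP P htP ?_
    haveI : IsLocalRing (B ⧸ P.asIdeal) := IsLocalRing.of_surjective' (Ideal.Quotient.mk _) Ideal.Quotient.mk_surjective
    haveI : IsLocalHom (Ideal.Quotient.mk P.asIdeal) := IsLocalHom.of_surjective _ Ideal.Quotient.mk_surjective
    have hmin : maximalIdeal (B ⧸ P.asIdeal) ∈ (Ideal.span {Ideal.Quotient.mk P.asIdeal t}).minimalPrimes := by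
      refine ⟨⟨inferInstance, (Ideal.span_singleton_le_iff_mem _).mpr (map_nonunit _ t ht)⟩, ?_⟩
      rintro Q ⟨hQ, hQt⟩ -
      haveI := hQ
      have h := hmax (Q.comap (Ideal.Quotient.mk P.asIdeal)) inferInstance
        (fun x hx => by rw [Ideal.mem_comap, Ideal.Quotient.eq_zero_iff_mem.mpr hx]; exact zero_mem _)
        (hQt (Ideal.mem_span_singleton_self _))
      rw [← Ideal.map_comap_of_surjective (Ideal.Quotient.mk P.asIdeal) Ideal.Quotient.mk_surjective Q, h,
        ← maximalIdeal_comap (f := Ideal.Quotient.mk P.asIdeal),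
        Ideal.map_comap_of_surjective _ Ideal.Quotient.mk_surjective]
    have hle : (maximalIdeal (B ⧸ P.asIdeal)).height ≤ 1 :=
      Ideal.height_le_one_of_isPrincipal_of_mem_minimalPrimes _ _ hmin
    have hge : (maximalIdeal (B ⧸ P.asIdeal)).height ≠ 0 := fun h0 => by
      rw [Ideal.height_eq_zero_iff_eq_bot] at h0
      exact htP (Ideal.Quotient.eq_zero_iff_mem.mp (Ideal.mem_bot.mp (h0 ▸ map_nonunit _ t ht)))
    rw [← maximalIdeal_height_eq_ringKrullDim, le_antisymm hle (Order.one_le_iff_ne_zero.mpr hge)]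
    rfl)
    (LimMod t fB v) fun P hPY => by
      rw [hYmem] at hPY
      push Not at hPY
      obtain ⟨i, hi⟩ := hPY
      refine ⟨eT i, fun x => ?_, fun b hb => ⟨y i, hi, by rw [hann i b hb, mul_zero]⟩⟩
      obtain ⟨b, hb⟩ := hyT i x
      exact ⟨y i, hi, b, hb⟩
  -- back to the reduction
  have hφ : ∀ s : ↥(seqMod t fB v), π ((s : ℕ → Kb) 0) = 0 → q (ψ (Submodule.Quotient.mk s)) = 0 := fun s hs => by
    obtain ⟨s', hs'⟩ := hdiv s hs
    rw [(Submodule.Quotient.eq _).mpr hs', Submodule.Quotient.mk_smul, map_smul, smul_eq_mul, map_mul, hS.q_t, zero_mul]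
  choose sec hsec using fun x : P0 => x.2
  have hsec' : ∀ (x : P0) (s : ↥(seqMod t fB v)), π ((s : ℕ → Kb) 0) = x →
      q (ψ (Submodule.Quotient.mk (sec x))) = q (ψ (Submodule.Quotient.mk s)) := fun x s hs => by
    have := hφ (sec x - s) (by
      simp only [Submodule.coe_sub, Pi.sub_apply, map_sub, hs, hsec, sub_self])
    rwa [Submodule.Quotient.mk_sub, map_sub, map_sub, sub_eq_zero] at this
  let φ₀ : P0 →ₗ[A] A :=
    { toFun := fun x => q (ψ (Submodule.Quotient.mk (sec x)))
      map_add' := fun x x' => by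
        rw [hsec' (x + x') (sec x + sec x') (by simp [hsec]), Submodule.Quotient.mk_add, map_add, map_add]
      map_smul' := fun a x => by
        obtain ⟨b, rfl⟩ := hS.surj_q a
        rw [hsec' (q b • x) (b • sec x) (by
          simp only [Submodule.coe_smul, Pi.smul_apply, hcompI, hsec]
          rw [Algebra.smul_def]),
          Submodule.Quotient.mk_smul, map_smul, smul_eq_mul, map_mul, RingHom.id_apply, smul_eq_mul] }
  obtain ⟨a, ha, hareg, ha'⟩ := hd2
  have hEx : ∀ x : T0 A μ, ∃ z : A, ∃ E, ∃ h : a ^ E • (x : K) ∈ P0, a ^ E * z = φ₀ ⟨_, h⟩ := fun x => by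
    let J : Ideal A := Submodule.comap (LinearMap.toSpanSingleton A K (x : K)) P0
    have hJ : ∀ o, ∃ N, q (fB o) ^ N ∈ J := fun o => by
      obtain ⟨s, hs⟩ := hraise x x.2 o
      exact ⟨n₁, s, by rw [LinearMap.toSpanSingleton_apply, Algebra.smul_def, hs]⟩
    obtain ⟨E, hE1, hE⟩ := exists_pow_mem ha J hJ
    obtain ⟨b, hb, hbreg, -⟩ := ha' E hE1
    obtain ⟨G, -, hG⟩ := exists_pow_mem hb J hJ
    have hEm : a ^ E • (x : K) ∈ P0 := hE
    have hGm : b ^ G • (x : K) ∈ P0 := hG
    have heq : b ^ G * φ₀ ⟨_, hEm⟩ = a ^ E * φ₀ ⟨_, hGm⟩ := by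
      rw [← smul_eq_mul, ← smul_eq_mul, ← map_smul, ← map_smul]
      exact congrArg φ₀ (Subtype.ext (smul_comm (b ^ G) (a ^ E) (x : K)))
    have hmem : φ₀ ⟨_, hEm⟩ ∈ ⊥ ⊔ Ideal.span {a ^ E} := pow_cancel hbreg G _ (by
      rw [heq]; exact Ideal.mem_sup_right (Ideal.mul_mem_right _ _ (Ideal.mem_span_singleton_self _)))
    rw [bot_sup_eq] at hmem
    obtain ⟨z, hz⟩ := Ideal.mem_span_singleton'.mp hmem
    exact ⟨z, E, hEm, by rw [mul_comm, hz]⟩
  choose ext E hE hext using hEx
  have huniq : ∀ (x : T0 A μ) (F : ℕ) (h : a ^ F • (x : K) ∈ P0) (w : A), a ^ F * w = φ₀ ⟨_, h⟩ → ext x = w := by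
    intro x F h w hw
    refine sub_eq_zero.mp (Ideal.mem_bot.mp (pow_cancel hareg (E x + F) _ (Ideal.mem_bot.mpr ?_)))
    have h1 : a ^ F * φ₀ ⟨_, hE x⟩ = a ^ E x * φ₀ ⟨_, h⟩ := by
      rw [← smul_eq_mul, ← smul_eq_mul, ← map_smul, ← map_smul]
      exact congrArg φ₀ (Subtype.ext (smul_comm (a ^ F) (a ^ E x) (x : K)))
    rw [pow_add]
    linear_combination a ^ F * hext x - a ^ E x * hw + h1
  let ψ' : ↥(T0 A μ) →ₗ[A] A :=
    { toFun := ext
      map_add' := fun x x' => by
        have hs : a ^ (E x + E x') • ((x + x' : T0 A μ) : K) ∈ P0 := by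
          rw [Submodule.coe_add, smul_add]
          refine add_mem ?_ ?_
          · rw [add_comm (E x), pow_add, mul_smul]; exact P0.smul_mem _ (hE x)
          · rw [pow_add, mul_smul]; exact P0.smul_mem _ (hE x')
        refine huniq (x + x') _ hs _ ?_
        have h1 : (⟨_, hs⟩ : P0) = a ^ E x' • (⟨_, hE x⟩ : P0) + a ^ E x • (⟨_, hE x'⟩ : P0) := Subtype.ext (by
          simp only [Submodule.coe_add, Submodule.coe_smul, smul_smul, smul_add]
          rw [pow_add, mul_comm (a ^ E x') (a ^ E x)])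
        rw [h1, map_add, map_smul, map_smul, smul_eq_mul, smul_eq_mul, ← hext, ← hext, pow_add]
        ring
      map_smul' := fun c x => by
        have hs : a ^ E x • ((c • x : T0 A μ) : K) ∈ P0 := by
          rw [Submodule.coe_smul, smul_comm]; exact P0.smul_mem _ (hE x)
        refine huniq (c • x) _ hs _ ?_
        have h1 : (⟨_, hs⟩ : P0) = c • (⟨_, hE x⟩ : P0) := Subtype.ext (smul_comm (a ^ E x) c (x : K))
        rw [h1, map_smul, RingHom.id_apply, smul_eq_mul, smul_eq_mul, ← hext]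
        ring }
  refine ⟨ψ', fun P hPprime i hi hε hmem => ?_⟩
  haveI := hPprime
  let Pt : PrimeSpectrum B := ⟨P.comap q, inferInstance⟩
  obtain ⟨d, hd'⟩ := hyq i
  have hyP : y i ∉ Pt.asIdeal := fun h => by
    have : q (y i) ∈ P := h
    rw [hd'] at this
    exact hi (Ideal.IsPrime.mem_of_pow_mem inferInstance d this)
  obtain ⟨X, hX⟩ := hψ Pt fun h => hyP ((hYmem _).mp h i)
  have he' : ψ (eT i) ∉ Pt.asIdeal := fun h => by
    obtain ⟨b, hb⟩ := hyT i X
    have h1 := congrArg ψ hb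
    rw [map_smul, map_smul, smul_eq_mul, smul_eq_mul] at h1
    exact ((Pt.2.mem_or_mem (h1 ▸ Pt.asIdeal.mul_mem_left b h : y i * ψ X ∈ Pt.asIdeal)).elim hyP hX)
  refine he' ?_
  show q (ψ (eT i)) ∈ P
  have hmemP0 : q (fB i) ^ n₁ • (ε i) ∈ P0 := ⟨e i, by rw [he i, Algebra.smul_def]⟩
  have h2 : ψ' (q (fB i) ^ n₁ • (⟨ε i, hε⟩ : T0 A μ)) = φ₀ ⟨_, hmemP0⟩ :=
    huniq _ 0 (by rw [pow_zero, one_smul]; exact hmemP0) _
      (((congrArg (· * _) (pow_zero a)).trans (one_mul _)).trans (congrArg φ₀ (Subtype.ext (by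
        show q (fB i) ^ n₁ • ε i = a ^ 0 • (q (fB i) ^ n₁ • ε i)
        rw [pow_zero, one_smul]))))
  rw [map_smul, smul_eq_mul] at h2
  have h3 : φ₀ ⟨_, hmemP0⟩ = q (ψ (eT i)) := hsec' ⟨_, hmemP0⟩ (e i)
    ((he i).trans (Algebra.smul_def _ _).symm)
  rw [← h3, ← h2]
  exact P.mul_mem_left _ hmem

end Groth.Agent.CILift
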