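import Groth.Agent.RamSam.PairFun
import Groth.Agent.QCoh.Pullback

/-!
# Invertible modules on a punctured spectrum and on its hypersurface

Trivializations of invertible modules and functionals without zeros on their modules of sections determine one
another in depth two.
-/

set_option autoImplicit false
set_option linter.style.haveILetI false
set_option linter.unusedSectionVars false
set_option backward.isDefEq.respectTransparency false
set_option backward.isDefEq.respectTransparency.types false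

universe u

open CategoryTheory CategoryTheory.Limits AlgebraicGeometry TopologicalSpace Opposite

namespace Groth.Agent.CILift

open Groth.Agent.RamSam Groth.Agent.ParaFX Groth.Agent.ParaFX.StalkIso Groth.Agent.ParaFX.PairStalk

noncomputable section

/-- Restriction to the punctured spectrum is bijective on all functions in depth two. -/
theorem punctured_bijective_all (B : Type u) [CommRing B] [IsLocalRing B] [IsNoetherianRing B]
    (hd : (2 : ℕ∞) ≤ LocCoh.depth B B) (O : (Spec (CommRingCat.of B)).Opens) :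
    Function.Bijective ((Spec (CommRingCat.of B)).presheaf.map
      (homOfLE (inf_le_left : O ⊓ FEt.puncturedSpec B ≤ O)).op) := by
  let X := Spec (CommRingCat.of B)
  let P := FEt.puncturedSpec B
  have hb := ParaFX.punctured_bijective B hd
  rw [← ConcreteCategory.isIso_iff_bijective] at hb ⊢
  haveI := hb
  by_cases hO : IsLocalRing.closedPoint B ∈ O
  · have hOt := mem_closedPoint_eq_top hO
    subst hOt
    rw [show (homOfLE (inf_le_left : (⊤ : X.Opens) ⊓ P ≤ ⊤)).op =
      (homOfLE (le_top : P ≤ ⊤)).op ≫ (eqToHom (top_inf_eq P)).op from rfl, X.presheaf.map_comp]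
    infer_instance
  · have he : O ⊓ P = O := inf_eq_left.2 fun x hx hxY => hO (by
      rwa [show x = IsLocalRing.closedPoint B from hxY] at hx)
    rw [show homOfLE (inf_le_left : O ⊓ P ≤ O) = eqToHom he from rfl]
    infer_instance

set_option maxHeartbeats 800000 in
/-- A quasi-coherent module trivial on the punctured spectrum has a functional without zeros there. -/
theorem functional_of_trivial (B : Type u) [CommRing B] [IsLocalRing B] [IsNoetherianRing B]
    (hd : (2 : ℕ∞) ≤ LocCoh.depth B B) (U : (Spec (CommRingCat.of B)).Opens) (hU : U = FEt.puncturedSpec B)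
    (NA : ModuleCat.{u} (CommRingCat.of B))
    (e : Nonempty ((tilde (R := CommRingCat.of B) NA).restrict U.ι ≅ Coh.structureModule (U : Scheme.{u}))) :
    ∃ ψ : NA →ₗ[CommRingCat.of B] CommRingCat.of B, ∀ P : Ideal B, P.IsPrime → P ≠ IsLocalRing.maximalIdeal B → ∃ x, ψ x ∉ P := by
  subst hU
  obtain ⟨e⟩ := e
  let A := CommRingCat.of B
  let X := Spec A
  let U : X.Opens := FEt.puncturedSpec B
  haveI : IsNoetherianRing A := inferInstanceAs (IsNoetherianRing B)
  haveI : IsNoetherian X := inferInstance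
  let E : X.Modules := tilde (R := A) NA
  have hEq : Coh.IsQCoh E := inferInstanceAs ((tilde (R := A) NA).IsQuasicoherent)
  let O := Coh.structureModule X
  let η : E.restrict U.ι ≅ O.restrict U.ι := e ≪≫ (Scheme.Modules.restrictUnitIso U.ι).symm
  obtain ⟨φ, hφ⟩ := (map_bijective_of_functions U (punctured_bijective_all B hd) E O
    (StalkPair.isInvertible_structureModule X)).2 η.hom
  have hbij : ∀ q : X, q ∈ U → Function.Bijective ((DerSch.stalkFunctor X q).map φ) := by
    intro q hq
    haveI : IsIso ((Scheme.Modules.restrictFunctor U.ι).map φ) :=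
      (congrArg (fun g => IsIso g) hφ).mpr inferInstance
    haveI : IsIso ((Scheme.Modules.pullback U.ι).map φ) :=
      (NatIso.isIso_map_iff (Scheme.Modules.restrictFunctorIsoPullback U.ι) φ).1 inferInstance
    exact (bij_pullback_iff U.ι φ ⟨q, hq⟩).1 (bij_of_isIso _ _)
  let η₀ : NA ≃ₗ[A] (moduleSpecΓFunctor (R := A)).obj E := (tilde.toTildeΓNatIso.app NA).toLinearEquiv
  let sec : NA → Γ(E, ⊤) := fun x => η₀ x
  let ψ : NA →ₗ[A] A :=
    { toFun := fun x => (Scheme.ΓSpecIso A).hom (φ.app ⊤ (sec x) : Γ(X, ⊤))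
      map_add' := fun x y => by
        rw [show sec (x + y) = sec x + sec y from map_add η₀ x y, map_add]
        exact map_add _ _ _
      map_smul' := fun r x => by
        have h1 : sec (r • x) = (Scheme.ΓSpecIso A).inv r • sec x :=
          (map_smul η₀ r x).trans (unit_smul_eq A E r (sec x))
        rw [h1, Scheme.Modules.Hom.app_smul, RingHom.id_apply, smul_eq_mul]
        show (Scheme.ΓSpecIso A).hom ((Scheme.ΓSpecIso A).inv r * (show Γ(X, ⊤) from φ.app ⊤ (sec x))) = _
        rw [map_mul, ← CommRingCat.comp_apply, Iso.inv_hom_id, CommRingCat.id_apply]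
        rfl }
  refine ⟨ψ, fun P hP hPm => ?_⟩
  let q : X := (⟨P, hP⟩ : PrimeSpectrum B)
  have hq : q ∈ U := fun h => hPm (congrArg PrimeSpectrum.asIdeal h)
  obtain ⟨s, hs⟩ := nonempty_linearEquiv_stalk U.ι ⟨q, hq⟩ (bij_stalkMap U.ι _)
    (((Scheme.Modules.restrictFunctorIsoPullback U.ι).app E).symm ≪≫ e)
  obtain ⟨t, h1, h2⟩ := rankOne_sections A E hEq q s hs
  have he := stalk_gen_of_rankOne A E hEq q t h1 h2
  refine ⟨η₀.symm t, ?_⟩
  show (Scheme.ΓSpecIso A).hom (φ.app ⊤ (sec (η₀.symm t)) : Γ(X, ⊤)) ∉ P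
  rw [show sec (η₀.symm t) = t from η₀.apply_symm_apply t]
  let f := ((DerSch.stalkFunctor X q).map φ).hom
  obtain ⟨a, ha⟩ : ∃ a : X.presheaf.stalk q, a • E.presheaf.germ ⊤ q trivial t =
      (hbij q hq).2.hasRightInverse.choose (RefX.unitStalk q 1) := he.2 _
  let v := X.presheaf.germ ⊤ q trivial (φ.app ⊤ t : Γ(X, ⊤))
  have hfe : f (E.presheaf.germ ⊤ q trivial t) = RefX.unitStalk q v := by
    refine (ZClosLib.stalkMap_germ φ (U := ⊤) (x := q) trivial t).trans ?_
    rw [show RefX.unitStalk q v = v • RefX.unitStalk q 1 by rw [← map_smul, smul_eq_mul, mul_one]]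
    have hone : RefX.unitStalk q 1 = (Coh.structureModule X).presheaf.germ ⊤ q trivial
        ((1 : Γ(X, ⊤)) : Γ(Coh.structureModule X, ⊤)) := one_smul (X.presheaf.stalk q) _
    rw [hone, ← QCoh.germ_smul']
    exact congrArg _ (mul_one (show Γ(X, ⊤) from φ.app ⊤ t)).symm
  have hav : a * v = 1 := by
    refine (RefX.unitStalk q).injective ?_
    have h1 : f (a • E.presheaf.germ ⊤ q trivial t) = RefX.unitStalk q 1 := by
      rw [ha]
      exact (hbij q hq).2.hasRightInverse.choose_spec _
    rw [f.map_smul, hfe] at h1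
    exact ((RefX.unitStalk q).map_smul a v).trans h1
  have hv : IsUnit v := isUnit_of_mul_isUnit_right (hav ▸ isUnit_one)
  have h3 := (X.mem_basicOpen (U := ⊤) (φ.app ⊤ t : Γ(X, ⊤)) q trivial).2 hv
  rw [basicOpen_eq_of_affine'] at h3
  exact h3

variable {R : CommRingCat.{u}} (U : (Spec R).Opens) {L : (U : Scheme.{u}).Modules} {E : (Spec R : Scheme.{u}).Modules}

/-- The module of sections of a quasi-coherent extension has rank one where the given module is invertible. -/
theorem rankOne_of_invertible (hL : PicF.IsInvertible L) (hEq : Coh.IsQCoh E) (eE : E.restrict U.ι ≅ L)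
    (P : Ideal R) [hP : P.IsPrime] (hPU : (⟨P, hP⟩ : PrimeSpectrum R) ∈ (U : Set (Spec R))) :
    RankOne ((moduleSpecΓFunctor (R := R)).obj E) P := by
  let X := Spec R
  let q : X := (⟨P, hP⟩ : PrimeSpectrum R)
  obtain ⟨W, hqW, ⟨eW⟩⟩ := hL ⟨q, hPU⟩
  let g := W.ι ≫ U.ι
  let ε : (Scheme.Modules.pullback g).obj E ≅ Coh.structureModule (W : Scheme.{u}) :=
    ((Scheme.Modules.pullbackComp W.ι U.ι).app E).symm ≪≫
      (Scheme.Modules.pullback W.ι).mapIso (((Scheme.Modules.restrictFunctorIsoPullback U.ι).app E).symm ≪≫ eE) ≪≫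
      ((Scheme.Modules.restrictFunctorIsoPullback W.ι).app L).symm ≪≫ eW
  obtain ⟨s, hs⟩ := nonempty_linearEquiv_stalk g ⟨⟨q, hPU⟩, hqW⟩ (bij_stalkMap g _) ε
  obtain ⟨t, h1, h2⟩ := rankOne_sections R E hEq q s hs
  exact ⟨t, h1, h2⟩

set_option maxHeartbeats 800000 in
/-- A functional without zeros on an open trivializes an invertible module there. -/
theorem iso_of_functional (hL : PicF.IsInvertible L) (hEq : Coh.IsQCoh E) (eE : E.restrict U.ι ≅ L)
    (ψ : (moduleSpecΓFunctor (R := R)).obj E →ₗ[R] R)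
    (hψ : ∀ q : Spec R, q ∈ U → ∃ x, ψ x ∉ (q : PrimeSpectrum R).asIdeal) :
    Nonempty (L ≅ Coh.structureModule (U : Scheme.{u})) := by
  let X := Spec R
  haveI : IsIso (Scheme.Modules.fromTildeΓ (R := R) E) :=
    (isQuasicoherent_iff_isIso_fromTildeΓ (R := R) E).1 hEq
  let M := (moduleSpecΓFunctor (R := R)).obj E
  let O := Coh.structureModule X
  let MO := (moduleSpecΓFunctor (R := R)).obj O
  let l : M →ₗ[R] MO :=
    { toFun := fun x => ((Scheme.ΓSpecIso R).inv (ψ x) : Γ(X, ⊤))
      map_add' := fun x y => by rw [map_add, map_add]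
      map_smul' := fun r x => by
        rw [map_smul, smul_eq_mul, map_mul]
        exact (unit_smul_eq R O r ((Scheme.ΓSpecIso R).inv (ψ x) : Γ(X, ⊤))).symm }
  let ψ' : M ⟶ MO := ModuleCat.homEquiv.symm l
  let adj := tilde.adjunction (R := R)
  let φ' : tilde M ⟶ O := (adj.homEquiv M O).symm ψ'
  let ε : tilde M ≅ E := asIso (Scheme.Modules.fromTildeΓ (R := R) E)
  let φ : E ⟶ O := ε.inv ≫ φ'
  have hunit : adj.unit.app M ≫ (moduleSpecΓFunctor (R := R)).map ε.hom = 𝟙 M :=
    adj.right_triangle_components E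
  have key : (moduleSpecΓFunctor (R := R)).map φ = ψ' := by
    have h1 : adj.unit.app M ≫ (moduleSpecΓFunctor (R := R)).map φ' = ψ' := by
      exact (adj.homEquiv_unit (X := M) (Y := O) (f := φ')).symm.trans ((adj.homEquiv M O).apply_symm_apply ψ')
    rw [← Category.id_comp ((moduleSpecΓFunctor (R := R)).map φ), ← hunit, Category.assoc, ← Functor.map_comp,
      Iso.hom_inv_id_assoc]
    exact h1
  have happ : ∀ x : M, φ.app ⊤ x = ((Scheme.ΓSpecIso R).inv (ψ x) : Γ(X, ⊤)) := fun x =>
    ConcreteCategory.congr_hom key x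
  have hbij : ∀ q : X, q ∈ U → Function.Bijective ((DerSch.stalkFunctor X q).map φ) := by
    intro q hq
    obtain ⟨W, hqW, ⟨eW⟩⟩ := hL ⟨q, hq⟩
    let g := W.ι ≫ U.ι
    let εW : (Scheme.Modules.pullback g).obj E ≅ Coh.structureModule (W : Scheme.{u}) :=
      ((Scheme.Modules.pullbackComp W.ι U.ι).app E).symm ≪≫
        (Scheme.Modules.pullback W.ι).mapIso (((Scheme.Modules.restrictFunctorIsoPullback U.ι).app E).symm ≪≫ eE) ≪≫
        ((Scheme.Modules.restrictFunctorIsoPullback W.ι).app L).symm ≪≫ eW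
    obtain ⟨s, hs⟩ := nonempty_linearEquiv_stalk g ⟨⟨q, hq⟩, hqW⟩ (bij_stalkMap g _) εW
    change E.presheaf.stalk q at s
    change Function.Bijective fun a : X.presheaf.stalk q => a • s at hs
    let f := ((DerSch.stalkFunctor X q).map φ).hom
    obtain ⟨x, hx⟩ := hψ q hq
    obtain ⟨w, hw⟩ := (RefX.unitStalk q).surjective (f s)
    obtain ⟨a, ha⟩ := hs.2 (E.presheaf.germ ⊤ q trivial x)
    let v := X.presheaf.germ ⊤ q trivial ((Scheme.ΓSpecIso R).inv (ψ x))
    have hv : IsUnit v := by
      refine (X.mem_basicOpen (U := ⊤) _ q trivial).1 ?_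
      rw [basicOpen_eq_of_affine]
      exact hx
    have hfx : f (E.presheaf.germ ⊤ q trivial x) = RefX.unitStalk q v := by
      refine (ZClosLib.stalkMap_germ φ (U := ⊤) (x := q) trivial x).trans ?_
      rw [happ, show RefX.unitStalk q v = v • RefX.unitStalk q 1 by rw [← map_smul, smul_eq_mul, mul_one]]
      have hone : RefX.unitStalk q 1 = (Coh.structureModule X).presheaf.germ ⊤ q trivial
          ((1 : Γ(X, ⊤)) : Γ(Coh.structureModule X, ⊤)) := one_smul (X.presheaf.stalk q) _
      rw [hone, ← QCoh.germ_smul']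
      exact congrArg _ (mul_one _).symm
    have haw : a * w = v := by
      refine (RefX.unitStalk q).injective ?_
      rw [← hfx, ← ha]
      refine Eq.trans ?_ (f.map_smul a s).symm
      rw [← hw]
      exact (RefX.unitStalk q).map_smul a w
    have hwu : IsUnit w := isUnit_of_mul_isUnit_right (haw ▸ hv)
    refine (Function.Bijective.of_comp_iff _ hs).1 ?_
    have : (⇑f ∘ fun a : X.presheaf.stalk q => a • s) = ⇑(RefX.unitStalk q) ∘ fun a => a * w := by
      funext a
      show f (a • s) = _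
      rw [f.map_smul a s, ← hw]
      exact ((RefX.unitStalk q).map_smul a w).symm
    show Function.Bijective (⇑f ∘ fun a : X.presheaf.stalk q => a • s)
    rw [this]
    exact (RefX.unitStalk q).bijective.comp hwu.unit.mulRight_bijective
  haveI : IsIso ((Scheme.Modules.restrictFunctor U.ι).map φ) := by
    refine (NatIso.isIso_map_iff (Scheme.Modules.restrictFunctorIsoPullback U.ι) φ).2 ?_
    exact isIso_of_bij _ fun w => (bij_pullback_iff U.ι φ w).2 (hbij _ w.2)
  exact ⟨eE.symm ≪≫ asIso ((Scheme.Modules.restrictFunctor U.ι).map φ) ≪≫ Scheme.Modules.restrictUnitIso U.ι⟩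

/-- The hypersurface in the punctured spectrum is the punctured spectrum of the quotient. -/
theorem exists_puncturedIso (A : Type u) [CommRing A] [IsLocalRing A] (I : Ideal A) :
    let f := Spec.map (CommRingCat.ofHom (Ideal.Quotient.mk I))
    ∃ e : ((f ⁻¹ᵁ FEt.puncturedSpec A : (Spec (CommRingCat.of (A ⧸ I))).Opens) : Scheme.{u}) ≅
        (f.ker.comap (FEt.puncturedSpec A).ι).subscheme,
      e.hom ≫ (f.ker.comap (FEt.puncturedSpec A).ι).subschemeι = f ∣_ FEt.puncturedSpec A := by
  intro f
  haveI : IsClosedImmersion f := IsClosedImmersion.spec_of_surjective _ Ideal.Quotient.mk_surjective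
  let U := FEt.puncturedSpec A
  let m := pullback.map U.ι f U.ι f.ker.subschemeι (𝟙 _) f.toImage (𝟙 _) (by simp)
    (by rw [Category.comp_id]; exact f.toImage_imageι.symm)
  let e₁ := (isPullback_morphismRestrict f U).flip.flip.isoPullback
  refine ⟨e₁ ≪≫ asIso m ≪≫ (f.ker.comapIso U.ι).symm, ?_⟩
  simp only [Iso.trans_hom, Iso.symm_hom, asIso_hom, Category.assoc]
  rw [Scheme.IdealSheafData.comapIso_inv_subschemeι]
  rw [show m ≫ pullback.fst U.ι f.ker.subschemeι = pullback.fst U.ι f ≫ 𝟙 _ from pullback.lift_fst _ _ _,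
    Category.comp_id]
  exact IsPullback.isoPullback_hom_fst _

/-- The preimage of the punctured spectrum in a quotient is the punctured spectrum. -/
theorem preimage_punctured (A : Type u) [CommRing A] [IsLocalRing A] (I : Ideal A) [IsLocalRing (A ⧸ I)] :
    Spec.map (CommRingCat.ofHom (Ideal.Quotient.mk I)) ⁻¹ᵁ FEt.puncturedSpec A = FEt.puncturedSpec (A ⧸ I) := by
  haveI : IsLocalHom (Ideal.Quotient.mk I) := IsLocalHom.of_surjective _ Ideal.Quotient.mk_surjective
  ext x
  show PrimeSpectrum.comap (Ideal.Quotient.mk I) x ≠ IsLocalRing.closedPoint A ↔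
    x ≠ IsLocalRing.closedPoint (A ⧸ I)
  refine not_congr ⟨fun h => ?_, fun h => h ▸ IsLocalRing.comap_closedPoint _⟩
  refine PrimeSpectrum.comap_injective_of_surjective _ Ideal.Quotient.mk_surjective ?_
  rw [h, IsLocalRing.comap_closedPoint]

set_option maxHeartbeats 800000 in
/-- A module trivial on the hypersurface gives a functional to the quotient without zeros there. -/
theorem functional_of_trivial_pullback (A : Type u) [CommRing A] [IsLocalRing A] [IsNoetherianRing A] (t : A)
    [IsLocalRing (A ⧸ Ideal.span {t})]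
    (hd : (2 : ℕ∞) ≤ LocCoh.depth (A ⧸ Ideal.span {t}) (A ⧸ Ideal.span {t}))
    {L : (FEt.puncturedSpec A : Scheme.{u}).Modules} {E : (Spec (CommRingCat.of A)).Modules} (hEq : Coh.IsQCoh E)
    (eE : E.restrict (FEt.puncturedSpec A).ι ≅ L)
    (htriv : Nonempty ((Scheme.Modules.pullback
      (((Spec.map (CommRingCat.ofHom (Ideal.Quotient.mk (Ideal.span {t})))).ker.comap
        (FEt.puncturedSpec A).ι)).subschemeι).obj L ≅
      Coh.structureModule ((Spec.map (CommRingCat.ofHom (Ideal.Quotient.mk (Ideal.span {t})))).ker.comap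
        (FEt.puncturedSpec A).ι).subscheme)) :
    ∃ φ₀ : (moduleSpecΓFunctor (R := CommRingCat.of A)).obj E →ₗ[A] A ⧸ Ideal.span {t},
      ∀ P : Ideal A, P.IsPrime → P ≠ IsLocalRing.maximalIdeal A → t ∈ P →
        ∃ x a, Ideal.Quotient.mk (Ideal.span {t}) a = φ₀ x ∧ a ∉ P := by
  let R := CommRingCat.of A
  let I := Ideal.span {t}
  let S := CommRingCat.of (A ⧸ I)
  let g : R ⟶ S := CommRingCat.ofHom (Ideal.Quotient.mk I)
  let f := Spec.map g
  let U := FEt.puncturedSpec A
  let V := f ⁻¹ᵁ U
  let M := (moduleSpecΓFunctor (R := R)).obj E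
  haveI : IsIso (Scheme.Modules.fromTildeΓ (R := R) E) :=
    (isQuasicoherent_iff_isIso_fromTildeΓ (R := R) E).1 hEq
  obtain ⟨tr⟩ := htriv
  obtain ⟨e, he⟩ := exists_puncturedIso A I
  obtain ⟨tO⟩ := Groth.Agent.PicClLib.nonempty_pullback_structureModule e.hom
  let N : ModuleCat.{u} S := (ModuleCat.extendScalars.{u, u, u} g.hom).obj M
  let i₁ : (tilde (R := S) N).restrict V.ι ≅ Coh.structureModule (V : Scheme.{u}) :=
    (Scheme.Modules.restrictFunctor V.ι).mapIso
      (((QCoh.tildePullbackIso g).app M).symm ≪≫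
        (Scheme.Modules.pullback f).mapIso (asIso (Scheme.Modules.fromTildeΓ (R := R) E))) ≪≫
    (Scheme.Modules.restrictFunctorIsoPullback V.ι).app _ ≪≫
    (Scheme.Modules.pullbackComp V.ι f).app E ≪≫
    (Scheme.Modules.pullbackCongr (morphismRestrict_ι f U).symm).app E ≪≫
    ((Scheme.Modules.pullbackComp (f ∣_ U) U.ι).app E).symm ≪≫
    (Scheme.Modules.pullback (f ∣_ U)).mapIso
      (((Scheme.Modules.restrictFunctorIsoPullback U.ι).app E).symm ≪≫ eE) ≪≫
    (Scheme.Modules.pullbackCongr he.symm).app L ≪≫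
    ((Scheme.Modules.pullbackComp e.hom _).app L).symm ≪≫
    (Scheme.Modules.pullback e.hom).mapIso tr ≪≫ tO
  obtain ⟨ψ, hψ⟩ := functional_of_trivial (A ⧸ I) hd V (preimage_punctured A I) N ⟨i₁⟩
  let η : M ⟶ (ModuleCat.restrictScalars.{u} g.hom).obj N :=
    (ModuleCat.extendRestrictScalarsAdj.{u, u, u} g.hom).unit.app M
  let φ₀ : M →ₗ[A] A ⧸ I :=
    { toFun := fun x => ψ (η x : N)
      map_add' := fun x y => by rw [map_add η.hom]; exact map_add ψ _ _
      map_smul' := fun a x => by
        rw [η.hom.map_smul]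
        show ψ (Ideal.Quotient.mk I a • (η x : N)) = _
        rw [map_smul, RingHom.id_apply, smul_eq_mul, Algebra.smul_def]
        rfl }
  refine ⟨φ₀, fun P hP hPm htP => ?_⟩
  haveI := hP
  have hIP : RingHom.ker (Ideal.Quotient.mk I) ≤ P := by
    rw [Ideal.mk_ker]; exact (Ideal.span_singleton_le_iff_mem _).mpr htP
  haveI : (P.map (Ideal.Quotient.mk I)).IsPrime := Ideal.map_isPrime_of_surjective Ideal.Quotient.mk_surjective hIP
  have hback : (P.map (Ideal.Quotient.mk I)).comap (Ideal.Quotient.mk I) = P := by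
    rw [Ideal.comap_map_of_surjective _ Ideal.Quotient.mk_surjective, ← RingHom.ker_eq_comap_bot, sup_eq_left.mpr hIP]
  haveI : IsLocalHom (Ideal.Quotient.mk I) := IsLocalHom.of_surjective _ Ideal.Quotient.mk_surjective
  obtain ⟨z, hz⟩ := hψ (P.map (Ideal.Quotient.mk I)) inferInstance fun h => hPm (by
    rw [← hback, h]; exact IsLocalRing.maximalIdeal_comap _)
  by_contra hall
  push Not at hall
  let p := P.map (Ideal.Quotient.mk I)
  let α : N ⟶ ModuleCat.of S ((A ⧸ I) ⧸ p) := ModuleCat.ofHom ((Submodule.mkQ p).comp ψ)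
  have hα : α = 0 := ModuleCat.ExtendScalars.hom_ext fun m => by
    show Submodule.Quotient.mk (ψ (η m : N)) = 0
    rw [Submodule.Quotient.mk_eq_zero]
    obtain ⟨a, ha⟩ := Ideal.Quotient.mk_surjective (φ₀ m)
    show φ₀ m ∈ p
    rw [← ha]
    exact Ideal.mem_map_of_mem _ (hall m a ha)
  have := ConcreteCategory.congr_hom hα z
  exact hz ((Submodule.Quotient.mk_eq_zero _).1 this)

end

end Groth.Agent.CILift
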