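import Groth.Agent.CILift.Lift
import Groth.Agent.CILift.Hyper
import Groth.Agent.RamSam.PairFun
import Groth.Agent.ParaFX.Ufd

/-!
# Restriction to a hypersurface of the punctured spectrum has trivial kernel on Picard groups
-/

set_option autoImplicit false
set_option linter.style.haveILetI false
set_option linter.unusedSectionVars false
set_option backward.isDefEq.respectTransparency false
set_option backward.isDefEq.respectTransparency.types false

universe u

open CategoryTheory CategoryTheory.Limits AlgebraicGeometry TopologicalSpace Opposite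

namespace Groth.Agent.CILift

open Groth.Agent Groth.Agent.RamSam

noncomputable section

variable (A : Type u) [CommRing A] [IsLocalRing A] [IsNoetherianRing A] (t : A)
  [IsAdicComplete (Ideal.span {t}) A] [IsLocalRing (A ⧸ Ideal.span {t})]

/-- Depth goes up along a regular element. -/
theorem le_depth_of_quotient (ht : t ∈ IsLocalRing.maximalIdeal A) (hreg : IsSMulRegular A t) {r : ℕ}
    (hb : (r : ℕ∞) ≤ LocCoh.depth (A ⧸ Ideal.span {t}) (A ⧸ Ideal.span {t})) :
    ((r + 1 : ℕ) : ℕ∞) ≤ LocCoh.depth A A := by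
  obtain ⟨s, hs, h⟩ := exists_regular_cons hreg hb
  have := Alg6.length_le_idealDepth (I := IsLocalRing.maximalIdeal A) h fun x hx => by
    obtain ⟨i, rfl⟩ := List.mem_ofFn.mp hx
    refine Fin.cases ?_ ?_ i
    · exact ht
    · exact hs
  rwa [List.length_ofFn] at this

/-- An invertible module trivial on the hypersurface is trivial. -/
theorem picPullbackInjective_hyper (ht : t ∈ IsLocalRing.maximalIdeal A) (hreg : IsSMulRegular A t)
    (ha : ∀ p : PrimeSpectrum A, ringKrullDim (A ⧸ p.asIdeal) = 1 →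
      (2 : ℕ∞) ≤ LocCoh.depth (Localization.AtPrime p.asIdeal) (Localization.AtPrime p.asIdeal))
    (hb : (3 : ℕ∞) ≤ LocCoh.depth (A ⧸ Ideal.span {t}) (A ⧸ Ideal.span {t})) :
    Formal2.PicPullbackInjective
      (((Spec.map (CommRingCat.ofHom (Ideal.Quotient.mk (Ideal.span {t})))).ker.comap
        (FEt.puncturedSpec A).ι)).subschemeι := by
  intro L hL htriv
  let R := CommRingCat.of A
  haveI : IsNoetherianRing R := inferInstanceAs (IsNoetherianRing A)
  let U : (Spec R).Opens := FEt.puncturedSpec A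
  haveI : IsNoetherian (Spec R) := inferInstance
  have hLc := ParaFX.StalkPair.isCoh_of_invertible hL
  obtain ⟨E, hEq, hEft, ⟨eE⟩⟩ := QCoh.exists_extension_abs (KZ.extStep U) L hLc.1 hLc.2
  have hEfp : CohB1.IsFP E := QCoh.isCoh_iff_isFP.1 ⟨hEq, hEft⟩
  haveI : IsIso (Scheme.Modules.fromTildeΓ (R := R) E) :=
    (isQuasicoherent_iff_isIso_fromTildeΓ (R := R) E).1 hEq
  let M := (moduleSpecΓFunctor (R := R)).obj E
  haveI : Module.FinitePresentation A M := (QCoh.isFP_iff_finitePresentation E hEq).1 hEfp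
  have hpt : ∀ (P : Ideal A) (hP : P.IsPrime), P ≠ IsLocalRing.maximalIdeal A →
      (⟨P, hP⟩ : PrimeSpectrum A) ∈ (U : Set (Spec R)) := fun P hP hne he => hne (congrArg PrimeSpectrum.asIdeal he)
  have hd2 : (2 : ℕ∞) ≤ LocCoh.depth (A ⧸ Ideal.span {t}) (A ⧸ Ideal.span {t}) := le_trans (by norm_num) hb
  obtain ⟨φ₀, hφ₀⟩ := functional_of_trivial_pullback A t hd2 hEq eE htriv
  obtain ⟨ψ, hψ⟩ := exists_lift_functional A t ht hreg ha hb M
    (fun P hP hne => rankOne_of_invertible (R := R) U hL hEq eE P (hP := hP) (hpt P hP hne)) φ₀ hφ₀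
  exact iso_of_functional (R := R) U hL hEq eE ψ fun q hq =>
    hψ (q : PrimeSpectrum A).asIdeal (q : PrimeSpectrum A).isPrime fun he => hq (PrimeSpectrum.ext he)

set_option maxHeartbeats 800000 in
/-- Parafactoriality lifts from a hypersurface of depth three. -/
theorem isParafactorial_of_hyper (ht : t ∈ IsLocalRing.maximalIdeal A) (hreg : IsSMulRegular A t)
    (ha : ∀ p : PrimeSpectrum A, ringKrullDim (A ⧸ p.asIdeal) = 1 →
      (2 : ℕ∞) ≤ LocCoh.depth (Localization.AtPrime p.asIdeal) (Localization.AtPrime p.asIdeal))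
    (hb : (3 : ℕ∞) ≤ LocCoh.depth (A ⧸ Ideal.span {t}) (A ⧸ Ideal.span {t}))
    (hB : ParaF.IsParafactorialLocalRing (A ⧸ Ideal.span {t})) : ParaF.IsParafactorialLocalRing A := by
  have hd : ((3 + 1 : ℕ) : ℕ∞) ≤ LocCoh.depth A A := le_depth_of_quotient A t ht hreg (by exact_mod_cast hb)
  refine (ParaFX.isParafactorialLocalRing_iff A).2
    ⟨ParaFX.punctured_bijective A (le_trans (by norm_num) hd), picTrivial_punctured A fun M _ _ _ hM => ?_⟩
  let I := Ideal.span {t}
  let N := M ⧸ (I • ⊤ : Submodule A M)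
  haveI : Module.Finite (A ⧸ I) N := Module.Finite.of_restrictScalars_finite A (A ⧸ I) N
  haveI : IsLocalHom (Ideal.Quotient.mk I) := IsLocalHom.of_surjective _ Ideal.Quotient.mk_surjective
  have hne : ∀ P : Ideal (A ⧸ I), P ≠ IsLocalRing.maximalIdeal (A ⧸ I) →
      P.comap (Ideal.Quotient.mk I) ≠ IsLocalRing.maximalIdeal A := fun P hP h => hP (by
    rw [← Ideal.map_comap_of_surjective _ Ideal.Quotient.mk_surjective P, h,
      ← IsLocalRing.maximalIdeal_comap (f := Ideal.Quotient.mk I),
      Ideal.map_comap_of_surjective _ Ideal.Quotient.mk_surjective])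
  obtain ⟨ψ, hψ⟩ := exists_functional_of_pair (A ⧸ I)
    ⟨{IsLocalRing.closedPoint (A ⧸ I)}, IsLocalRing.isClosed_singleton_closedPoint (A ⧸ I)⟩ (fun P hP => by
      obtain rfl : P = IsLocalRing.closedPoint (A ⧸ I) := hP
      exact ParaFX.PairIff.of_ringEquiv (IsLocalization.atUnits (A ⧸ I)
        (IsLocalRing.closedPoint (A ⧸ I)).asIdeal.primeCompl
        (S := Localization.AtPrime (IsLocalRing.closedPoint (A ⧸ I)).asIdeal)
        fun x hx => IsLocalRing.notMem_maximalIdeal.1 hx).toRingEquiv.symm hB)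
    N fun P hP => by
      obtain ⟨e, he, hann⟩ := hM (P.asIdeal.comap (Ideal.Quotient.mk I)) inferInstance
        (hne _ fun h => hP (PrimeSpectrum.ext h))
      refine ⟨Submodule.Quotient.mk e, fun x => ?_, fun b hb => ?_⟩
      · obtain ⟨y, rfl⟩ := Submodule.Quotient.mk_surjective _ x
        obtain ⟨r, hr, c, hc⟩ := he y
        exact ⟨Ideal.Quotient.mk I r, hr, Ideal.Quotient.mk I c, congrArg Submodule.Quotient.mk hc⟩
      · obtain ⟨b, rfl⟩ := Ideal.Quotient.mk_surjective b
        have hbe : b • e ∈ (I • ⊤ : Submodule A M) := (Submodule.Quotient.mk_eq_zero _).1 hb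
        rw [Submodule.ideal_span_singleton_smul, Submodule.mem_smul_pointwise_iff_exists] at hbe
        obtain ⟨y, -, hy⟩ := hbe
        obtain ⟨r, hr, c, hc⟩ := he y
        obtain ⟨r', hr', h0⟩ := hann (r * b - t * c) (by
          rw [sub_smul, mul_smul, mul_smul, ← hy, ← hc, smul_comm r t, sub_self])
        refine ⟨Ideal.Quotient.mk I (r' * r), fun h => ?_, ?_⟩
        · exact ((P.isPrime.comap (Ideal.Quotient.mk I)).mem_or_mem (show r' * r ∈ _ from h)).elim hr' hr
        · rw [← map_mul, Ideal.Quotient.eq_zero_iff_mem, Ideal.mem_span_singleton]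
          exact ⟨r' * c, by linear_combination h0⟩
  let φ₀ : M →ₗ[A] A ⧸ I := (ψ.restrictScalars A).comp (I • ⊤ : Submodule A M).mkQ
  refine exists_lift_functional A t ht hreg ha hb M hM φ₀ fun P hP hPm htP => ?_
  haveI := hP
  have hIP : RingHom.ker (Ideal.Quotient.mk I) ≤ P := by
    rw [Ideal.mk_ker]; exact (Ideal.span_singleton_le_iff_mem _).mpr htP
  haveI : (P.map (Ideal.Quotient.mk I)).IsPrime := Ideal.map_isPrime_of_surjective Ideal.Quotient.mk_surjective hIP
  have hback : (P.map (Ideal.Quotient.mk I)).comap (Ideal.Quotient.mk I) = P := by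
    rw [Ideal.comap_map_of_surjective _ Ideal.Quotient.mk_surjective, ← RingHom.ker_eq_comap_bot, sup_eq_left.mpr hIP]
  obtain ⟨z, hz⟩ := hψ ⟨P.map (Ideal.Quotient.mk I), inferInstance⟩ (fun h => hPm (by
    have h' := congrArg PrimeSpectrum.asIdeal (show _ = IsLocalRing.closedPoint (A ⧸ I) from h)
    exact hback.symm.trans ((congrArg (Ideal.comap (Ideal.Quotient.mk I)) h').trans
      (IsLocalRing.maximalIdeal_comap (Ideal.Quotient.mk I)))))
  obtain ⟨y, rfl⟩ := Submodule.Quotient.mk_surjective _ z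
  obtain ⟨a, ha'⟩ := Ideal.Quotient.mk_surjective (ψ (Submodule.Quotient.mk y))
  exact ⟨y, a, ha', fun h => hz (ha' ▸ Ideal.mem_map_of_mem _ h)⟩

end

end Groth.Agent.CILift
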