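import Groth.Agent.CILift.Tower
import Groth.Agent.Alg6.AssDepth
import Groth.Agent.EGA41Lib.RegSeqPow

/-!
# Localizations above a quotient by a regular element, and deep sequences from depth
-/

set_option linter.style.haveILetI false

universe u

open IsLocalRing

namespace Groth.Agent.CILift

open Groth.Agent

theorem deep_of_succ {R : Type u} [CommRing R] {ι : Type u} {f : ι → R} :
    ∀ (r : ℕ) {I : Ideal R}, Deep f (r + 1) I → Deep f r I
  | 0, _, _ => trivial
  | r + 1, _, ⟨a, ha, hreg, h⟩ => ⟨a, ha, hreg, fun N hN => deep_of_succ r (h N hN)⟩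

theorem ofList_take_ofFn {R : Type u} [CommRing R] {r : ℕ} (w : Fin r → R) (i : Fin r) :
    Ideal.ofList ((List.ofFn w).take i) = Ideal.span (w '' Set.Iio i) := by
  rw [Ideal.ofList]
  congr 1
  ext z
  simp only [Set.mem_setOf_eq, Set.mem_image, Set.mem_Iio, List.mem_take_iff_getElem, List.getElem_ofFn,
    List.length_ofFn]
  constructor
  · rintro ⟨j, hj, rfl⟩
    exact ⟨⟨j, by omega⟩, Fin.lt_def.mpr (by simp only; omega), rfl⟩
  · rintro ⟨j, hj, rfl⟩
    exact ⟨j, by have := Fin.lt_def.mp hj; have := i.2; omega, rfl⟩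

/-- Regular sequences of any length from the depth. -/
theorem exists_regular_fn {R : Type u} [CommRing R] [IsLocalRing R] [IsNoetherianRing R] {r : ℕ}
    (hd : (r : ℕ∞) ≤ LocCoh.depth R R) :
    ∃ s : Fin r → R, (∀ i, s i ∈ maximalIdeal R) ∧ RingTheory.Sequence.IsWeaklyRegular R (List.ofFn s) := by
  obtain ⟨rs, hrs, hmem, hlen⟩ := Alg6.exists_length_ge_of_le_idealDepth (R := R) (M := R)
    (Alg6.maximal_smul_top_ne_top) (n := r) (by exact_mod_cast hd)
  refine ⟨fun i => rs[(i : ℕ)]'(lt_of_lt_of_le i.2 hlen), fun i => hmem _ (List.getElem_mem _), ?_⟩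
  have he : List.ofFn (fun i : Fin r => rs[(i : ℕ)]'(lt_of_lt_of_le i.2 hlen)) = rs.take r := by
    refine List.ext_getElem (by rw [List.length_ofFn, List.length_take, Nat.min_eq_left hlen]) fun i h₁ h₂ => ?_
    rw [List.getElem_ofFn, List.getElem_take]
  rw [he]
  rw [← List.take_append_drop r rs, RingTheory.Sequence.isWeaklyRegular_append_iff] at hrs
  exact hrs.1

/-- Deep sequences inside the radical of a cover from a regular sequence. -/
theorem deep_of_regular {R : Type u} [CommRing R] {ι : Type u} [Fintype ι] {f : ι → R} {r : ℕ} {s : Fin r → R}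
    (hs : ∀ i, s i ∈ (Ideal.span (Set.range f)).radical)
    (h : RingTheory.Sequence.IsWeaklyRegular R (List.ofFn s)) : Deep f r (⊥ : Ideal R) := by
  refine deep_of_powers r s ⊥ hs ?_
  intro v hv i y hy
  have h5 := EGA41Lib.isWeaklyRegular_pow r s v hv h
  have h6 := h5.regular_mod_prev i (by simp)
  rw [isSMulRegular_quotient_iff_mem_of_smul_mem] at h6
  have h7 := h6 y
  simp only [List.getElem_ofFn, Ideal.smul_eq_mul, Ideal.mul_top, ofList_take_ofFn, smul_eq_mul] at h7
  rw [bot_sup_eq] at hy ⊢
  exact h7 hy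

/-- Depth gives deep sequences for any cover of the punctured spectrum. -/
theorem deep_of_depth {R : Type u} [CommRing R] [IsLocalRing R] [IsNoetherianRing R] {ι : Type u} [Fintype ι]
    {f : ι → R} (hf : maximalIdeal R ≤ (Ideal.span (Set.range f)).radical) {r : ℕ}
    (hd : (r : ℕ∞) ≤ LocCoh.depth R R) : Deep f r (⊥ : Ideal R) := by
  obtain ⟨s, hs, h⟩ := exists_regular_fn hd
  exact deep_of_regular (fun i => hf (hs i)) h

theorem injective_away {R : Type u} [CommRing R] {F : R} (hF : IsSMulRegular R F) :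
    Function.Injective (algebraMap R (Localization.Away F)) := by
  refine (injective_iff_map_eq_zero _).mpr fun x hx => ?_
  obtain ⟨⟨_, n, rfl⟩, hn⟩ := (IsLocalization.map_eq_zero_iff (Submonoid.powers F) (Localization.Away F) x).mp hx
  exact (hF.pow n) (by simp only [smul_eq_mul, mul_zero]; exact hn)

theorem mem_sub_away {R : Type u} [CommRing R] {F : R} (x : Localization.Away F) :
    x ∈ Sub (Localization.Away F) ⊤ F := by
  obtain ⟨⟨a, _, n, rfl⟩, hx⟩ := IsLocalization.surj (Submonoid.powers F) x
  exact ⟨n, a, trivial, by rw [mul_comm]; exact hx⟩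

theorem isUnit_away {R : Type u} [CommRing R] {ι : Type u} [Fintype ι] (f : ι → R) (i : ι) :
    IsUnit (algebraMap R (Localization.Away (∏ i, f i)) (f i)) :=
  isUnit_of_dvd_unit (map_dvd _ (Finset.dvd_prod_of_mem f (Finset.mem_univ i)))
    (IsLocalization.Away.algebraMap_isUnit (∏ i, f i))

/-- The setup given by localizing at the product of a cover. -/
theorem exists_setup {B A : Type u} [CommRing B] [CommRing A] (q : B →+* A) (hq : Function.Surjective q) (t : B)
    (hker : RingHom.ker q = Ideal.span {t}) (hreg : ∀ b, t * b = 0 → b = 0) {ι : Type u} [Fintype ι] (fB : ι → B)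
    (hF : ∀ i, IsSMulRegular A (q (fB i))) :
    Function.Injective (algebraMap A (Localization.Away (∏ i, q (fB i)))) ∧
      ∃ π : Localization.Away (∏ i, fB i) →+* Localization.Away (∏ i, q (fB i)), Setup q t π fB := by
  let F := ∏ i, q (fB i)
  let FB := ∏ i, fB i
  let K := Localization.Away F
  let Kb := Localization.Away FB
  have hqF : q FB = F := map_prod q _ _
  have hinj : Function.Injective (algebraMap A K) := injective_away
    (Finset.prod_induction _ (IsSMulRegular A) (fun _ _ => IsSMulRegular.mul) (IsSMulRegular.one A) (fun i _ => hF i))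
  let π : Kb →+* K := IsLocalization.lift (M := Submonoid.powers FB) (g := (algebraMap A K).comp q) (by
    rintro ⟨_, n, rfl⟩
    show IsUnit (algebraMap A K (q (FB ^ n)))
    rw [map_pow, map_pow, hqF]
    exact (IsLocalization.Away.algebraMap_isUnit F).pow n)
  have hπ : ∀ b, π (algebraMap B Kb b) = algebraMap A K (q b) := fun b => IsLocalization.lift_eq _ b
  have hqt : q t = 0 := RingHom.mem_ker.mp (hker ▸ Ideal.mem_span_singleton_self t)
  have hkerq : ∀ b, q b = 0 → ∃ c, b = t * c := fun b hb =>
    Ideal.mem_span_singleton.mp (hker ▸ (RingHom.mem_ker.mpr hb))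
  refine ⟨hinj, π, ?_⟩
  exact
    { surj_q := hq
      ker_q := hkerq
      comm := hπ
      unit_f := fun i => isUnit_away fB i
      inj := hinj
      q_t := hqt
      surj := fun y => by
        obtain ⟨⟨a, _, n, rfl⟩, hy⟩ := IsLocalization.surj (Submonoid.powers F) y
        obtain ⟨b, rfl⟩ := hq a
        refine ⟨IsLocalization.mk' Kb b (⟨FB ^ n, n, rfl⟩ : Submonoid.powers FB), ?_⟩
        have h1 := congrArg π (IsLocalization.mk'_spec' Kb b (⟨FB ^ n, n, rfl⟩ : Submonoid.powers FB))
        rw [map_mul, hπ, hπ, map_pow, hqF] at h1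
        refine ((IsLocalization.Away.algebraMap_isUnit F).pow n).mul_left_cancel ?_
        rw [← map_pow, h1, ← hy, mul_comm]
      ker := fun x hx => by
        obtain ⟨⟨b, _, n, rfl⟩, hb⟩ := IsLocalization.surj (Submonoid.powers FB) x
        have hb0 : q b = 0 := hinj (by rw [map_zero, ← hπ, ← hb, map_mul, hx, zero_mul])
        obtain ⟨c, rfl⟩ := hkerq b hb0
        refine ⟨IsLocalization.mk' Kb c (⟨FB ^ n, n, rfl⟩ : Submonoid.powers FB), ?_⟩
        refine ((IsLocalization.Away.algebraMap_isUnit (S := Kb) FB).pow n).mul_left_cancel ?_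
        have h2 := IsLocalization.mk'_spec' Kb c (⟨FB ^ n, n, rfl⟩ : Submonoid.powers FB)
        simp only [map_pow, map_mul] at hb h2
        rw [mul_comm (_ ^ n) x, hb, mul_left_comm, h2]
      reg_t := fun x hx => by
        obtain ⟨⟨b, _, n, rfl⟩, hb⟩ := IsLocalization.surj (Submonoid.powers FB) x
        have h0 : algebraMap B Kb (t * b) = 0 := by rw [map_mul, ← hb, ← mul_assoc, hx, zero_mul]
        obtain ⟨⟨_, m, rfl⟩, hm⟩ := (IsLocalization.map_eq_zero_iff (Submonoid.powers FB) Kb _).mp h0
        have hm' : FB ^ m * b = 0 := hreg _ (by rw [← hm]; ring)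
        have hb' : algebraMap B Kb b = 0 :=
          (IsLocalization.map_eq_zero_iff (Submonoid.powers FB) Kb b).mpr ⟨⟨_, m, rfl⟩, hm'⟩
        exact ((IsLocalization.Away.algebraMap_isUnit (S := Kb) FB).pow n).mul_left_eq_zero.mp (by
          rw [← map_pow, ← hb']; exact hb) }

end Groth.Agent.CILift
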