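import Groth.Agent.CILift.Sections
import Groth.Agent.CILift.Cover
import Groth.Agent.CILift.Loc
import Groth.Agent.LC.ExtDim

/-!
# Lifting a trivialization of a rank one module from a hypersurface

In depth three a nowhere vanishing functional on the reduction modulo a regular element lifts modulo all of its
powers, hence to the ring when this is complete; depth two at the curves prevents new zeros.
-/

set_option linter.style.haveILetI false

universe u

open IsLocalRing
open scoped Pointwise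

namespace Groth.Agent.CILift

open Groth.Agent Groth.Agent.RamSam

/-- Two further regular elements give deep sequences modulo the powers of the first. -/
theorem deep_two_mod {R : Type u} [CommRing R] {ι : Type u} [Fintype ι] {f : ι → R} {t : R} {s : Fin 2 → R}
    (hs : ∀ i, s i ∈ (Ideal.span (Set.range f)).radical)
    (h : RingTheory.Sequence.IsWeaklyRegular R (List.ofFn (Fin.cons t s : Fin 3 → R))) (n : ℕ) :
    Deep f 2 (Ideal.span {t ^ (n + 1)}) := by
  refine deep_of_powers 2 s _ hs ?_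
  intro v hv i y hy
  let v' : Fin 3 → ℕ := Fin.cons (n + 1) v
  let T : Fin 3 → R := Fin.cons t s
  have h5 := EGA41Lib.isWeaklyRegular_pow 3 T v' (Fin.cases (Nat.succ_pos n) hv) h
  have h6 := h5.regular_mod_prev i.succ (by simp only [List.length_ofFn]; exact i.succ.isLt)
  rw [isSMulRegular_quotient_iff_mem_of_smul_mem] at h6
  have h7 := h6 y
  simp only [List.getElem_ofFn, Ideal.smul_eq_mul, Ideal.mul_top, ofList_take_ofFn, smul_eq_mul] at h7
  have himg : Ideal.span ((fun j => T j ^ v' j) '' Set.Iio i.succ) =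
      Ideal.span {t ^ (n + 1)} ⊔ Ideal.span ((fun j => s j ^ v j) '' Set.Iio i) := by
    rw [← Ideal.span_union]
    congr 1
    ext x
    constructor
    · rintro ⟨j, hj, rfl⟩
      rcases Fin.eq_zero_or_eq_succ j with rfl | ⟨j, rfl⟩
      · exact Or.inl (by simp [T, v'])
      · exact Or.inr ⟨j, Fin.succ_lt_succ_iff.mp hj, by simp [T, v']⟩
    · rintro (hx | ⟨j, hj, rfl⟩)
      · rw [Set.mem_singleton_iff.mp hx]
        exact ⟨0, Fin.succ_pos i, by simp [T, v']⟩
      · exact ⟨j.succ, Fin.succ_lt_succ_iff.mpr hj, by simp [T, v']⟩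
  rw [show (Ideal.span ((fun j : Fin 3 => T j ^ v' j) '' Set.Iio (⟨(i.succ : ℕ), by omega⟩ : Fin 3))) =
    Ideal.span {t ^ (n + 1)} ⊔ Ideal.span ((fun j => s j ^ v j) '' Set.Iio i) from himg] at h7
  refine h7 ?_
  show T i.succ ^ v' i.succ * y ∈ _
  rw [show T i.succ ^ v' i.succ = s i ^ v i by simp [T, v']]
  exact hy

/-- A regular element and a regular sequence of the quotient by it. -/
theorem exists_regular_cons {A : Type u} [CommRing A] [IsLocalRing A] [IsNoetherianRing A] {t : A}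
    (hreg : IsSMulRegular A t) [IsLocalRing (A ⧸ Ideal.span {t})] {r : ℕ}
    (hb : (r : ℕ∞) ≤ LocCoh.depth (A ⧸ Ideal.span {t}) (A ⧸ Ideal.span {t})) :
    ∃ s : Fin r → A, (∀ i, s i ∈ maximalIdeal A) ∧
      RingTheory.Sequence.IsWeaklyRegular A (List.ofFn (Fin.cons t s : Fin (r + 1) → A)) := by
  obtain ⟨s₀, hs₀, hs₀'⟩ := exists_regular_fn hb
  choose s hs using fun i => Ideal.Quotient.mk_surjective (s₀ i)
  refine ⟨s, fun i hu => hs₀ i (hs i ▸ hu.map _), ?_⟩
  rw [List.ofFn_cons, RingTheory.Sequence.isWeaklyRegular_cons_iff]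
  refine ⟨hreg, ?_⟩
  have hspan : Ideal.span {t} = (t • ⊤ : Submodule A A) := by simp [← Submodule.ideal_span_singleton_smul]
  let e : (A ⧸ Ideal.span {t}) ≃ₗ[A] QuotSMulTop t A := Submodule.quotEquivOfEq _ _ hspan
  rw [← e.isWeaklyRegular_congr, ← RingTheory.Sequence.isWeaklyRegular_map_algebraMap_iff (A ⧸ Ideal.span {t}),
    List.map_ofFn]
  rw [show (algebraMap A (A ⧸ Ideal.span {t}) ∘ s) = s₀ from funext hs]
  exact hs₀'

set_option maxHeartbeats 1600000 in
/-- A trivialization on the hypersurface lifts to a functional without zeros on the punctured spectrum. -/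
theorem exists_lift_functional (A : Type u) [CommRing A] [IsLocalRing A] [IsNoetherianRing A] (t : A)
    (ht : t ∈ maximalIdeal A) (hreg : IsSMulRegular A t) [IsAdicComplete (Ideal.span {t}) A]
    [IsLocalRing (A ⧸ Ideal.span {t})]
    (ha : ∀ p : PrimeSpectrum A, ringKrullDim (A ⧸ p.asIdeal) = 1 →
      (2 : ℕ∞) ≤ LocCoh.depth (Localization.AtPrime p.asIdeal) (Localization.AtPrime p.asIdeal))
    (hb : (3 : ℕ∞) ≤ LocCoh.depth (A ⧸ Ideal.span {t}) (A ⧸ Ideal.span {t}))
    (M : Type u) [AddCommGroup M] [Module A M] [Module.Finite A M]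
    (hM : ∀ P : Ideal A, P.IsPrime → P ≠ maximalIdeal A → RankOne M P)
    (φ₀ : M →ₗ[A] A ⧸ Ideal.span {t})
    (hφ₀ : ∀ P : Ideal A, P.IsPrime → P ≠ maximalIdeal A → t ∈ P →
      ∃ x a, Ideal.Quotient.mk (Ideal.span {t}) a = φ₀ x ∧ a ∉ P) :
    ∃ ψ : M →ₗ[A] A, ∀ P : Ideal A, P.IsPrime → P ≠ maximalIdeal A → ∃ x, ψ x ∉ P := by
  classical
  let A₀ := A ⧸ Ideal.span {t}
  let q : A →+* A₀ := Ideal.Quotient.mk (Ideal.span {t})
  have hq : Function.Surjective q := Ideal.Quotient.mk_surjective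
  haveI : IsLocalHom q := IsLocalHom.of_surjective q hq
  have hker : RingHom.ker q = Ideal.span {t} := Ideal.mk_ker
  have hreg' : ∀ b, t * b = 0 → b = 0 := fun b hb => hreg.right_eq_zero_of_smul hb
  have hqs : ∀ (r : A) (z : A₀), r • z = q r * z := fun r z => Algebra.smul_def r z
  have hb3 : ((3 : ℕ) : ℕ∞) ≤ LocCoh.depth A₀ A₀ := hb
  have hb2 : ((2 : ℕ) : ℕ∞) ≤ LocCoh.depth A₀ A₀ := le_trans (by norm_num) hb
  -- charts
  obtain ⟨σ₃, hσ₃, hσ₃'⟩ := exists_regular_fn hb3
  have hσ0 : IsSMulRegular A₀ (σ₃ 0) := by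
    rw [List.ofFn_succ, RingTheory.Sequence.isWeaklyRegular_cons_iff] at hσ₃'
    exact hσ₃'.1
  obtain ⟨ι, _, f, e, lam, hne, hfreg, hfm, hrad, he, hlam⟩ := exists_cover_quotient M hM q hq (hσ₃ 0) hσ0
  obtain ⟨o⟩ := hne
  have hrad₀ : maximalIdeal A₀ ≤ (Ideal.span (Set.range fun i => q (f i))).radical := fun z hz => by
    obtain ⟨z, rfl⟩ := hq z
    obtain ⟨N, hN⟩ := hrad (show z ∈ maximalIdeal A from fun hu => hz (hu.map q))
    refine ⟨N, ?_⟩
    have h1 := Ideal.mem_map_of_mem q hN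
    rw [Ideal.map_span, ← Set.range_comp, map_pow] at h1
    exact h1
  have hd3 : Deep (fun i => q (f i)) 3 (⊥ : Ideal A₀) := deep_of_depth hrad₀ hb3
  obtain ⟨σ₂, hσ₂, hσ₂'⟩ := exists_regular_cons hreg hb2
  obtain ⟨hinj, π, hS⟩ := exists_setup q hq t hker hreg' f hfreg
  haveI := Fact.mk hinj
  let K := Localization.Away (∏ i, q (f i))
  let Kb := Localization.Away (∏ i, f i)
  have hunit : ∀ i, IsUnit (algebraMap A₀ K (q (f i))) := isUnit_away fun i => q (f i)
  -- divisibility by powers of `t`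
  have hdvd : ∀ (n : ℕ) (z : A), Cg t n (algebraMap A Kb z) 0 → z ∈ Ideal.span {t ^ n} := by
    intro n
    induction n with
    | zero => intro z _; simp
    | succ n ih =>
      intro z h
      obtain ⟨w, hw⟩ := h
      rw [zero_add] at hw
      have hz : q z = 0 := hinj (by
        rw [map_zero, ← hS.comm, hw, map_mul, map_pow π, hS.pi_t, zero_pow (Nat.succ_ne_zero n), zero_mul])
      obtain ⟨c, rfl⟩ := hS.ker_q z hz
      obtain ⟨d, hd⟩ := Ideal.mem_span_singleton.mp (ih c ⟨w, by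
        rw [zero_add]
        refine sub_eq_zero.mp (hS.reg_t _ ?_)
        rw [map_mul] at hw
        linear_combination hw⟩)
      exact Ideal.mem_span_singleton.mpr ⟨d, by rw [hd, pow_succ']; ring⟩
  have hhaus : ∀ z : A, (∀ n, z ∈ Ideal.span {t ^ n}) → z = 0 := fun z hz =>
    IsHausdorff.haus (I := Ideal.span {t}) (inferInstance : IsHausdorff _ A) z fun n => by
      rw [SModEq.sub_mem, sub_zero, smul_eq_mul, Ideal.mul_top, Ideal.span_singleton_pow]
      exact hz n
  haveI : Fact (Function.Injective (algebraMap A Kb)) :=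
    ⟨(injective_iff_map_eq_zero _).mpr fun z hz => hhaus z fun n => hdvd n z ⟨0, by rw [hz, mul_zero, add_zero]⟩⟩
  -- the module inside the localization
  obtain ⟨u, hu⟩ := hS.unit_f o
  let ιM : M →ₗ[A] Kb := LinearMap.mulLeft A ((u⁻¹ : Kbˣ) : Kb) ∘ₗ (Algebra.linearMap A Kb) ∘ₗ lam o
  let v : ι → Kb := fun i => ιM (e i)
  let w : ι → Kb := fun i => algebraMap A Kb (lam i (e o))
  have hkey : ∀ l y, w l * ιM y = algebraMap A Kb (lam l y) := fun l y => by
    have h1 : f o * lam l y = lam o y * lam l (e o) := by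
      rw [← smul_eq_mul, ← map_smul, hlam o y, map_smul, smul_eq_mul]
    show algebraMap A Kb (lam l (e o)) * (((u⁻¹ : Kbˣ) : Kb) * algebraMap A Kb (lam o y)) = _
    rw [mul_left_comm, ← map_mul, mul_comm (lam l (e o)), ← h1, map_mul, ← hu, ← mul_assoc, Units.inv_mul, one_mul]
  have hlin : ∀ i y, algebraMap A Kb (f i) * ιM y = algebraMap A Kb (lam i y) * v i := fun i y => by
    rw [← Algebra.smul_def, ← map_smul, hlam, map_smul, Algebra.smul_def]
  let μ : ι → K := fun i => π (v i)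
  let ε : ι → K := fun i => π (w i)
  have hframe : ∀ i, μ i * ε i = algebraMap A₀ K (q (f i)) := fun i => by
    show π (v i) * π (w i) = _
    rw [← map_mul, mul_comm, hkey, he, hS.comm]
  have hD : DivData K (fun i => q (f i)) μ ε :=
    { unit_f := hunit
      unit_μ := fun i => isUnit_of_mul_isUnit_left (hframe i ▸ hunit i)
      frame := hframe
      glob := fun i l => ⟨q (lam i (e l)), by
        show π (v l) * π (w i) = _
        rw [← map_mul, mul_comm, hkey, hS.comm]⟩
      loc := fun x => mem_sub_away x }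
  have hinv : ∀ i, ∃ c : Kb, c ∈ Sub Kb ⊤ (f i) ∧ algebraMap A Kb (f i) * c = 1 := fun i => by
    obtain ⟨ui, hui⟩ := hS.unit_f i
    exact ⟨((ui⁻¹ : Kbˣ) : Kb), inv_mem_sub (by rw [← hui, Units.mul_inv]), by rw [← hui, Units.mul_inv]⟩
  choose c hc hc' using hinv
  let V : ℕ → ι → Kb := fun _ => v
  have hv : ∀ n, Datum t π f μ n (V n) := fun n => ⟨fun i => rfl, fun i j =>
    ⟨c j * algebraMap A Kb (lam j (e i)),
      mul_mem_sub (sub_le (dvd_mul_left _ _) (hc j)) (algebraMap_mem_sub trivial), by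
      have : v i = c j * algebraMap A Kb (lam j (e i)) * v j := by
        rw [mul_assoc, ← hlin, ← mul_assoc, mul_comm (c j), hc', one_mul]
      exact this ▸ Cg.refl _ _⟩⟩
  have hcV : ∀ n m, n ≤ m → ∀ i, Cg t (n + 1) (V m i) (V n i) := fun n m _ i => Cg.refl _ _
  -- the trivialization
  let x₀ : K := algebraMap A₀ K (φ₀ (e o))
  have hφ : ∀ y, x₀ * π (ιM y) = algebraMap A₀ K (φ₀ y) := fun y => by
    refine (hunit o).mul_left_cancel ?_
    have h1 : q (f o) * φ₀ y = q (lam o y) * φ₀ (e o) := by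
      rw [← hqs, ← hqs, ← map_smul, ← map_smul, hlam]
    have h2 : π (algebraMap A Kb (f o)) * π (ιM y) = algebraMap A₀ K (q (lam o y)) := by
      rw [← map_mul, ← hS.comm]
      congr 1
      show algebraMap A Kb (f o) * (((u⁻¹ : Kbˣ) : Kb) * algebraMap A Kb (lam o y)) = _
      rw [← mul_assoc, ← hu, Units.mul_inv, one_mul]
    rw [hS.comm] at h2
    rw [mul_left_comm, h2, ← map_mul, mul_comm (φ₀ (e o)), ← h1, map_mul]
  have hW : ∀ i, ∃ z ∈ Sub K ⊤ (q (f i)), algebraMap A₀ K (φ₀ (e i)) * z = 1 := fun i => by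
    have hmem : q (f i) ∈ (Ideal.span {φ₀ (e i)}).radical := by
      rw [Ideal.radical_eq_sInf, Submodule.mem_sInf]
      rintro p ⟨hle, hp⟩
      haveI := hp
      by_cases hpm : p = maximalIdeal A₀
      · exact hpm ▸ map_nonunit q _ (hfm i)
      · obtain ⟨x, a, hax, ha'⟩ := hφ₀ (Ideal.comap q p) inferInstance (fun he' => hpm (by
          rw [← Ideal.map_comap_of_surjective q hq p, he', ← maximalIdeal_comap (f := q),
            Ideal.map_comap_of_surjective q hq]))
          (show q t ∈ p by rw [Ideal.Quotient.eq_zero_iff_mem.mpr (Ideal.mem_span_singleton_self t)]; exact zero_mem _)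
        have h1 : q (f i) * φ₀ x ∈ p := by
          rw [← hqs, ← map_smul, hlam, map_smul, hqs]
          exact Ideal.mul_mem_left p _ (hle (Ideal.mem_span_singleton_self _))
        exact ((hp.mem_or_mem h1).resolve_right fun h => ha' (show q a ∈ p from hax ▸ h))
    obtain ⟨N, hN⟩ := hmem
    obtain ⟨z, hz⟩ := Ideal.mem_span_singleton'.mp hN
    obtain ⟨ui, hui⟩ := (hunit i).pow N
    refine ⟨algebraMap A₀ K z * ((ui⁻¹ : Kˣ) : K), ⟨N, z, trivial, ?_⟩, ?_⟩
    · rw [map_pow, ← hui, mul_left_comm, Units.mul_inv, mul_one]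
    · rw [← mul_assoc, ← map_mul, mul_comm (φ₀ (e i)), hz, map_pow, ← hui, Units.mul_inv]
  choose z₀ hz₀ hz₀' using hW
  let W : K := μ o * z₀ o
  have hxW : x₀ * W = 1 := by
    show x₀ * (π (v o) * z₀ o) = 1
    rw [← mul_assoc, hφ, hz₀']
  have hWi : ∀ i, W = μ i * z₀ i := fun i => by
    have h1 : x₀ * (μ i * z₀ i) = 1 := by
      show x₀ * (π (v i) * z₀ i) = 1
      rw [← mul_assoc, hφ, hz₀']
    linear_combination (μ i * z₀ i) * hxW - W * h1
  have hB1 : ∀ Φ, Φ ∈ Z1 K (fun i => q (f i)) μ → Φ ∈ B1 K (fun i => q (f i)) μ := fun Φ hΦ => by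
    obtain ⟨r, hr, hr'⟩ := cech₁ hunit hd3 (fun i j => W * (Φ i - Φ j))
      (fun i j => by
        show W * (Φ i - Φ j) ∈ _
        rw [hWi i, mul_comm (μ i), mul_assoc]
        exact mul_mem_sub (sub_le (dvd_mul_right _ _) (hz₀ i)) (hΦ i j))
      fun i j l => by
        rw [show W * (Φ i - Φ j) + W * (Φ j - Φ l) - W * (Φ i - Φ l) = 0 by ring]
        exact zero_mem _
    have hex : ∀ i j, W * (Φ i - Φ j) - (r i - r j) = 0 := fun i j =>
      sub_bot hinj (by rw [map_mul]; exact (hunit i).mul (hunit j)) (hr' i j)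
    refine ⟨Φ o - x₀ * r o, fun i => ?_⟩
    have h1 : μ i * (Φ i - (Φ o - x₀ * r o)) = algebraMap A₀ K (φ₀ (e i)) * r i := by
      rw [← hφ (e i)]
      show μ i * _ = x₀ * μ i * _
      linear_combination (μ i * x₀) * hex i o - μ i * (Φ i - Φ o) * hxW
    rw [h1]
    exact mul_mem_sub (algebraMap_mem_sub trivial) (hr i)
  -- the formal lift
  obtain ⟨σ₀, hσ₀⟩ := hS.surj x₀
  have hsect₀ : IsSect t f V 0 σ₀ := fun i => by
    obtain ⟨a, ha'⟩ := hq (φ₀ (e i))
    obtain ⟨d, hd⟩ := hS.ker (v i * σ₀ - algebraMap A Kb a) (by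
      rw [map_sub, map_mul, hσ₀, hS.comm, ha', ← hφ (e i), mul_comm, sub_self])
    exact ⟨algebraMap A Kb a, algebraMap_mem_sub trivial, d, by
      show v i * σ₀ = _
      linear_combination hd⟩
  have hstep : ∀ n σ, IsSect t f V n σ → ∃ σ', IsSect t f V (n + 1) σ' ∧ Cg t (n + 1) σ' σ := fun n σ h => by
    obtain ⟨Φ, hΦ, hZ⟩ := exists_obs hS hv hcV hD h
    exact exists_lift_sect hS hv hcV hD hΦ (hB1 Φ hZ)
  let s : ∀ n : ℕ, { σ // IsSect t f V n σ } := Nat.rec ⟨σ₀, hsect₀⟩ fun n p =>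
    ⟨(hstep n p.1 p.2).choose, (hstep n p.1 p.2).choose_spec.1⟩
  have hsc : ∀ n m, n ≤ m → Cg t (n + 1) (s m).1 (s n).1 := fun n m h => by
    induction m, h using Nat.le_induction with
    | base => exact Cg.refl _ _
    | succ m hnm ih => exact ((hstep m (s m).1 (s m).2).choose_spec.2.mono (by omega)).trans ih
  have hglue : ∀ (n : ℕ) (y : M), ∃ z : A, Cg t (n + 1) ((s n).1 * ιM y) (algebraMap A Kb z) := fun n y => by
    choose r hr d hd using (s n).2
    let R : ι → Kb := fun i => c i * algebraMap A Kb (lam i y) * r i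
    have hR : ∀ i, (s n).1 * ιM y = R i + algebraMap A Kb t ^ (n + 1) * (c i * algebraMap A Kb (lam i y) * d i) :=
      fun i => by
        show (s n).1 * ιM y = c i * algebraMap A Kb (lam i y) * r i + _
        linear_combination (c i * (s n).1) * hlin i y + (c i * algebraMap A Kb (lam i y)) * hd i -
          ((s n).1 * ιM y) * hc' i
    have hRm : ∀ i, R i ∈ Sub Kb ⊤ (f i) := fun i =>
      mul_mem_sub (mul_mem_sub (hc i) (algebraMap_mem_sub trivial)) (hr i)
    obtain ⟨z, hz⟩ := cech₀ hS.unit_f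
      (deep_two_mod (fun i => hrad (hσ₂ i)) hσ₂' n) R hRm fun i j => by
        have h1 : algebraMap A Kb t ^ (n + 1) *
            (c j * algebraMap A Kb (lam j y) * d j - c i * algebraMap A Kb (lam i y) * d i) = R i - R j := by
          linear_combination hR i - hR j
        obtain ⟨N, a, -, hN⟩ := hS.div_t (n + 1) (h1.symm ▸
          sub_mem (sub_le (dvd_mul_right _ _) (hRm i)) (sub_le (dvd_mul_left _ _) (hRm j)))
        refine ⟨N, t ^ (n + 1) * a, Ideal.mul_mem_right _ _ (Ideal.mem_span_singleton_self _), ?_⟩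
        rw [← h1, mul_left_comm, hN, map_mul, map_pow]
    obtain ⟨N, a, hamem, hN⟩ := hz o
    obtain ⟨b, rfl⟩ := Ideal.mem_span_singleton.mp hamem
    refine ⟨z, c o ^ N * algebraMap A Kb b + c o * algebraMap A Kb (lam o y) * d o, ?_⟩
    have h3 : algebraMap A Kb (f o ^ N) * c o ^ N = 1 := by rw [map_pow, ← mul_pow, hc', one_pow]
    rw [map_mul, map_pow _ t] at hN
    linear_combination hR o + c o ^ N * hN - (R o - algebraMap A Kb z) * h3
  choose z hz using hglue
  have hlim : ∀ y, ∃ L : A, ∀ k, Cg t k ((s k).1 * ιM y) (algebraMap A Kb L) := fun y => by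
    obtain ⟨L, hL⟩ := IsPrecomplete.prec (I := Ideal.span {t}) (inferInstance : IsPrecomplete _ A)
      (f := fun k => z k y) (fun {m n} h => by
        rw [SModEq.sub_mem, smul_eq_mul, Ideal.mul_top, Ideal.span_singleton_pow]
        refine hdvd m _ ?_
        obtain ⟨w₁, hw₁⟩ := (hz m y).mono (Nat.le_succ m)
        obtain ⟨w₂, hw₂⟩ := (hz n y).mono (show m ≤ n + 1 by omega)
        obtain ⟨w₃, hw₃⟩ := (hsc m n h).mono (Nat.le_succ m)
        exact ⟨w₂ - w₁ - w₃ * ιM y, by rw [map_sub]; linear_combination hw₂ - hw₁ - ιM y * hw₃⟩)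
    refine ⟨L, fun k => ?_⟩
    obtain ⟨w₁, hw₁⟩ := (hz k y).mono (Nat.le_succ k)
    have h1 := hL k
    rw [SModEq.sub_mem, smul_eq_mul, Ideal.mul_top, Ideal.span_singleton_pow] at h1
    obtain ⟨b, hb'⟩ := Ideal.mem_span_singleton.mp h1
    have h2 := congrArg (algebraMap A Kb) hb'
    rw [map_sub, map_mul, map_pow] at h2
    exact ⟨w₁ + algebraMap A Kb b, by linear_combination hw₁ + h2⟩
  choose L hL using hlim
  have huniq : ∀ y L', (∀ k, Cg t k ((s k).1 * ιM y) (algebraMap A Kb L')) → L y = L' := fun y L' h => by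
    refine sub_eq_zero.mp (hhaus _ fun k => hdvd k _ ?_)
    obtain ⟨w₁, hw₁⟩ := hL y k
    obtain ⟨w₂, hw₂⟩ := h k
    exact ⟨w₂ - w₁, by rw [map_sub]; linear_combination hw₂ - hw₁⟩
  let ψ : M →ₗ[A] A :=
    { toFun := L
      map_add' := fun y y' => huniq _ _ fun k => by
        obtain ⟨w₁, hw₁⟩ := hL y k
        obtain ⟨w₂, hw₂⟩ := hL y' k
        exact ⟨w₁ + w₂, by rw [map_add, map_add]; linear_combination hw₁ + hw₂⟩
      map_smul' := fun r y => huniq _ _ fun k => by
        obtain ⟨w₁, hw₁⟩ := hL y k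
        refine ⟨algebraMap A Kb r * w₁, ?_⟩
        rw [map_smul, RingHom.id_apply, smul_eq_mul, map_mul, Algebra.smul_def]
        linear_combination (algebraMap A Kb r) * hw₁ }
  have hred : ∀ y, q (ψ y) = φ₀ y := fun y => hinj (by
    obtain ⟨w₁, hw₁⟩ := hL y 1
    obtain ⟨w₂, hw₂⟩ := hsc 0 1 (Nat.zero_le 1)
    have h1 := congrArg π hw₁
    have h2 := congrArg π hw₂
    have hpt : π (algebraMap A Kb t) = 0 := hS.pi_t
    simp only [map_add, map_mul, hpt, pow_one, zero_add, zero_mul, add_zero] at h1 h2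
    rw [hS.comm] at h1
    rw [show π (s 0).1 = x₀ from hσ₀] at h2
    show algebraMap A₀ K (q (L y)) = _
    rw [← h1, h2, hφ])
  -- the zeros
  refine ⟨ψ, ?_⟩
  by_contra hbad
  push Not at hbad
  obtain ⟨P, hP, hPm, hPψ⟩ := hbad
  have hone : ∀ Q : Ideal A, Q.IsPrime → Q ≠ maximalIdeal A → (∀ x, ψ x ∈ Q) →
      t ∉ Q ∧ ringKrullDim (A ⧸ Q) = 1 := by
    intro Q hQ hQm hQψ
    haveI := hQ
    have hmax : ∀ Q' : Ideal A, Q'.IsPrime → Q ≤ Q' → t ∈ Q' → Q' = maximalIdeal A := fun Q' hQ' hle ht' => by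
      by_contra hne
      obtain ⟨x, a, hax, ha'⟩ := hφ₀ Q' hQ' hne ht'
      refine ha' ?_
      have h1 : a - ψ x ∈ Ideal.span {t} := Ideal.Quotient.eq.mp (hax.trans (hred x).symm)
      rw [← sub_add_cancel a (ψ x)]
      exact add_mem ((Ideal.span_singleton_le_iff_mem _).mpr ht' h1) (hle (hQψ x))
    have htQ : t ∉ Q := fun h => hQm (hmax Q hQ le_rfl h)
    refine ⟨htQ, ?_⟩
    haveI : IsLocalRing (A ⧸ Q) := IsLocalRing.of_surjective' (Ideal.Quotient.mk _) Ideal.Quotient.mk_surjective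
    haveI : IsLocalHom (Ideal.Quotient.mk Q) := IsLocalHom.of_surjective _ Ideal.Quotient.mk_surjective
    have hmin : maximalIdeal (A ⧸ Q) ∈ (Ideal.span {Ideal.Quotient.mk Q t}).minimalPrimes := by
      refine ⟨⟨inferInstance, (Ideal.span_singleton_le_iff_mem _).mpr (map_nonunit _ t ht)⟩, ?_⟩
      rintro Q' ⟨hQ', hQt⟩ -
      haveI := hQ'
      have h := hmax (Q'.comap (Ideal.Quotient.mk Q)) inferInstance
        (fun x hx => by rw [Ideal.mem_comap, Ideal.Quotient.eq_zero_iff_mem.mpr hx]; exact zero_mem _)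
        (hQt (Ideal.mem_span_singleton_self _))
      rw [← Ideal.map_comap_of_surjective (Ideal.Quotient.mk Q) Ideal.Quotient.mk_surjective Q', h,
        ← maximalIdeal_comap (f := Ideal.Quotient.mk Q),
        Ideal.map_comap_of_surjective _ Ideal.Quotient.mk_surjective]
    have hle : (maximalIdeal (A ⧸ Q)).height ≤ 1 :=
      Ideal.height_le_one_of_isPrincipal_of_mem_minimalPrimes _ _ hmin
    have hge : (maximalIdeal (A ⧸ Q)).height ≠ 0 := fun h0 => by
      rw [Ideal.height_eq_zero_iff_eq_bot] at h0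
      exact htQ (Ideal.Quotient.eq_zero_iff_mem.mp (Ideal.mem_bot.mp (h0 ▸ map_nonunit _ t ht)))
    rw [← maximalIdeal_height_eq_ringKrullDim, le_antisymm hle (Order.one_le_iff_ne_zero.mpr hge)]
    rfl
  haveI := hP
  obtain ⟨-, hdimP⟩ := hone P hP hPm hPψ
  obtain ⟨i, hi⟩ : ∃ i, f i ∉ P := by
    by_contra hall
    push Not at hall
    refine hPm (le_antisymm (le_maximalIdeal hP.ne_top) (hrad.trans ?_))
    rw [hP.radical_le_iff, Ideal.span_le]
    rintro _ ⟨i, rfl⟩
    exact hall i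
  have hminP : P ∈ (Ideal.span {ψ (e i)}).minimalPrimes := by
    refine ⟨⟨hP, (Ideal.span_singleton_le_iff_mem _).mpr (hPψ _)⟩, ?_⟩
    rintro Q ⟨hQ, hQe⟩ hQP
    haveI := hQ
    have hQψ : ∀ x, ψ x ∈ Q := fun x => by
      have h1 : f i * ψ x ∈ Q := by
        rw [← smul_eq_mul, ← map_smul, hlam, map_smul, smul_eq_mul]
        exact Q.mul_mem_left _ (hQe (Ideal.mem_span_singleton_self _))
      exact (hQ.mem_or_mem h1).resolve_left fun h => hi (hQP h)
    have hQm : Q ≠ maximalIdeal A := fun h => hPm (le_antisymm (le_maximalIdeal hP.ne_top) (h ▸ hQP))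
    obtain ⟨-, hdimQ⟩ := hone Q hQ hQm hQψ
    by_contra hne
    haveI : IsLocalRing (A ⧸ Q) := IsLocalRing.of_surjective' (Ideal.Quotient.mk _) Ideal.Quotient.mk_surjective
    have hker' : RingHom.ker (Ideal.Quotient.mk Q) ≤ P := by rw [Ideal.mk_ker]; exact hQP
    haveI : (P.map (Ideal.Quotient.mk Q)).IsPrime := Ideal.map_isPrime_of_surjective Ideal.Quotient.mk_surjective hker'
    have hback : (P.map (Ideal.Quotient.mk Q)).comap (Ideal.Quotient.mk Q) = P := by
      rw [Ideal.comap_map_of_surjective _ Ideal.Quotient.mk_surjective, ← RingHom.ker_eq_comap_bot,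
        sup_eq_left.mpr hker']
    have hlt : P.map (Ideal.Quotient.mk Q) < maximalIdeal (A ⧸ Q) := by
      refine lt_of_le_of_ne (le_maximalIdeal (Ideal.IsPrime.ne_top inferInstance)) fun h => hPm ?_
      haveI : IsLocalHom (Ideal.Quotient.mk Q) := IsLocalHom.of_surjective _ Ideal.Quotient.mk_surjective
      rw [← hback, h]
      exact maximalIdeal_comap (Ideal.Quotient.mk Q)
    have hpos : (P.map (Ideal.Quotient.mk Q)).height ≠ 0 := fun h0 => hne (by
      rw [Ideal.height_eq_zero_iff_eq_bot] at h0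
      rw [h0, ← RingHom.ker_eq_comap_bot, Ideal.mk_ker] at hback
      exact hback.symm.le)
    have h2 := Ideal.height_strict_mono_of_isPrime hlt
    have h3 : (maximalIdeal (A ⧸ Q)).height = 1 := by
      have h4 := maximalIdeal_height_eq_ringKrullDim (R := A ⧸ Q)
      rw [hdimQ] at h4
      exact_mod_cast h4
    rw [h3, Order.lt_one_iff] at h2
    exact hpos h2
  have hht : P.height ≤ 1 := Ideal.height_le_one_of_isPrincipal_of_mem_minimalPrimes _ _ hminP
  have hdepth := (WithBot.coe_le_coe.2 (ha ⟨P, hP⟩ hdimP)).trans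
    (LC.depth_le_supportDim (R := Localization.AtPrime P) (M := Localization.AtPrime P))
  rw [Module.supportDim_self_eq_ringKrullDim, IsLocalization.AtPrime.ringKrullDim_eq_height P] at hdepth
  exact absurd ((WithBot.coe_le_coe.1 hdepth).trans hht) (by decide)

end Groth.Agent.CILift
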