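import Groth.Agent.CILift.Functional

/-!
# The algebraized module over a ring complete along the hypersurface
-/

set_option linter.style.haveILetI false

universe u

open IsLocalRing

namespace Groth.Agent.CILift

open Groth.Agent Groth.Agent.RamSam

variable {B A Kb K : Type u} [CommRing B] [CommRing A] [CommRing Kb] [CommRing K] [Algebra B Kb] [Algebra A K]
  {q : B →+* A} {t : B} {π : Kb →+* K} {ι : Type u} [Fintype ι] {fB : ι → B}
  {μ ε : ι → K} {v : ℕ → ι → Kb}

set_option maxHeartbeats 1600000 in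
/-- Compatible sequences form a finite module of rank one where the cover does not vanish. -/
theorem exists_lim_module [IsLocalRing B] [IsNoetherianRing B] [IsLocalRing A] [IsNoetherianRing A]
    [hinj : Fact (Function.Injective (algebraMap A K))]
    (hS : Setup q t π fB) (hv : ∀ n, Datum t π fB μ n (v n))
    (hc : ∀ n m, n ≤ m → ∀ i, Cg t (n + 1) (v m i) (v n i)) (hD : DivData K (fun i => q (fB i)) μ ε)
    (hd : Deep (fun i => q (fB i)) 3 (⊥ : Ideal A)) (hd2 : Deep (fun i => q (fB i)) 2 (⊥ : Ideal A))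
    [Nonempty ι] (ht : t ∈ maximalIdeal B)
    (hser : ∀ b : ℕ → B, ∃ β : B, ∀ N, ∃ c, β = (∑ n ∈ Finset.range N, t ^ n * b n) + t ^ N * c) :
    Module.Finite B (LimMod t fB v) ∧ ∃ θ : LimMod t fB v →+ K,
      (∀ (b : B) x, θ (b • x) = algebraMap A K (q b) * θ x) ∧ (∀ x, θ x ∈ T0 A μ) ∧
      ∃ (n₁ : ℕ) (eT : ι → LimMod t fB v), (∀ i, θ (eT i) = algebraMap A K (q (fB i) ^ n₁) * ε i) ∧
        (∀ i (b : B), b • eT i = 0 → b = 0) ∧
        ∃ y : ι → B, (∀ i, ∃ d, q (y i) = q (fB i) ^ d) ∧ ∀ i (x : LimMod t fB v), ∃ b : B, y i • x = b • eT i := by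
  classical
  obtain ⟨n₁, hn₁⟩ := exists_seq hS hv hc hD hd
  have hcompI : ∀ b (x : Kb), π (b • x) = algebraMap A K (q b) * π x := fun b x => by
    rw [Algebra.smul_def, map_mul, hS.comm]
  have hcg0 : ∀ {n : ℕ} {x y : Kb}, 1 ≤ n → Cg t n x y → π x = π y := fun {n x y} hn h => by
    obtain ⟨w, hw⟩ := h
    rw [hw, map_add, map_mul, map_pow, hS.pi_t, zero_pow (by omega), zero_mul, add_zero]
  -- sections of the reduction
  have hT0 : ∀ x : K, x ∈ T0 A μ → ∃ σ, IsSect t fB (v) 0 σ ∧ π σ = x := fun x hx => by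
    obtain ⟨σ, hσ⟩ := hS.surj x
    refine ⟨σ, fun l => ?_, hσ⟩
    obtain ⟨z, hz⟩ := hx l
    obtain ⟨z, rfl⟩ := hS.surj_q z
    obtain ⟨w, hw⟩ := hS.ker (v 0 l * σ - algebraMap B Kb z) (by
      rw [map_sub, map_mul, (hv 0).1, hσ, hz, hS.comm, sub_self])
    exact ⟨algebraMap B Kb z, algebraMap_mem_sub trivial, w, by linear_combination hw⟩
  have hraise : ∀ x ∈ T0 A μ, ∀ o, ∃ s : ↥(seqMod t fB v), π ((s : ℕ → Kb) 0) =
      algebraMap A K (q (fB o) ^ n₁) * x := fun x hx o => by
    obtain ⟨σ, hσ, rfl⟩ := hT0 x hx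
    obtain ⟨σ', hσ', hcg⟩ := exists_raise_pow hS hv hc hD hd hσ o n₁
    obtain ⟨s, hs, hs0⟩ := hn₁ σ' hσ'
    exact ⟨⟨s, hs⟩, by rw [hs0, hcg0 le_rfl hcg, hcompI, map_pow q]⟩
  have hmem0 : ∀ s : ↥(seqMod t fB v), π ((s : ℕ → Kb) 0) ∈ T0 A μ := fun s l => by
    have hloc : ∀ i, μ i * π ((s : ℕ → Kb) 0) ∈ Sub K ⊤ (q (fB i)) := fun i => by
      obtain ⟨r, hr, hw⟩ := (s.2 0).1 i
      rw [← (hv 0).1 i, ← map_mul, hcg0 le_rfl hw]
      exact hS.map_mem hr
    obtain ⟨z, hz⟩ := cech₀ hD.unit_f hd2 (fun i => μ l * π ((s : ℕ → Kb) 0))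
      (fun i => hD.move i l dvd_rfl (hloc i)) fun i j => by rw [sub_self]; exact zero_mem _
    obtain ⟨o⟩ := ‹Nonempty ι›
    exact ⟨z, sub_eq_zero.mp (sub_bot hinj.out (hD.unit_f o) (hz o))⟩
  -- reduction modulo `t`
  have hdiv : ∀ s : ↥(seqMod t fB v), π ((s : ℕ → Kb) 0) = 0 → ∃ s', s - t • s' ∈ nullMod t fB v := fun s hs => by
    have h0 : ∀ k, π ((s : ℕ → Kb) k) = 0 := by
      intro k
      induction k with
      | zero => exact hs
      | succ k ih => rw [hcg0 (by omega) (s.2 k).2, ih]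
    choose y hy using fun k => hS.ker _ (h0 (k + 1))
    have hy' : IsSeq t fB v y := fun k => by
      refine ⟨fun i => ?_, ?_⟩
      · obtain ⟨r, hr, w, hw⟩ := (s.2 (k + 1)).1 i
        obtain ⟨r', hr'⟩ := hS.ker r (by
          have := congrArg π hw
          rw [map_mul, hy k, map_mul π (algebraMap B Kb t), hS.pi_t, zero_mul, mul_zero, map_add, map_mul, map_pow,
            hS.pi_t, zero_pow (Nat.succ_ne_zero _), zero_mul, add_zero] at this
          exact this.symm)
        refine ⟨r', hS.div_t 1 (by rw [pow_one, ← hr']; exact hr), ?_⟩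
        have h1 : Cg t (k + 1) (v (k + 1) i * y k) r' := ⟨w, sub_eq_zero.mp (hS.reg_t _ (by
          rw [hy k, hr'] at hw
          linear_combination hw))⟩
        exact ((hc k (k + 1) (Nat.le_succ k) i).symm.mul_right _).trans h1
      · obtain ⟨w, hw⟩ := (s.2 (k + 1)).2
        exact ⟨w, sub_eq_zero.mp (hS.reg_t _ (by
          rw [hy (k + 1), hy k] at hw
          linear_combination hw))⟩
    refine ⟨⟨y, hy'⟩, fun k => ?_⟩
    obtain ⟨w, hw⟩ := (s.2 k).2
    exact ⟨-w, by
      simp only [Submodule.coe_sub, Submodule.coe_smul, Pi.sub_apply, Pi.smul_apply]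
      simp only [Algebra.smul_def]
      linear_combination hy k - hw⟩
  have hregT : ∀ x : LimMod t fB v, t • x = 0 → x = 0 := fun x hx => by
    obtain ⟨s, rfl⟩ := Submodule.Quotient.mk_surjective _ x
    rw [← Submodule.Quotient.mk_smul, Submodule.Quotient.mk_eq_zero] at hx
    rw [Submodule.Quotient.mk_eq_zero]
    intro k
    obtain ⟨w, hw⟩ := hx (k + 1)
    have h1 : (s : ℕ → Kb) (k + 1) = algebraMap B Kb t ^ (k + 1) * w := sub_eq_zero.mp (hS.reg_t _ (by
      simp only [Submodule.coe_smul, Pi.smul_apply, Algebra.smul_def] at hw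
      linear_combination hw))
    obtain ⟨w', hw'⟩ := (s.2 k).2
    exact ⟨w - w', by linear_combination h1 - hw'⟩
  -- the image
  let P0 : Submodule A K :=
    { carrier := {x | ∃ s : ↥(seqMod t fB v), π ((s : ℕ → Kb) 0) = x}
      add_mem' := by rintro _ _ ⟨s, rfl⟩ ⟨s', rfl⟩; exact ⟨s + s', map_add π _ _⟩
      zero_mem' := ⟨0, map_zero π⟩
      smul_mem' := by
        rintro a _ ⟨s, rfl⟩
        obtain ⟨b, rfl⟩ := hS.surj_q a
        exact ⟨b • s, by rw [Algebra.smul_def]; exact hcompI b _⟩ }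
  have hP0T : P0 ≤ T0 A μ := by rintro _ ⟨s, rfl⟩; exact hmem0 s
  haveI : IsNoetherian A (T0 A μ) := by
    let Λ : K →ₗ[A] (ι → K) := LinearMap.pi fun l => LinearMap.mulLeft A (μ l)
    let E : (ι → A) →ₗ[A] (ι → K) := LinearMap.pi fun l => (Algebra.linearMap A K).comp (LinearMap.proj l)
    have hsub : ∀ x : T0 A μ, Λ x ∈ LinearMap.range E := fun x => by
      choose z hz using x.2
      exact ⟨z, funext fun l => (hz l).symm⟩
    refine isNoetherian_of_injective (LinearMap.codRestrict (LinearMap.range E) (Λ.comp (Submodule.subtype _)) hsub)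
      fun x y h => Subtype.ext ?_
    obtain ⟨o⟩ := ‹Nonempty ι›
    exact (hD.unit_μ o).mul_left_cancel (congrFun (congrArg Subtype.val h) o)
  have hP0fg : P0.FG := by
    have := (IsNoetherian.noetherian (P0.comap (T0 A μ).subtype)).map (T0 A μ).subtype
    rwa [Submodule.map_comap_subtype, inf_eq_right.mpr hP0T] at this
  -- finiteness
  haveI : Module.Finite B (LimMod t fB v) := by
    obtain ⟨r, x, hx⟩ := Submodule.fg_iff_exists_fin_generating_family.mp hP0fg
    choose g hg using fun l => (hx ▸ Submodule.subset_span ⟨l, rfl⟩ : x l ∈ P0)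
    let φ : (Fin r → B) →ₗ[B] ↥(seqMod t fB v) := Fintype.linearCombination B g
    have hstep : ∀ s, ∃ (b : Fin r → B) (s' : ↥(seqMod t fB v)), s - φ b - t • s' ∈ nullMod t fB v := fun s => by
      obtain ⟨a, ha⟩ := (Submodule.mem_span_range_iff_exists_fun A).mp (hx.ge (⟨s, rfl⟩ : π ((s : ℕ → Kb) 0) ∈ P0))
      choose b hb using fun l => hS.surj_q (a l)
      obtain ⟨s', hs'⟩ := hdiv (s - φ b) (by
        simp only [φ, Fintype.linearCombination_apply, Submodule.coe_sub, Submodule.coe_sum, Submodule.coe_smul,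
          Pi.sub_apply, Finset.sum_apply, Pi.smul_apply, map_sub, map_sum, hcompI, hg, hb]
        rw [← ha]
        simp [Algebra.smul_def])
      exact ⟨b, s', hs'⟩
    choose b s' hbs using hstep
    refine Module.Finite.of_surjective ((nullMod t fB v).mkQ.comp φ) fun X => ?_
    obtain ⟨s, rfl⟩ := Submodule.Quotient.mk_surjective _ X
    let it : ℕ → ↥(seqMod t fB v) := Nat.rec s fun _ p => s' p
    choose β hβ using fun l => hser (fun n => b (it n) l)
    have happrox : ∀ N, s - φ (fun l => ∑ n ∈ Finset.range N, t ^ n * b (it n) l) - t ^ N • it N ∈ nullMod t fB v := by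
      intro N
      induction N with
      | zero =>
        have : s - φ (fun l => ∑ n ∈ Finset.range 0, t ^ n * b (it n) l) - t ^ 0 • it 0 = 0 := by
          have h0 : (fun l : Fin r => ∑ n ∈ Finset.range 0, t ^ n * b (it n) l) = 0 := by funext l; simp
          rw [h0, map_zero, pow_zero, one_smul, sub_zero]
          exact sub_self s
        rw [this]
        exact zero_mem _
      | succ N ih =>
        have h1 := add_mem ih ((nullMod t fB v).smul_mem (t ^ N) (hbs (it N)))
        have h2 : (fun l => ∑ n ∈ Finset.range (N + 1), t ^ n * b (it n) l) =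
            (fun l => ∑ n ∈ Finset.range N, t ^ n * b (it n) l) + t ^ N • b (it N) := by
          funext l; simp [Finset.sum_range_succ]
        rw [h2, map_add, map_smul]
        convert h1 using 1
        rw [smul_sub, smul_sub, smul_smul, ← pow_succ]
        show _ = _ + (t ^ N • it N - t ^ N • φ (b (it N)) - t ^ (N + 1) • it (N + 1))
        abel
    refine ⟨β, ?_⟩
    rw [LinearMap.comp_apply, Submodule.mkQ_apply, Submodule.Quotient.eq]
    intro k
    choose c hc' using fun l => hβ l (k + 1)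
    obtain ⟨w, hw⟩ := happrox (k + 1) k
    refine ⟨((φ c : ↥(seqMod t fB v)) : ℕ → Kb) k - ((it (k + 1) : ↥(seqMod t fB v)) : ℕ → Kb) k - w, ?_⟩
    have hβeq : β = (fun l => ∑ n ∈ Finset.range (k + 1), t ^ n * b (it n) l) + t ^ (k + 1) • c := by
      funext l; simp [hc' l]
    rw [hβeq, map_add, map_smul]
    simp only [Submodule.coe_sub, Submodule.coe_add, Submodule.coe_smul, Pi.sub_apply, Pi.add_apply,
      Pi.smul_apply] at hw ⊢
    simp only [Algebra.smul_def, map_pow] at hw ⊢
    linear_combination (-1 : Kb) * hw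
  -- rank one off finitely many curves
  have hεT : ∀ i, ε i ∈ T0 A μ := fun i l => hD.glob i l
  choose e he using fun i => hraise (ε i) (hεT i) i
  let eT : ι → LimMod t fB v := fun i => Submodule.Quotient.mk (e i)
  have hy : ∀ i, ∃ y : B, (∃ d, q y = q (fB i) ^ d) ∧ ∀ x : LimMod t fB v, ∃ b, y • x = b • eT i := fun i => by
    let Q := LimMod t fB v ⧸ Submodule.span B {eT i}
    let c := fB i ^ (n₁ + 1)
    have hrange : LinearMap.range (algebraMap B (Module.End B Q) c) ≤ Ideal.span {t} • (⊤ : Submodule B Q) := by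
      rintro _ ⟨X, rfl⟩
      obtain ⟨x, rfl⟩ := Submodule.Quotient.mk_surjective _ X
      obtain ⟨s, rfl⟩ := Submodule.Quotient.mk_surjective _ x
      obtain ⟨z, hz⟩ := hmem0 s i
      obtain ⟨z, rfl⟩ := hS.surj_q z
      obtain ⟨s'', hs''⟩ := hdiv (c • s - z • e i) (by
        simp only [Submodule.coe_sub, Submodule.coe_smul, Pi.sub_apply, Pi.smul_apply, map_sub, hcompI, he, c,
          map_pow]
        have hfr := hD.frame i
        linear_combination algebraMap A K (q (fB i)) ^ n₁ * ε i * hz -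
          algebraMap A K (q (fB i)) ^ n₁ * π ((s : ℕ → Kb) 0) * hfr)
      rw [Module.algebraMap_end_apply, Submodule.ideal_span_singleton_smul, Submodule.mem_smul_pointwise_iff_exists]
      refine ⟨Submodule.Quotient.mk (Submodule.Quotient.mk s''), trivial, ?_⟩
      show (Submodule.Quotient.mk (Submodule.Quotient.mk (t • s'')) : Q) =
        Submodule.Quotient.mk (Submodule.Quotient.mk (c • s))
      rw [Submodule.Quotient.eq, Submodule.mem_span_singleton]
      refine ⟨-z, ?_⟩
      show (Submodule.Quotient.mk (-z • e i) : LimMod t fB v) = Submodule.Quotient.mk (t • s'' - c • s)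
      rw [Submodule.Quotient.eq]
      convert hs'' using 1
      module
    obtain ⟨p, hp1, -, hp2, hp3⟩ :=
      LinearMap.exists_monic_and_natDegree_eq_and_coeff_mem_pow_and_aeval_eq_zero B (algebraMap B (Module.End B Q) c)
        (Ideal.span {t}) hrange
    refine ⟨p.eval c, ⟨(n₁ + 1) * p.natDegree, ?_⟩, fun x => ?_⟩
    · rw [Polynomial.eval_eq_sum_range, map_sum, Finset.sum_range_succ, hp1.coeff_natDegree, one_mul]
      rw [Finset.sum_eq_zero fun k hk => ?_, zero_add, map_pow, map_pow, ← pow_mul]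
      obtain ⟨w, hw⟩ := Ideal.mem_span_singleton.mp
        (Ideal.pow_le_self (Nat.sub_ne_zero_of_lt (Finset.mem_range.mp hk)) (hp2 k))
      rw [hw, map_mul, map_mul, hS.q_t, zero_mul, zero_mul]
    · rw [Polynomial.aeval_algebraMap_apply_eq_algebraMap_eval] at hp3
      have h0 := LinearMap.congr_fun hp3 (Submodule.Quotient.mk x)
      rw [Module.algebraMap_end_apply, LinearMap.zero_apply, ← Submodule.Quotient.mk_smul,
        Submodule.Quotient.mk_eq_zero, Submodule.mem_span_singleton] at h0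
      obtain ⟨b, hb⟩ := h0
      exact ⟨b, hb.symm⟩
  choose y hyq hyT using hy
  have hann : ∀ i (b : B), b • eT i = 0 → b = 0 := by
    intro i b hb
    suffices ∀ N, b ∈ Ideal.span {t ^ N} by
      rw [← Ideal.mem_bot, ← Ideal.iInf_pow_eq_bot_of_isLocalRing _ (maximalIdeal.isMaximal B).ne_top,
        Submodule.mem_iInf]
      exact fun N => (Ideal.span_singleton_le_iff_mem _).mpr (Ideal.pow_mem_pow ht N) (this N)
    intro N
    induction N generalizing b with
    | zero => simp
    | succ N ih =>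
      have hb' := hb
      rw [← Submodule.Quotient.mk_smul, Submodule.Quotient.mk_eq_zero] at hb'
      have h0 := hcg0 le_rfl (hb' 0)
      simp only [Submodule.coe_smul, Pi.smul_apply, hcompI, he, map_zero] at h0
      obtain ⟨ue, hue⟩ : IsUnit (ε i) := isUnit_of_mul_isUnit_right (hD.frame i ▸ hD.unit_f i)
      have hqb : q b = 0 := hinj.out (by
        rw [map_zero]
        rw [← mul_assoc] at h0
        have hu : IsUnit (algebraMap A K (q (fB i) ^ n₁)) := by rw [map_pow]; exact (hD.unit_f i).pow _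
        exact hu.mul_left_eq_zero.mp ((hue ▸ ue.isUnit : IsUnit (ε i)).mul_left_eq_zero.mp h0))
      obtain ⟨b₁, rfl⟩ := hS.ker_q b hqb
      obtain ⟨c, hc'⟩ := Ideal.mem_span_singleton.mp (ih b₁ (hregT _ (by rw [smul_smul]; exact hb)))
      exact Ideal.mem_span_singleton.mpr ⟨c, by rw [hc', pow_succ]; ring⟩
  let Z : ↥(seqMod t fB v) →+ K :=
    { toFun := fun s => π ((s : ℕ → Kb) 0)
      map_zero' := map_zero π
      map_add' := fun s s' => map_add π _ _ }
  have hZ : (nullMod t fB v).toAddSubgroup ≤ Z.ker := fun s hs => by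
    show π ((s : ℕ → Kb) 0) = 0
    rw [hcg0 le_rfl (hs 0), map_zero]
  let θ : LimMod t fB v →+ K := QuotientAddGroup.lift _ Z hZ
  have hθ : ∀ s, θ (Submodule.Quotient.mk s) = π ((s : ℕ → Kb) 0) := fun s => rfl
  refine ⟨inferInstance, θ, fun b x => ?_, fun x => ?_, n₁, eT, fun i => ?_, hann, y, hyq, hyT⟩
  · obtain ⟨s, rfl⟩ := Submodule.Quotient.mk_surjective _ x
    rw [← Submodule.Quotient.mk_smul, hθ, hθ]
    exact hcompI b _
  · obtain ⟨s, rfl⟩ := Submodule.Quotient.mk_surjective _ x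
    rw [hθ]
    exact hmem0 s
  · show θ (Submodule.Quotient.mk (e i)) = _
    rw [hθ, he]

end Groth.Agent.CILift
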