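import Groth.Agent.CILift.Functional
import Groth.Agent.CILift.Cover
import Groth.Agent.RamSam.PicTriv
import Groth.Agent.CILift.Loc

/-!
# Parafactoriality of a hypersurface section of depth four

A quotient of depth at least four of a complete parafactorial ring by a regular element is parafactorial, provided the
localizations at curves outside the hypersurface are parafactorial.
-/

set_option linter.style.haveILetI false

universe u

open IsLocalRing

namespace Groth.Agent.CILift

open Groth.Agent Groth.Agent.RamSam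

/-- Positive depth gives a regular element. -/
theorem exists_regular {R : Type u} [CommRing R] [IsLocalRing R] [IsNoetherianRing R]
    (hd : (4 : ℕ∞) ≤ LocCoh.depth R R) : ∃ s ∈ maximalIdeal R, IsSMulRegular R s := by
  obtain ⟨rs, hrs, hmem, hlen⟩ := Alg6.exists_length_ge_of_le_idealDepth (R := R) (M := R)
    (Alg6.maximal_smul_top_ne_top) (n := 4) (by exact_mod_cast hd)
  match rs, hlen with
  | a :: tl, _ => exact ⟨a, hmem a (by simp), ((RingTheory.Sequence.isWeaklyRegular_cons_iff R a _).mp hrs).1⟩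

set_option maxHeartbeats 1600000 in
/-- Parafactoriality of a quotient of depth four by a regular element. -/
theorem isParafactorial_of_regular_quotient {B A : Type u} [CommRing B] [CommRing A] [IsLocalRing B]
    [IsNoetherianRing B] [IsAdicComplete (maximalIdeal B) B] [IsLocalRing A] [IsNoetherianRing A]
    (q : B →+* A) (hq : Function.Surjective q) (t : B) (hker : RingHom.ker q = Ideal.span {t})
    (ht : t ∈ maximalIdeal B) (hreg : ∀ b, t * b = 0 → b = 0)
    (hd : (4 : ℕ∞) ≤ LocCoh.depth A A) (hB : ParaF.IsParafactorialLocalRing B)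
    (hP : ∀ P : PrimeSpectrum B, t ∉ P.asIdeal → ringKrullDim (B ⧸ P.asIdeal) = 1 →
      ParaF.IsParafactorialLocalRing (Localization.AtPrime P.asIdeal)) :
    ParaF.IsParafactorialLocalRing A := by
  classical
  refine (ParaFX.isParafactorialLocalRing_iff A).2
    ⟨ParaFX.punctured_bijective A (le_trans (by decide) hd), picTrivial_punctured A fun M _ _ _ hM => ?_⟩
  obtain ⟨s₀, hs₀, hs₀'⟩ := exists_regular hd
  obtain ⟨ι, _, f, e, lam, hne, hfreg, hrad, he, hlam⟩ := exists_cover M hM hs₀ hs₀'
  choose fB hfB using fun i => hq (f i)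
  obtain rfl : (fun i => q (fB i)) = f := funext hfB
  obtain ⟨o⟩ := hne
  have hd4 : Deep (fun i => q (fB i)) 4 (⊥ : Ideal A) := deep_of_depth hrad hd
  have hd3 := deep_of_succ 3 hd4
  have hd2 := deep_of_succ 2 hd3
  obtain ⟨hinj, π, hS⟩ := exists_setup q hq t hker hreg fB hfreg
  haveI := Fact.mk hinj
  let K := Localization.Away (∏ i, q (fB i))
  have hunit : ∀ i, IsUnit (algebraMap A K (q (fB i))) := isUnit_away (fun i => q (fB i))
  obtain ⟨u, hu⟩ := hunit o
  let μ : ι → K := fun i => algebraMap A K (lam i (e o))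
  let ιM : M →ₗ[A] K := LinearMap.mulLeft A ((u⁻¹ : Kˣ) : K) ∘ₗ (Algebra.linearMap A K) ∘ₗ lam o
  let ε : ι → K := fun i => ιM (e i)
  have hkey : ∀ l y, μ l * ιM y = algebraMap A K (lam l y) := fun l y => by
    have h1 : q (fB o) * lam l y = lam o y * lam l (e o) := by
      rw [← smul_eq_mul, ← map_smul, hlam o y, map_smul, smul_eq_mul]
    show algebraMap A K (lam l (e o)) * (((u⁻¹ : Kˣ) : K) * algebraMap A K (lam o y)) = _
    rw [mul_left_comm, ← map_mul, mul_comm (lam l (e o)), ← h1, map_mul, ← hu, ← mul_assoc, Units.inv_mul, one_mul]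
  have hframe : ∀ i, μ i * ε i = algebraMap A K (q (fB i)) := fun i => (hkey i (e i)).trans (by rw [he])
  have hD : DivData K (fun i => q (fB i)) μ ε :=
    { unit_f := hunit
      unit_μ := fun i => isUnit_of_mul_isUnit_left (hframe i ▸ hunit i)
      frame := hframe
      glob := fun i l => ⟨lam l (e i), hkey l (e i)⟩
      loc := fun x => mem_sub_away x }
  obtain ⟨v, hv, hc⟩ := exists_tower hS hD hd4
  haveI : Nonempty ι := ⟨o⟩
  obtain ⟨ψ, hψ⟩ := exists_functional hS hv hc hD hd3 hd2 ht hreg (fun P hP hPm => by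
    by_contra hall
    push Not at hall
    refine hPm (le_antisymm (le_maximalIdeal hP.ne_top) (hrad.trans ?_))
    rw [hP.radical_le_iff, Ideal.span_le]
    rintro _ ⟨i, rfl⟩
    exact hall i) hB hP
  have hmem : ∀ y, ιM y ∈ T0 A μ := fun y l => ⟨lam l y, hkey l y⟩
  refine ⟨ψ ∘ₗ LinearMap.codRestrict (T0 A μ) ιM hmem, fun P hPp hPm => ?_⟩
  have hi : ∃ i, q (fB i) ∉ P := by
    by_contra hall
    push Not at hall
    refine hPm (le_antisymm (le_maximalIdeal hPp.ne_top) (hrad.trans ?_))
    rw [hPp.radical_le_iff, Ideal.span_le]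
    rintro _ ⟨i, rfl⟩
    exact hall i
  obtain ⟨i, hi⟩ := hi
  exact ⟨e i, hψ P hPp i hi (hmem (e i))⟩

end Groth.Agent.CILift
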