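import Groth.Agent.CILift.Cech

/-!
# Invertible modules as divisors, and finiteness of their first cohomology

An invertible module on the covered open set is recorded by elements `μ i`, the local equations of its sections inside
the common localization.
-/

set_option linter.style.haveILetI false

universe u v w

namespace Groth.Agent.CILift

variable {R : Type u} [CommRing R] (K : Type v) [CommRing K] [Algebra R K] {ι : Type w} [Fintype ι]
  (f : ι → R) (μ : ι → K)

/-- Divisor data: every `μ` is a unit and the frames `ε i` are global sections. -/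
structure DivData (ε : ι → K) : Prop where
  unit_f : ∀ i, IsUnit (algebraMap R K (f i))
  unit_μ : ∀ i, IsUnit (μ i)
  frame : ∀ i, μ i * ε i = algebraMap R K (f i)
  glob : ∀ i l, ∃ z : R, μ l * ε i = algebraMap R K z
  loc : ∀ x : K, x ∈ Sub K ⊤ (∏ i, f i)

variable {K f μ}

theorem inv_mem_sub {h : R} {x : K}
    (hx : algebraMap R K h * x = 1) : x ∈ Sub K ⊤ h := ⟨1, 1, trivial, by rw [pow_one, hx, map_one]⟩

/-- Membership conditions move between the local equations. -/
theorem DivData.move {ε : ι → K} (hD : DivData K f μ ε) {I : Ideal R} {h : R} (i l : ι) (hih : f i ∣ h) {σ : K}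
    (hσ : μ i * σ ∈ Sub K I h) : μ l * σ ∈ Sub K I h := by
  obtain ⟨u, hu⟩ := hD.unit_f i
  obtain ⟨z, hz⟩ := hD.glob i l
  have h1 : ((u⁻¹ : Kˣ) : K) ∈ Sub K ⊤ h :=
    sub_le hih (inv_mem_sub (by rw [← hu, Units.mul_inv]))
  have h2 : μ l * σ = ((u⁻¹ : Kˣ) : K) * algebraMap R K z * (μ i * σ) := by
    obtain ⟨v, hv⟩ := hD.unit_μ i
    have hε : ε i = ((v⁻¹ : Kˣ) : K) * (u : K) := by
      rw [hu, ← hD.frame i, ← hv, ← mul_assoc, Units.inv_mul, one_mul]
    rw [← hz, hε, ← hv,
      show ((u⁻¹ : Kˣ) : K) * (μ l * (((v⁻¹ : Kˣ) : K) * (u : K))) * ((v : K) * σ) =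
        μ l * σ * (((u⁻¹ : Kˣ) : K) * (u : K)) * (((v⁻¹ : Kˣ) : K) * (v : K)) by ring,
      Units.inv_mul, Units.inv_mul, mul_one, mul_one]
  rw [h2]
  exact mul_mem_sub (mul_mem_sub h1 (algebraMap_mem_sub trivial)) hσ

variable (K f μ)

/-- One cocycles. -/
def Z1 : Submodule R (ι → K) where
  carrier := {Φ | ∀ i j, μ i * (Φ i - Φ j) ∈ Sub K ⊤ (f i * f j)}
  add_mem' := fun {Φ Ψ} h h' i j => by
    have := add_mem (h i j) (h' i j)
    convert this using 1
    simp only [Pi.add_apply]; ring
  zero_mem' := fun i j => by simp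
  smul_mem' := fun r Φ h i j => by
    have := (Sub K ⊤ (f i * f j)).smul_mem r (h i j)
    convert this using 1
    simp only [Pi.smul_apply, Algebra.smul_def]; ring

/-- One coboundaries, up to constants. -/
def B1 : Submodule R (ι → K) where
  carrier := {Φ | ∃ κ : K, ∀ i, μ i * (Φ i - κ) ∈ Sub K ⊤ (f i)}
  add_mem' := by
    rintro Φ Ψ ⟨κ, h⟩ ⟨κ', h'⟩
    refine ⟨κ + κ', fun i => ?_⟩
    have := add_mem (h i) (h' i)
    convert this using 1
    simp only [Pi.add_apply]; ring
  zero_mem' := ⟨0, fun i => by simp⟩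
  smul_mem' := by
    rintro r Φ ⟨κ, h⟩
    refine ⟨r • κ, fun i => ?_⟩
    have := (Sub K ⊤ (f i)).smul_mem r (h i)
    convert this using 1
    simp only [Pi.smul_apply, Algebra.smul_def]; ring

/-- The first cohomology of the invertible module. -/
abbrev H1 : Type _ := ↥(Z1 K f μ) ⧸ Submodule.comap (Z1 K f μ).subtype (B1 K f μ)

variable {K f μ} [hinj : Fact (Function.Injective (algebraMap R K))]

/-- The cover kills the first cohomology. -/
theorem smul_H1_eq_zero {ε : ι → K} (hD : DivData K f μ ε) (hd : Deep f 3 (⊥ : Ideal R)) (o : ι)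
    (x : H1 K f μ) : f o • x = 0 := by
  obtain ⟨Φ, rfl⟩ := Submodule.Quotient.mk_surjective _ x
  rw [← Submodule.Quotient.mk_smul, Submodule.Quotient.mk_eq_zero]
  obtain ⟨r, hr, hr'⟩ := cech₁ hD.unit_f hd (fun i j => μ o * ((Φ : ι → K) i - (Φ : ι → K) j))
    (fun i j => hD.move i o (dvd_mul_right _ _) (Φ.2 i j)) fun i j l => by
      rw [show μ o * ((Φ : ι → K) i - (Φ : ι → K) j) + μ o * ((Φ : ι → K) j - (Φ : ι → K) l) -
        μ o * ((Φ : ι → K) i - (Φ : ι → K) l) = 0 by ring]
      exact zero_mem _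
  have hexact : ∀ i j, μ o * ((Φ : ι → K) i - (Φ : ι → K) j) - (r i - r j) = 0 := fun i j =>
    sub_bot hinj.out (by rw [map_mul]; exact (hD.unit_f i).mul (hD.unit_f j)) (hr' i j)
  show (f o • (Φ : ι → K)) ∈ B1 K f μ
  refine ⟨ε o * (μ o * (Φ : ι → K) o - r o), fun i => ?_⟩
  obtain ⟨z, hz⟩ := hD.glob o i
  have h : μ i * ((f o • (Φ : ι → K)) i - ε o * (μ o * (Φ : ι → K) o - r o)) = algebraMap R K z * r i := by
    rw [Pi.smul_apply, Algebra.smul_def, ← hD.frame o, ← hz]
    linear_combination (μ i * ε o) * hexact i o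
  rw [h]
  exact mul_mem_sub (algebraMap_mem_sub trivial) (hr i)

theorem mul_left_regular {ε : ι → K} (hD : DivData K f μ ε) {a : R} (ha : ∀ y, a * y ∈ (⊥ : Ideal R) → y ∈ (⊥ : Ideal R))
    {x : K} (hx : algebraMap R K a * x = 0) : x = 0 := by
  have hF : IsUnit (algebraMap R K (∏ i, f i)) := by
    rw [map_prod]
    exact Finset.prod_induction (fun i => algebraMap R K (f i)) IsUnit (fun _ _ => IsUnit.mul) isUnit_one
      (fun i _ => hD.unit_f i)
  exact sub_bot hinj.out hF (cancel hinj.out ha (hD.loc x) (hx ▸ zero_mem _))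

/-- Cocycles with a splitting after multiplication by `a`, and their residues. -/
def aKer (a : R) : Submodule R (↥(Z1 K f μ) × (ι → R)) :=
    { carrier := {p | ∃ κ : K, ∀ i, μ i * (algebraMap R K a * (p.1 : ι → K) i - κ) ∈ Sub K ⊤ (f i) ∧
        ∀ l, μ l * (algebraMap R K a * (p.1 : ι → K) i - κ) - algebraMap R K (p.2 l) ∈ Sub K (Ideal.span {a}) (f i)}
      add_mem' := by
        rintro p q ⟨κ, h⟩ ⟨κ', h'⟩
        refine ⟨κ + κ', fun i => ⟨?_, fun l => ?_⟩⟩
        · have := add_mem (h i).1 (h' i).1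
          convert this using 1
          simp only [Prod.fst_add, Submodule.coe_add, Pi.add_apply]; ring
        · have := add_mem ((h i).2 l) ((h' i).2 l)
          convert this using 1
          simp only [Prod.fst_add, Prod.snd_add, Submodule.coe_add, Pi.add_apply, map_add]; ring
      zero_mem' := ⟨0, fun i => ⟨by simp, fun l => by simp⟩⟩
      smul_mem' := by
        rintro r p ⟨κ, h⟩
        refine ⟨r • κ, fun i => ⟨?_, fun l => ?_⟩⟩
        · have := (Sub K ⊤ (f i)).smul_mem r (h i).1
          convert this using 1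
          simp only [Prod.smul_fst, Submodule.coe_smul, Pi.smul_apply, Algebra.smul_def]; ring
        · have := (Sub K (Ideal.span {a}) (f i)).smul_mem r ((h i).2 l)
          convert this using 1
          simp only [Prod.smul_fst, Prod.smul_snd, Submodule.coe_smul, Pi.smul_apply, Algebra.smul_def, smul_eq_mul,
            map_mul]
          simp only [Algebra.algebraMap_self, RingHom.id_apply]
          ring }

set_option maxHeartbeats 800000 in
/-- The first cohomology is finitely generated. -/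
theorem finite_H1 [IsNoetherianRing R] {ε : ι → K} (hD : DivData K f μ ε) (hd : Deep f 3 (⊥ : Ideal R)) :
    IsNoetherian R (H1 K f μ) := by
  classical
  obtain ⟨a, ha, hareg, ha'⟩ := hd
  have hd2 : Deep f 2 (⊥ ⊔ Ideal.span {a}) := by simpa using ha' 1 le_rfl
  rw [bot_sup_eq] at hd2
  have hd3 : Deep f 3 (⊥ : Ideal R) := ⟨a, ha, hareg, ha'⟩
  let A₀ := R ⧸ Ideal.span {a}
  -- the kernel of multiplication by `a`
  let G := aKer (K := K) (f := f) (μ := μ) a
  let φ : G →ₗ[R] H1 K f μ := (Submodule.mkQ _).comp ((LinearMap.fst R _ _).comp G.subtype)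
  let ψ : G →ₗ[R] (ι → A₀) :=
    (LinearMap.pi fun l => (Submodule.mkQ (Ideal.span {a})).comp (LinearMap.proj l)).comp
      ((LinearMap.snd R _ _).comp G.subtype)
  have hle : LinearMap.ker ψ ≤ LinearMap.ker φ := by
    rintro ⟨⟨Φ, z⟩, κ, h⟩ hp
    have hzl : ∀ l, z l ∈ Ideal.span {a} := fun l => (Submodule.Quotient.mk_eq_zero _).mp (congrFun hp l)
    have hy : ∀ i, μ i * (algebraMap R K a * (Φ : ι → K) i - κ) ∈ Sub K (⊥ ⊔ Ideal.span {a}) (f i) := fun i => by
      have := add_mem ((h i).2 i) (algebraMap_mem_sub (K := K) (h := f i) (hzl i))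
      rw [sub_add_cancel] at this
      rwa [bot_sup_eq]
    choose y hy₁ hy₂ using fun i => exists_decomp (hD.unit_f i) (hy i)
    choose w hw using fun i => hD.unit_μ i
    have hy₃ : ∀ i, μ i * (algebraMap R K a * (Φ : ι → K) i - κ) = algebraMap R K a * y i := fun i =>
      sub_eq_zero.mp (sub_bot hinj.out (hD.unit_f i) (hy₂ i))
    refine (Submodule.Quotient.mk_eq_zero _).mpr ?_
    show (Φ : ι → K) ∈ B1 K f μ
    by_cases hι : Nonempty ι
    · obtain ⟨o⟩ := hι
      refine ⟨(Φ : ι → K) o - ((w o)⁻¹ : Kˣ) * y o, fun i => ?_⟩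
      have hconst : ∀ j, algebraMap R K a * ((Φ : ι → K) j - ((w j)⁻¹ : Kˣ) * y j) = κ := fun j => by
        have h2 := congrArg (fun x => (((w j)⁻¹ : Kˣ) : K) * x) (hy₃ j)
        simp only [← hw j, ← mul_assoc, Units.inv_mul, one_mul] at h2
        linear_combination h2
      have h0 : ((Φ : ι → K) i - ((w i)⁻¹ : Kˣ) * y i) - ((Φ : ι → K) o - ((w o)⁻¹ : Kˣ) * y o) = 0 :=
        mul_left_regular hD hareg (by rw [mul_sub, hconst, hconst, sub_self])
      rw [show (Φ : ι → K) i - ((Φ : ι → K) o - ((w o)⁻¹ : Kˣ) * y o) = ((w i)⁻¹ : Kˣ) * y i by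
        linear_combination h0, ← hw i, ← mul_assoc, Units.mul_inv, one_mul]
      exact hy₁ i
    · exact ⟨0, fun i => absurd ⟨i⟩ hι⟩
  haveI hker : IsNoetherian R (LinearMap.range φ) := by
    letI : AddCommGroup G := Submodule.addCommGroup G
    haveI : IsNoetherian R (G ⧸ LinearMap.ker ψ) := isNoetherian_of_linearEquiv ψ.quotKerEquivRange.symm
    have hr : LinearMap.range ((LinearMap.ker ψ).liftQ φ hle) = LinearMap.range φ := Submodule.range_liftQ _ _ _
    exact hr ▸ isNoetherian_range _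
  have hka : ∀ x : H1 K f μ, a • x = 0 → x ∈ LinearMap.range φ := by
    intro x hx
    obtain ⟨Φ, rfl⟩ := Submodule.Quotient.mk_surjective _ x
    rw [← Submodule.Quotient.mk_smul, Submodule.Quotient.mk_eq_zero] at hx
    obtain ⟨κ, hκ⟩ : (a • (Φ : ι → K)) ∈ B1 K f μ := hx
    simp only [Pi.smul_apply, Algebra.smul_def] at hκ
    have hex : ∀ l, ∃ z : R, ∀ i, μ l * (algebraMap R K a * (Φ : ι → K) i - κ) - algebraMap R K z ∈
        Sub K (Ideal.span {a}) (f i) := fun l => cech₀ hD.unit_f hd2 _ (fun i => hD.move i l dvd_rfl (hκ i))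
      fun i j => by
        obtain ⟨M, w, -, hw⟩ := hD.move i l (dvd_mul_right _ _) (Φ.2 i j)
        refine ⟨M, a * w, Ideal.mul_mem_right _ _ (Ideal.mem_span_singleton_self a), ?_⟩
        rw [map_mul, ← hw]; ring
    choose z hz using hex
    exact ⟨⟨(Φ, z), κ, fun i => ⟨hκ i, fun l => hz l i⟩⟩, rfl⟩
  -- induction on the exponent
  obtain ⟨N, hN1, hN⟩ := exists_pow_mem ha (Module.annihilator R (H1 K f μ)) fun o => ⟨1, by
    rw [pow_one, Module.mem_annihilator]; exact smul_H1_eq_zero hD hd3 o⟩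
  have key : ∀ j, IsNoetherian R (LinearMap.ker (LinearMap.lsmul R (H1 K f μ) (a ^ j))) := by
    intro j
    induction j with
    | zero =>
      have : LinearMap.ker (LinearMap.lsmul R (H1 K f μ) (a ^ 0)) = ⊥ := by ext x; simp
      rw [this]; infer_instance
    | succ j ih =>
      haveI := ih
      let m : LinearMap.ker (LinearMap.lsmul R (H1 K f μ) (a ^ (j + 1))) →ₗ[R]
          LinearMap.ker (LinearMap.lsmul R (H1 K f μ) (a ^ j)) :=
        LinearMap.codRestrict _ ((LinearMap.lsmul R (H1 K f μ) a).comp (Submodule.subtype _)) fun x => by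
          show a ^ j • a • (x : H1 K f μ) = 0
          rw [smul_smul, ← pow_succ]; exact x.2
      haveI : IsNoetherian R (LinearMap.ker m) := by
        have hsub : ∀ x : LinearMap.ker m, ((x : LinearMap.ker (LinearMap.lsmul R (H1 K f μ) (a ^ (j + 1)))) : H1 K f μ) ∈
            LinearMap.range φ := fun x => hka _ (congrArg Subtype.val x.2)
        exact isNoetherian_of_injective (LinearMap.codRestrict (LinearMap.range φ)
          ((Submodule.subtype _).comp (Submodule.subtype _)) hsub) fun x y h => by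
            exact Subtype.ext (Subtype.ext (congrArg Subtype.val h :))
      letI : AddCommGroup (LinearMap.ker (LinearMap.lsmul R (H1 K f μ) (a ^ (j + 1)))) := Submodule.addCommGroup _
      refine (isNoetherian_iff_submodule_quotient (LinearMap.ker m)).mpr ⟨inferInstance, ?_⟩
      exact isNoetherian_of_linearEquiv m.quotKerEquivRange.symm
  haveI := key N
  exact isNoetherian_of_linearEquiv ((LinearEquiv.ofTop _ (by
    rw [eq_top_iff]; intro x _; exact Module.mem_annihilator.mp hN x) :
    LinearMap.ker (LinearMap.lsmul R (H1 K f μ) (a ^ N)) ≃ₗ[R] H1 K f μ))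

/-- Deep regular sequences from weakly regular powers. -/
theorem deep_of_powers : ∀ (r : ℕ) (s : Fin r → R) (I : Ideal R), (∀ i, s i ∈ (Ideal.span (Set.range f)).radical) →
    (∀ v : Fin r → ℕ, (∀ i, 1 ≤ v i) → ∀ i : Fin r, ∀ y,
      s i ^ v i * y ∈ I ⊔ Ideal.span ((fun j => s j ^ v j) '' Set.Iio i) →
        y ∈ I ⊔ Ideal.span ((fun j => s j ^ v j) '' Set.Iio i)) → Deep f r I
  | 0, _, _, _, _ => trivial
  | r + 1, s, I, hs, h => by
    refine ⟨s 0, hs 0, fun y hy => ?_, fun N hN => deep_of_powers r (fun i => s i.succ) _ (fun i => hs _) ?_⟩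
    · have h1 := h (fun _ => 1) (fun _ => le_rfl) 0 y
      simp only [pow_one] at h1
      rw [show (Set.Iio (0 : Fin (r + 1))) = ∅ by ext j; simp] at h1
      simp only [Set.image_empty, Ideal.span_empty, sup_bot_eq] at h1
      exact h1 hy
    · intro v hv i y hy
      have himg : I ⊔ Ideal.span ((fun j => s j ^ (Fin.cons N v : Fin (r + 1) → ℕ) j) '' Set.Iio i.succ) =
          I ⊔ Ideal.span {s 0 ^ N} ⊔ Ideal.span ((fun j => s j.succ ^ v j) '' Set.Iio i) := by
        rw [sup_assoc, ← Ideal.span_union]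
        congr 2
        ext x
        constructor
        · rintro ⟨j, hj, rfl⟩
          rcases Fin.eq_zero_or_eq_succ j with rfl | ⟨j, rfl⟩
          · exact Or.inl (by simp)
          · exact Or.inr ⟨j, Fin.succ_lt_succ_iff.mp hj, by simp⟩
        · rintro (hx | ⟨j, hj, rfl⟩)
          · rw [Set.mem_singleton_iff.mp hx]
            exact ⟨0, Fin.succ_pos i, by simp⟩
          · exact ⟨j.succ, Fin.succ_lt_succ_iff.mpr hj, by simp⟩
      have h1 := h (Fin.cons N v) (Fin.cases hN hv) i.succ y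
      rw [himg] at h1
      simpa using h1 (by simpa using hy)

end Groth.Agent.CILift
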