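import Groth.Agent.CILift.Tower

/-!
# Lifting sections along a tower of local equations

The obstructions to lifting sections form an increasing chain in a finitely generated first cohomology module, so
after finitely many steps every section extends to a compatible sequence.
-/

set_option linter.style.haveILetI false

universe u

namespace Groth.Agent.CILift

variable {B A Kb K : Type u} [CommRing B] [CommRing A] [CommRing Kb] [CommRing K] [Algebra B Kb] [Algebra A K]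
  {q : B →+* A} {t : B} {π : Kb →+* K} {ι : Type u} [Fintype ι] {fB : ι → B}

/-- A section modulo `t ^ (n + 1)`. -/
def IsSect (t : B) (fB : ι → B) (v : ℕ → ι → Kb) (n : ℕ) (σ : Kb) : Prop :=
  ∀ i, ∃ r ∈ Sub Kb ⊤ (fB i), Cg t (n + 1) (v n i * σ) r

/-- An obstruction cocycle of a section. -/
def IsObs (t : B) (π : Kb →+* K) (fB : ι → B) (μ : ι → K) (v : ℕ → ι → Kb) (n : ℕ) (σ : Kb) (Φ : ι → K) : Prop :=
  ∀ i, ∃ r ∈ Sub Kb ⊤ (fB i), ∃ γ : Kb, v (n + 1) i * σ = r + algebraMap B Kb t ^ (n + 1) * γ ∧ μ i * Φ i = π γ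

local notation "τ" => algebraMap B Kb t

variable {μ ε : ι → K} {v : ℕ → ι → Kb}

theorem isSect_smul (b : B) {n : ℕ} {σ : Kb} (h : IsSect t fB v n σ) : IsSect t fB v n (b • σ) := fun i => by
  obtain ⟨r, hr, w, hw⟩ := h i
  exact ⟨b • r, Submodule.smul_mem _ b hr, algebraMap B Kb b * w, by
    rw [Algebra.smul_def, Algebra.smul_def]; linear_combination (algebraMap B Kb b) * hw⟩

theorem isSect_add {n : ℕ} {σ σ' : Kb} (h : IsSect t fB v n σ) (h' : IsSect t fB v n σ') :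
    IsSect t fB v n (σ + σ') := fun i => by
  obtain ⟨r, hr, w, hw⟩ := h i
  obtain ⟨r', hr', w', hw'⟩ := h' i
  exact ⟨r + r', add_mem hr hr', w + w', by linear_combination hw + hw'⟩

theorem isObs_zero (n : ℕ) : IsObs t π fB μ v n 0 0 := fun i =>
  ⟨0, zero_mem _, 0, by simp, by simp⟩

theorem isObs_add {n : ℕ} {σ σ' : Kb} {Φ Φ' : ι → K} (h : IsObs t π fB μ v n σ Φ)
    (h' : IsObs t π fB μ v n σ' Φ') : IsObs t π fB μ v n (σ + σ') (Φ + Φ') := fun i => by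
  obtain ⟨r, hr, γ, hγ, hΦ⟩ := h i
  obtain ⟨r', hr', γ', hγ', hΦ'⟩ := h' i
  exact ⟨r + r', add_mem hr hr', γ + γ', by linear_combination hγ + hγ', by
    rw [map_add, Pi.add_apply]; linear_combination hΦ + hΦ'⟩

variable (hS : Setup q t π fB)
include hS

theorem isObs_smul (b : B) {n : ℕ} {σ : Kb} {Φ : ι → K} (h : IsObs t π fB μ v n σ Φ) :
    IsObs t π fB μ v n (b • σ) (q b • Φ) := fun i => by
  obtain ⟨r, hr, γ, hγ, hΦ⟩ := h i
  refine ⟨b • r, Submodule.smul_mem _ b hr, algebraMap B Kb b * γ, ?_, ?_⟩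
  · rw [Algebra.smul_def, Algebra.smul_def]; linear_combination (algebraMap B Kb b) * hγ
  · rw [map_mul, hS.comm, Pi.smul_apply, Algebra.smul_def]; linear_combination (algebraMap A K (q b)) * hΦ

variable (hv : ∀ n, Datum t π fB μ n (v n)) (hc : ∀ n m, n ≤ m → ∀ i, Cg t (n + 1) (v m i) (v n i))
include hv hc

omit hS hv in
theorem isSect_down {n m : ℕ} (h : n ≤ m) {σ : Kb} (hσ : IsSect t fB v m σ) : IsSect t fB v n σ := fun i => by
  obtain ⟨r, hr, hw⟩ := hσ i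
  exact ⟨r, hr, ((hc n m h i).symm.mul_right σ).trans (hw.mono (by omega))⟩

omit hv in
theorem isObs_shift {n : ℕ} {σ : Kb} {Φ : ι → K} (h : IsObs t π fB μ v n σ Φ) :
    IsObs t π fB μ v (n + 1) (t • σ) Φ := fun i => by
  obtain ⟨r, hr, γ, hγ, hΦ⟩ := h i
  obtain ⟨w, hw⟩ := hc (n + 1) (n + 1 + 1) (by omega) i
  refine ⟨t • r, Submodule.smul_mem _ t hr, γ + τ * (w * σ), ?_, ?_⟩
  · rw [Algebra.smul_def, Algebra.smul_def]
    linear_combination τ * hγ + τ * σ * hw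
  · rw [map_add, map_mul π τ, hS.pi_t, zero_mul, add_zero, hΦ]

omit hv in
theorem isObs_shift_pow {n : ℕ} {σ : Kb} {Φ : ι → K} (h : IsObs t π fB μ v n σ Φ) :
    ∀ j, IsObs t π fB μ v (n + j) (t ^ j • σ) Φ := by
  intro j
  induction j with
  | zero => simpa using h
  | succ j ih =>
    have := isObs_shift hS hc ih
    rwa [← mul_smul, ← pow_succ'] at this

variable [hinj : Fact (Function.Injective (algebraMap A K))] (hD : DivData K (fun i => q (fB i)) μ ε)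
include hD

omit hinj in
/-- Obstructions exist and are cocycles. -/
theorem exists_obs {n : ℕ} {σ : Kb} (h : IsSect t fB v n σ) :
    ∃ Φ : ι → K, IsObs t π fB μ v n σ Φ ∧ Φ ∈ Z1 K (fun i => q (fB i)) μ := by
  choose w hw using fun i => hD.unit_μ i
  have h' : ∀ i, ∃ r ∈ Sub Kb ⊤ (fB i), ∃ γ, v (n + 1) i * σ = r + τ ^ (n + 1) * γ := fun i => by
    obtain ⟨r, hr, hr'⟩ := h i
    obtain ⟨γ, hγ⟩ := ((hc n (n + 1) (Nat.le_succ n) i).mul_right σ).trans hr'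
    exact ⟨r, hr, γ, hγ⟩
  choose r hr γ hγ using h'
  refine ⟨fun i => ((w i)⁻¹ : Kˣ) * π (γ i), fun i => ⟨r i, hr i, γ i, hγ i, ?_⟩, fun i j => ?_⟩
  · rw [← hw i, ← mul_assoc, Units.mul_inv, one_mul]
  · obtain ⟨ρ, hρ, y, hy⟩ := (hv (n + 1)).2 i j
    have hrel : r i - ρ * r j = τ ^ (n + 1) * (ρ * γ j + τ * (y * σ) - γ i) := by
      linear_combination σ * hy - hγ i + ρ * hγ j
    have hd : ρ * γ j + τ * (y * σ) - γ i ∈ Sub Kb ⊤ (fB i * fB j) := hS.div_t (n + 1) (hrel ▸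
      sub_mem (sub_le (dvd_mul_right _ _) (hr i)) (mul_mem_sub hρ (sub_le (dvd_mul_left _ _) (hr j))))
    have hd' := hS.map_mem hd
    rw [map_mul q] at hd'
    have hρ' : μ i = π ρ * μ j := by
      have := congrArg π hy
      rw [map_add, map_mul, map_mul, map_pow, hS.pi_t, zero_pow (Nat.succ_ne_zero _), zero_mul, add_zero,
        (hv (n + 1)).1, (hv (n + 1)).1] at this
      exact this
    have hi : μ i * ((w i)⁻¹ : Kˣ) = 1 := by rw [← hw i, Units.mul_inv]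
    have hj : μ j * ((w j)⁻¹ : Kˣ) = 1 := by rw [← hw j, Units.mul_inv]
    convert neg_mem hd' using 1
    simp only [map_sub, map_add, map_mul, hS.pi_t, zero_mul, add_zero]
    linear_combination π (γ i) * hi - (((w j)⁻¹ : Kˣ) * π (γ j)) * hρ' - π ρ * π (γ j) * hj

omit hinj in
/-- A trivial obstruction allows a lift. -/
theorem exists_lift_sect {n : ℕ} {σ : Kb} {Φ : ι → K} (h : IsObs t π fB μ v n σ Φ)
    (hΦ : Φ ∈ B1 K (fun i => q (fB i)) μ) : ∃ σ', IsSect t fB v (n + 1) σ' ∧ Cg t (n + 1) σ' σ := by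
  obtain ⟨κ, hκ⟩ := hΦ
  obtain ⟨k, hk⟩ := hS.surj κ
  refine ⟨σ - τ ^ (n + 1) * k, fun i => ?_, -k, by ring⟩
  obtain ⟨r, hr, γ, hγ, hγ'⟩ := h i
  obtain ⟨ρ, hρ, hρ'⟩ := hS.lift_sub (hS.unit_f i) (hκ i)
  obtain ⟨e, he⟩ := hS.ker (γ - v (n + 1) i * k - ρ) (by
    rw [map_sub, map_sub, map_mul, hρ', (hv (n + 1)).1, hk, ← hγ']; ring)
  refine ⟨r + τ ^ (n + 1) * ρ, add_mem hr (mul_mem_sub (by rw [← map_pow]; exact algebraMap_mem_sub trivial) hρ), e, ?_⟩
  linear_combination hγ + τ ^ (n + 1) * he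

/-- Classes of obstructions at one level. -/
def obsClasses (n : ℕ) : Submodule A (H1 K (fun i => q (fB i)) μ) where
  carrier := {x | ∃ σ : Kb, ∃ Φ : ↥(Z1 K (fun i => q (fB i)) μ), IsObs t π fB μ v n σ Φ ∧
    Submodule.Quotient.mk Φ = x}
  add_mem' := by
    rintro _ _ ⟨σ, Φ, h, rfl⟩ ⟨σ', Φ', h', rfl⟩
    exact ⟨σ + σ', Φ + Φ', isObs_add h h', rfl⟩
  zero_mem' := ⟨0, 0, isObs_zero n, rfl⟩
  smul_mem' := by
    rintro a _ ⟨σ, Φ, h, rfl⟩
    obtain ⟨b, rfl⟩ := hS.surj_q a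
    exact ⟨b • σ, q b • Φ, isObs_smul hS b h, rfl⟩

omit hinj in
theorem obsClasses_mono : Monotone (obsClasses (μ := μ) (v := v) hS) := monotone_nat_of_le_succ fun n => by
  rintro _ ⟨σ, Φ, h, rfl⟩
  exact ⟨t • σ, Φ, isObs_shift hS hc h, rfl⟩

/-- After a bounded correction every section lifts forever. -/
theorem exists_stable [IsNoetherianRing A] (hd : Deep (fun i => q (fB i)) 3 (⊥ : Ideal A)) :
    ∃ n₀ : ℕ, ∀ n σ, n₀ ≤ n → IsSect t fB v n σ →
      ∃ σ', IsSect t fB v (n + 1) σ' ∧ Cg t (n - n₀) σ' σ := by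
  haveI := finite_H1 hD hd
  obtain ⟨n₀, hn₀⟩ := monotone_stabilizes_iff_noetherian.mpr (inferInstance : IsNoetherian A _)
    ⟨obsClasses (μ := μ) (v := v) hS, obsClasses_mono hS hv hc hD⟩
  refine ⟨n₀, fun n σ hn hσ => ?_⟩
  obtain ⟨Φ, hΦ, hZ⟩ := exists_obs hS hv hc hD hσ
  have hmem : Submodule.Quotient.mk (⟨Φ, hZ⟩ : ↥(Z1 K (fun i => q (fB i)) μ)) ∈ obsClasses (μ := μ) (v := v) hS n :=
    ⟨σ, ⟨Φ, hZ⟩, hΦ, rfl⟩
  have e : obsClasses (μ := μ) (v := v) hS n₀ = obsClasses (μ := μ) (v := v) hS n := hn₀ n hn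
  rw [← e] at hmem
  obtain ⟨σ'', Φ'', h'', heq⟩ := hmem
  have hsh := isObs_shift_pow hS hc h'' (n - n₀)
  rw [Nat.add_sub_cancel' hn] at hsh
  have hdiff := isObs_add hΦ (isObs_smul hS (-1 : B) hsh)
  rw [map_neg, map_one] at hdiff
  obtain ⟨σ', hσ', hcg⟩ := exists_lift_sect hS hv hc hD hdiff (by
    rw [Submodule.Quotient.eq] at heq
    have h2 : -((Φ'' : ι → K) - Φ) ∈ B1 K (fun i => q (fB i)) μ := neg_mem heq
    rw [neg_one_smul, ← sub_eq_add_neg]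
    rwa [neg_sub] at h2)
  refine ⟨σ', hσ', (hcg.mono (by omega)).trans ⟨-σ'', ?_⟩⟩
  simp only [Algebra.smul_def, map_neg, map_one, map_pow]
  ring

/-- Multiplying by an element of the cover allows a lift. -/
theorem exists_raise (hd : Deep (fun i => q (fB i)) 3 (⊥ : Ideal A)) {n : ℕ} {σ : Kb} (h : IsSect t fB v n σ)
    (o : ι) : ∃ σ', IsSect t fB v (n + 1) σ' ∧ Cg t (n + 1) σ' (fB o • σ) := by
  obtain ⟨Φ, hΦ, hZ⟩ := exists_obs hS hv hc hD h
  refine exists_lift_sect hS hv hc hD (isObs_smul hS (fB o) hΦ) ?_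
  have h0 := smul_H1_eq_zero hD hd o (Submodule.Quotient.mk ⟨Φ, hZ⟩)
  rw [← Submodule.Quotient.mk_smul, Submodule.Quotient.mk_eq_zero] at h0
  exact h0

/-- Multiplying by powers of an element of the cover reaches every level. -/
theorem exists_raise_pow (hd : Deep (fun i => q (fB i)) 3 (⊥ : Ideal A)) {σ : Kb} (h : IsSect t fB v 0 σ)
    (o : ι) : ∀ n, ∃ σ', IsSect t fB v n σ' ∧ Cg t 1 σ' (fB o ^ n • σ) := by
  intro n
  induction n with
  | zero => exact ⟨σ, h, by simpa using Cg.refl 1 σ⟩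
  | succ n ih =>
    obtain ⟨σ₁, h₁, w, hw⟩ := ih
    obtain ⟨σ₂, h₂, hc₂⟩ := exists_raise hS hv hc hD hd h₁ o
    refine ⟨σ₂, h₂, (hc₂.mono (by omega)).trans ⟨algebraMap B Kb (fB o) * w, ?_⟩⟩
    simp only [Algebra.smul_def, pow_succ', map_mul, map_pow] at hw ⊢
    linear_combination (algebraMap B Kb (fB o)) * hw

/-- Sequences of compatible sections. -/
def IsSeq (t : B) (fB : ι → B) (v : ℕ → ι → Kb) (s : ℕ → Kb) : Prop :=
  ∀ k, IsSect t fB v k (s k) ∧ Cg t (k + 1) (s (k + 1)) (s k)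

/-- A section lifted beyond the stable level is the start of a compatible sequence. -/
theorem exists_seq [IsNoetherianRing A] (hd : Deep (fun i => q (fB i)) 3 (⊥ : Ideal A)) :
    ∃ n₁ : ℕ, ∀ σ, IsSect t fB v n₁ σ → ∃ s, IsSeq t fB v s ∧ π (s 0) = π σ := by
  obtain ⟨n₀, hn₀⟩ := exists_stable hS hv hc hD hd
  refine ⟨n₀ + 1, fun σ hσ => ?_⟩
  let s : ∀ m : ℕ, { σ' : Kb // IsSect t fB v (n₀ + 1 + m) σ' } := Nat.rec ⟨σ, hσ⟩ fun m p =>
    ⟨(hn₀ _ p.1 (by omega) p.2).choose, (hn₀ _ p.1 (by omega) p.2).choose_spec.1⟩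
  have hstep : ∀ m, Cg t (1 + m) (s (m + 1)).1 (s m).1 := fun m =>
    Cg.mono (by omega) (hn₀ _ (s m).1 (by omega) (s m).2).choose_spec.2
  refine ⟨fun k => (s k).1, fun k => ⟨isSect_down hc (by omega) (s k).2, Cg.mono (by omega) (hstep k)⟩, rfl⟩

end Groth.Agent.CILift
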