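import Groth.Agent.CILift.LimModule
import Groth.Agent.CILift.Cover
import Groth.Agent.CILift.Loc
import Mathlib.Algebra.Category.ModuleCat.ChangeOfRings

/-!
# Lifting a rank one module from a hypersurface

In depth four a module of rank one on the punctured spectrum of a hypersurface is, up to isomorphism there, the
reduction of a finite module of rank one away from finitely many curves.
-/

set_option linter.style.haveILetI false

universe u

open IsLocalRing CategoryTheory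

namespace Groth.Agent.CILift

open Groth.Agent Groth.Agent.RamSam

/-- An element generating a module freely at a prime. -/
def IsGen {R : Type u} [CommRing R] {M : Type u} [AddCommGroup M] [Module R M] (P : Ideal R) (e : M) : Prop :=
  (∀ x : M, ∃ r ∉ P, ∃ b : R, r • x = b • e) ∧ ∀ b : R, b • e = 0 → ∃ r ∉ P, r * b = 0

theorem IsGen.rankOne {R : Type u} [CommRing R] {M : Type u} [AddCommGroup M] [Module R M] {P : Ideal R} {e : M}
    (h : IsGen P e) : RankOne M P := ⟨e, h⟩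

set_option maxHeartbeats 1600000 in
/-- The lifted module with its comparison maps. -/
theorem exists_lifted_module (A : Type u) [CommRing A] [IsLocalRing A] [IsNoetherianRing A] (t : A)
    (ht : t ∈ maximalIdeal A) (hreg : IsSMulRegular A t) [IsAdicComplete (Ideal.span {t}) A]
    [IsLocalRing (A ⧸ Ideal.span {t})]
    (hd : (4 : ℕ∞) ≤ LocCoh.depth (A ⧸ Ideal.span {t}) (A ⧸ Ideal.span {t}))
    (M₀ : Type u) [AddCommGroup M₀] [Module (A ⧸ Ideal.span {t}) M₀] [Module.Finite (A ⧸ Ideal.span {t}) M₀]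
    (hM : ∀ P : Ideal (A ⧸ Ideal.span {t}), P.IsPrime → P ≠ maximalIdeal (A ⧸ Ideal.span {t}) → RankOne M₀ P) :
    ∃ (N : ModuleCat.{u} A) (M₁ : ModuleCat.{u} (A ⧸ Ideal.span {t}))
      (θ : N ⟶ (ModuleCat.restrictScalars.{u} (Ideal.Quotient.mk (Ideal.span {t}))).obj M₁)
      (β : M₀ →ₗ[A ⧸ Ideal.span {t}] M₁) (Z : Set A),
      Module.Finite A N ∧
      (∀ P : Ideal A, P.IsPrime → P ≠ maximalIdeal A → Z ⊆ P → t ∉ P ∧ ringKrullDim (A ⧸ P) = 1) ∧
      (∀ P : Ideal A, P.IsPrime → ¬ Z ⊆ P → RankOne N P) ∧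
      ∀ P : Ideal (A ⧸ Ideal.span {t}), P.IsPrime → P ≠ maximalIdeal (A ⧸ Ideal.span {t}) →
        ∃ (n : N) (m : M₀), IsGen (P.comap (Ideal.Quotient.mk (Ideal.span {t}))) n ∧
          IsGen P (θ n : M₁) ∧ IsGen P m ∧ IsGen P (β m) := by
  classical
  let A₀ := A ⧸ Ideal.span {t}
  let q : A →+* A₀ := Ideal.Quotient.mk (Ideal.span {t})
  have hq : Function.Surjective q := Ideal.Quotient.mk_surjective
  haveI : IsLocalHom q := IsLocalHom.of_surjective q hq
  have hker : RingHom.ker q = Ideal.span {t} := Ideal.mk_ker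
  have hreg' : ∀ b, t * b = 0 → b = 0 := fun b hb => hreg.right_eq_zero_of_smul hb
  have hd4' : ((4 : ℕ) : ℕ∞) ≤ LocCoh.depth A₀ A₀ := hd
  obtain ⟨σ, hσ, hσ'⟩ := exists_regular_fn hd4'
  rw [List.ofFn_succ, RingTheory.Sequence.isWeaklyRegular_cons_iff] at hσ'
  obtain ⟨ι, _, f, e, lam, hne, hfreg, hrad, he, hlam⟩ := exists_cover M₀ hM (hσ 0) hσ'.1
  choose fB hfB using fun i => hq (f i)
  obtain rfl : (fun i => q (fB i)) = f := funext hfB
  obtain ⟨o⟩ := hne
  have hd4 : Deep (fun i => q (fB i)) 4 (⊥ : Ideal A₀) := deep_of_depth hrad hd4'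
  have hd3 := deep_of_succ 3 hd4
  have hd2 := deep_of_succ 2 hd3
  obtain ⟨hinj, π, hS⟩ := exists_setup q hq t hker hreg' fB hfreg
  haveI := Fact.mk hinj
  let K := Localization.Away (∏ i, q (fB i))
  have hunit : ∀ i, IsUnit (algebraMap A₀ K (q (fB i))) := isUnit_away (fun i => q (fB i))
  obtain ⟨u, hu⟩ := hunit o
  let μ : ι → K := fun i => algebraMap A₀ K (lam i (e o))
  let ιM : M₀ →ₗ[A₀] K := LinearMap.mulLeft A₀ ((u⁻¹ : Kˣ) : K) ∘ₗ (Algebra.linearMap A₀ K) ∘ₗ lam o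
  let ε : ι → K := fun i => ιM (e i)
  have hkey : ∀ l y, μ l * ιM y = algebraMap A₀ K (lam l y) := fun l y => by
    have h1 : q (fB o) * lam l y = lam o y * lam l (e o) := by
      rw [← smul_eq_mul, ← map_smul, hlam o y, map_smul, smul_eq_mul]
    show algebraMap A₀ K (lam l (e o)) * (((u⁻¹ : Kˣ) : K) * algebraMap A₀ K (lam o y)) = _
    rw [mul_left_comm, ← map_mul, mul_comm (lam l (e o)), ← h1, map_mul, ← hu, ← mul_assoc, Units.inv_mul, one_mul]
  have hframe : ∀ i, μ i * ε i = algebraMap A₀ K (q (fB i)) := fun i => (hkey i (e i)).trans (by rw [he])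
  have hD : DivData K (fun i => q (fB i)) μ ε :=
    { unit_f := hunit
      unit_μ := fun i => isUnit_of_mul_isUnit_left (hframe i ▸ hunit i)
      frame := hframe
      glob := fun i l => ⟨lam l (e i), hkey l (e i)⟩
      loc := fun x => mem_sub_away x }
  obtain ⟨v, hv, hc⟩ := exists_tower hS hD hd4
  haveI : Nonempty ι := ⟨o⟩
  have hser : ∀ b : ℕ → A, ∃ β : A, ∀ N, ∃ c, β = (∑ n ∈ Finset.range N, t ^ n * b n) + t ^ N * c := fun b => by
    obtain ⟨β, hβ⟩ := IsPrecomplete.prec (I := Ideal.span {t}) (inferInstance : IsPrecomplete _ A)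
      (f := fun N => ∑ n ∈ Finset.range N, t ^ n * b n) (fun {m n} h => by
        rw [SModEq.sub_mem, smul_eq_mul, Ideal.mul_top, Ideal.span_singleton_pow, ← neg_sub,
          ← Finset.sum_Ico_eq_sub _ h]
        refine neg_mem (sum_mem fun k hk => Ideal.mem_span_singleton.mpr ?_)
        exact (pow_dvd_pow t (Finset.mem_Ico.mp hk).1).trans (dvd_mul_right _ _))
    refine ⟨β, fun N => ?_⟩
    have h1 := hβ N
    rw [SModEq.sub_mem, smul_eq_mul, Ideal.mul_top, Ideal.span_singleton_pow] at h1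
    obtain ⟨c, hc'⟩ := Ideal.mem_span_singleton.mp h1
    exact ⟨-c, by linear_combination (-1 : A) * hc'⟩
  obtain ⟨hfin, θ, hθ, hθmem, n₁, eT, heT, hann, y, hyq, hyT⟩ := exists_lim_module hS hv hc hD hd3 hd2 ht hser
  haveI := hfin
  let M₁ : ModuleCat.{u} A₀ := ModuleCat.of A₀ ↥(T0 A₀ μ)
  let β : M₀ →ₗ[A₀] M₁ := ιM.codRestrict (T0 A₀ μ) fun x l => ⟨lam l x, hkey l x⟩
  let θ' : ModuleCat.of A (LimMod t fB v) ⟶ (ModuleCat.restrictScalars.{u} q).obj M₁ :=
    ModuleCat.ofHom (Y := (ModuleCat.restrictScalars.{u} q).obj M₁)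
      { toFun := fun x => (⟨θ x, hθmem x⟩ : ↥(T0 A₀ μ))
        map_add' := fun x x' => Subtype.ext (map_add θ x x')
        map_smul' := fun b x => Subtype.ext (by
          show θ (b • x) = ((q b • (⟨θ x, hθmem x⟩ : ↥(T0 A₀ μ)) : ↥(T0 A₀ μ)) : K)
          rw [hθ, Submodule.coe_smul, Algebra.smul_def]) }
  refine ⟨ModuleCat.of A (LimMod t fB v), M₁, θ', β, Set.range y, hfin, fun P hP hPm hPY => ?_, fun P hP hPY => ?_,
    fun P hP hPm => ?_⟩
  · have hmax : ∀ Q : Ideal A, Q.IsPrime → P ≤ Q → t ∈ Q → Q = maximalIdeal A := fun Q hQ hPQ htQ => by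
      have hkQ : RingHom.ker q ≤ Q := fun b hb => by
        obtain ⟨c, rfl⟩ := hS.ker_q b hb
        exact Q.mul_mem_right _ htQ
      haveI : (Q.map q).IsPrime := Ideal.map_isPrime_of_surjective hS.surj_q hkQ
      have hQeq : (Q.map q).comap q = Q := by
        rw [Ideal.comap_map_of_surjective q hS.surj_q, ← RingHom.ker_eq_comap_bot, sup_eq_left.mpr hkQ]
      by_contra hQm
      have hne' : Q.map q ≠ maximalIdeal A₀ := fun h => hQm (by rw [← hQeq, h]; exact maximalIdeal_comap q)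
      refine hne' (le_antisymm (le_maximalIdeal (Ideal.IsPrime.ne_top inferInstance)) (hrad.trans ?_))
      rw [Ideal.IsPrime.radical_le_iff inferInstance, Ideal.span_le]
      rintro _ ⟨i, rfl⟩
      obtain ⟨d, hd'⟩ := hyq i
      exact Ideal.IsPrime.mem_of_pow_mem inferInstance d (hd' ▸ Ideal.mem_map_of_mem q (hPQ (hPY ⟨i, rfl⟩)))
    have htP : t ∉ P := fun h => hPm (hmax P hP le_rfl h)
    refine ⟨htP, ?_⟩
    haveI := hP
    haveI : IsLocalRing (A ⧸ P) := IsLocalRing.of_surjective' (Ideal.Quotient.mk _) Ideal.Quotient.mk_surjective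
    haveI : IsLocalHom (Ideal.Quotient.mk P) := IsLocalHom.of_surjective _ Ideal.Quotient.mk_surjective
    have hmin : maximalIdeal (A ⧸ P) ∈ (Ideal.span {Ideal.Quotient.mk P t}).minimalPrimes := by
      refine ⟨⟨inferInstance, (Ideal.span_singleton_le_iff_mem _).mpr (map_nonunit _ t ht)⟩, ?_⟩
      rintro Q ⟨hQ, hQt⟩ -
      haveI := hQ
      have h := hmax (Q.comap (Ideal.Quotient.mk P)) inferInstance
        (fun x hx => by rw [Ideal.mem_comap, Ideal.Quotient.eq_zero_iff_mem.mpr hx]; exact zero_mem _)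
        (hQt (Ideal.mem_span_singleton_self _))
      rw [← Ideal.map_comap_of_surjective (Ideal.Quotient.mk P) Ideal.Quotient.mk_surjective Q, h,
        ← maximalIdeal_comap (f := Ideal.Quotient.mk P),
        Ideal.map_comap_of_surjective _ Ideal.Quotient.mk_surjective]
    have hle : (maximalIdeal (A ⧸ P)).height ≤ 1 :=
      Ideal.height_le_one_of_isPrincipal_of_mem_minimalPrimes _ _ hmin
    have hge : (maximalIdeal (A ⧸ P)).height ≠ 0 := fun h0 => by
      rw [Ideal.height_eq_zero_iff_eq_bot] at h0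
      exact htP (Ideal.Quotient.eq_zero_iff_mem.mp (Ideal.mem_bot.mp (h0 ▸ map_nonunit _ t ht)))
    rw [← maximalIdeal_height_eq_ringKrullDim, le_antisymm hle (Order.one_le_iff_ne_zero.mpr hge)]
    rfl
  · obtain ⟨_, ⟨i, rfl⟩, hi⟩ := Set.not_subset.mp hPY
    refine ⟨eT i, fun x => ?_, fun b hb => ⟨y i, hi, by rw [hann i b hb, mul_zero]⟩⟩
    obtain ⟨b, hb⟩ := hyT i x
    exact ⟨y i, hi, b, hb⟩
  haveI := hP
  obtain ⟨i, hi⟩ : ∃ i, q (fB i) ∉ P := by
    by_contra hall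
    push Not at hall
    refine hPm (le_antisymm (le_maximalIdeal hP.ne_top) (hrad.trans ?_))
    rw [hP.radical_le_iff, Ideal.span_le]
    rintro _ ⟨i, rfl⟩
    exact hall i
  have hyi : y i ∉ P.comap q := fun h => by
    obtain ⟨d, hd'⟩ := hyq i
    rw [Ideal.mem_comap, hd'] at h
    exact hi (hP.mem_of_pow_mem d h)
  have hεu : IsUnit (ε i) := isUnit_of_mul_isUnit_right (hframe i ▸ hunit i)
  have hT : ∀ (n : ℕ) (x : ↥(T0 A₀ μ)) (hmem : algebraMap A₀ K (q (fB i) ^ n) * ε i ∈ T0 A₀ μ),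
      ∃ b : A₀, (q (fB i) * q (fB i) ^ n) • x = b • (⟨_, hmem⟩ : ↥(T0 A₀ μ)) := fun n x hmem => by
    obtain ⟨z, hz⟩ := x.2 i
    refine ⟨z, Subtype.ext ?_⟩
    simp only [Submodule.coe_smul, Algebra.smul_def, map_mul]
    linear_combination (algebraMap A₀ K (q (fB i) ^ n) * ε i) * hz -
      (algebraMap A₀ K (q (fB i) ^ n) * (x : K)) * hframe i
  have hgen : ∀ (n : ℕ) (hmem : algebraMap A₀ K (q (fB i) ^ n) * ε i ∈ T0 A₀ μ),
      IsGen P (⟨_, hmem⟩ : ↥(T0 A₀ μ)) := fun n hmem => by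
    refine ⟨fun x => ?_, fun b hb => ⟨1, fun h => hP.ne_top ((Ideal.eq_top_iff_one _).mpr h), ?_⟩⟩
    · obtain ⟨b, hb⟩ := hT n x hmem
      exact ⟨_, fun h => (hP.mem_or_mem h).elim hi fun h' => hi (hP.mem_of_pow_mem n h'), b, hb⟩
    · have h := congrArg Subtype.val hb
      simp only [Submodule.coe_smul, Algebra.smul_def, ZeroMemClass.coe_zero] at h
      rw [one_mul]
      refine hinj ?_
      rw [map_zero]
      have h' : (algebraMap A₀ K b) * (algebraMap A₀ K (q (fB i) ^ n) * ε i) = 0 := h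
      rw [map_pow] at h'
      exact (((hunit i).pow n).mul hεu).mul_left_eq_zero.mp h'
  refine ⟨eT i, e i, ⟨fun x => ?_, fun b hb => ⟨y i, hyi, by rw [hann i b hb, mul_zero]⟩⟩, ?_,
    ⟨fun x => ⟨_, hi, lam i x, hlam i x⟩, fun b hb => ⟨q (fB i), hi, ?_⟩⟩, ?_⟩
  · obtain ⟨b, hb⟩ := hyT i x
    exact ⟨y i, hyi, b, hb⟩
  · have hmem : algebraMap A₀ K (q (fB i) ^ n₁) * ε i ∈ T0 A₀ μ := heT i ▸ hθmem (eT i)
    have he' : (θ' (eT i) : M₁) = (⟨_, hmem⟩ : ↥(T0 A₀ μ)) := Subtype.ext (heT i)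
    rw [he']
    exact hgen n₁ hmem
  · have h := congrArg (lam i) hb
    rw [map_smul, map_zero, he, smul_eq_mul] at h
    rw [mul_comm]
    exact h
  · have hmem : algebraMap A₀ K (q (fB i) ^ 0) * ε i ∈ T0 A₀ μ := by
      rw [pow_zero, map_one, one_mul]
      exact fun l => ⟨lam l (e i), hkey l (e i)⟩
    have he' : β (e i) = (⟨_, hmem⟩ : ↥(T0 A₀ μ)) := Subtype.ext (by
      show ιM (e i) = algebraMap A₀ K (q (fB i) ^ 0) * ε i
      rw [pow_zero, map_one, one_mul])
    rw [he']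
    exact hgen 0 hmem

end Groth.Agent.CILift
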