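import Groth.Agent.CILift.SurjAlg
import Groth.Agent.CILift.InjMain

/-!
# Invertible modules on the hypersurface of the punctured spectrum come from above
-/

set_option autoImplicit false
set_option linter.style.haveILetI false
set_option linter.unusedSectionVars false
set_option backward.isDefEq.respectTransparency false
set_option backward.isDefEq.respectTransparency.types false

universe u

open CategoryTheory CategoryTheory.Limits AlgebraicGeometry TopologicalSpace Opposite

namespace Groth.Agent.CILift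

open Groth.Agent.RamSam Groth.Agent.ParaFX Groth.Agent.ParaFX.StalkIso Groth.Agent.ParaFX.PairStalk

noncomputable section

/-- Sections of an associated module over the base. -/
def tildeSec {R : CommRingCat.{u}} (N : ModuleCat.{u} R) :
    N ≃ₗ[R] (moduleSpecΓFunctor (R := R)).obj (tilde (R := R) N) :=
  ((tilde.toTildeΓNatIso (R := R)).app N).toLinearEquiv

/-- A generator of a module generates the stalk of the associated sheaf. -/
theorem bij_of_isGen {R : CommRingCat.{u}} (N : ModuleCat.{u} R) (q : (Spec R : Scheme.{u})) {x : N}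
    (hx : IsGen (q : PrimeSpectrum R).asIdeal x) :
    Function.Bijective fun a : (Spec R : Scheme.{u}).presheaf.stalk q =>
      a • (tilde (R := R) N).presheaf.germ ⊤ q trivial (tildeSec N x : Γ(tilde (R := R) N, ⊤)) := by
  refine stalk_gen_of_rankOne R (tilde (R := R) N)
    (inferInstanceAs ((tilde (R := R) N).IsQuasicoherent)) q _ (fun z => ?_) fun b hb => ?_
  · obtain ⟨r, hr, b, hb⟩ := hx.1 ((tildeSec N).symm z)
    refine ⟨r, hr, b, ?_⟩
    have := congrArg (tildeSec N) hb
    rw [map_smul, map_smul, LinearEquiv.apply_symm_apply] at this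
    exact this
  · exact hx.2 b ((tildeSec N).injective (by rw [map_smul, map_zero]; exact hb))

/-- A linear map matching generators gives an isomorphism of sheaves. -/
theorem isIso_restrict_tilde_map {R : CommRingCat.{u}} {N N' : ModuleCat.{u} R} (φ : N ⟶ N') (V : (Spec R).Opens)
    (h : ∀ q : Spec R, q ∈ V →
      ∃ x, IsGen (q : PrimeSpectrum R).asIdeal x ∧ IsGen (q : PrimeSpectrum R).asIdeal (φ x)) :
    IsIso ((Scheme.Modules.restrictFunctor V.ι).map ((tilde.functor R).map φ)) := by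
  let X := Spec R
  let Φ : tilde (R := R) N ⟶ tilde (R := R) N' := (tilde.functor R).map φ
  have happ : ∀ x : N, Φ.app ⊤ (tildeSec N x : Γ(tilde (R := R) N, ⊤)) =
      (tildeSec N' (φ x) : Γ(tilde (R := R) N', ⊤)) := fun x =>
    (ConcreteCategory.congr_hom ((tilde.toTildeΓNatIso (R := R)).hom.naturality φ) x).symm
  have hbij : ∀ q : X, q ∈ V → Function.Bijective ((DerSch.stalkFunctor X q).map Φ) := by
    intro q hq
    obtain ⟨x, hx, hx'⟩ := h q hq
    let f := ((DerSch.stalkFunctor X q).map Φ).hom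
    let g := (tilde (R := R) N).presheaf.germ ⊤ q trivial (tildeSec N x : Γ(tilde (R := R) N, ⊤))
    have hfg : f g = (tilde (R := R) N').presheaf.germ ⊤ q trivial (tildeSec N' (φ x) : Γ(tilde (R := R) N', ⊤)) :=
      (ZClosLib.stalkMap_germ Φ (U := ⊤) (x := q) trivial _).trans (congrArg _ (happ x))
    refine (Function.Bijective.of_comp_iff _ (bij_of_isGen N q hx)).1 ?_
    have : (⇑f ∘ fun a : X.presheaf.stalk q => a • g) = fun a : X.presheaf.stalk q =>
        a • (tilde (R := R) N').presheaf.germ ⊤ q trivial (tildeSec N' (φ x) : Γ(tilde (R := R) N', ⊤)) := by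
      funext a
      show f (a • g) = _
      rw [f.map_smul a g, hfg]
    show Function.Bijective (⇑f ∘ fun a : X.presheaf.stalk q => a • g)
    rw [this]
    exact bij_of_isGen N' q hx'
  refine (NatIso.isIso_map_iff (Scheme.Modules.restrictFunctorIsoPullback V.ι) _).2 ?_
  exact isIso_of_bij _ fun w => (bij_pullback_iff V.ι Φ w).2 (hbij _ w.2)

/-- A module of rank one on an open gives an invertible module there. -/
theorem isInvertible_restrict_tilde {R : CommRingCat.{u}} [IsNoetherianRing R] (NA : ModuleCat.{u} R)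
    [Module.Finite R NA] (U : (Spec R).Opens)
    (hN : ∀ q : Spec R, q ∈ U → RankOne NA (q : PrimeSpectrum R).asIdeal) :
    PicF.IsInvertible ((tilde (R := R) NA).restrict U.ι) := by
  let X := Spec R
  haveI : IsNoetherian X := inferInstance
  let E : X.Modules := tilde (R := R) NA
  have hEq : Coh.IsQCoh E := inferInstanceAs ((tilde (R := R) NA).IsQuasicoherent)
  haveI : Module.FinitePresentation R NA := Module.finitePresentation_of_finite R NA
  have hEc : Coh.IsCoh E := QCoh.isCoh_iff_isFP.2 ((QCoh.isFP_tilde_iff (R := R) NA).2 ‹_›)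
  refine isInvertible_restrict_of_local E U fun q hq => ?_
  obtain ⟨x, hx⟩ := hN q hq
  have he := bij_of_isGen NA q (x := x) hx
  obtain ⟨φ, hφ⟩ := exists_hom_generating (isAffineOpen_top X) hEq q _ he
  let W₀ : X.Opens := ⟨_, isOpen_bij (StalkPair.isCoh_of_invertible (StalkPair.isInvertible_structureModule X))
    hEc φ⟩
  refine ⟨W₀ ⊓ U, ⟨hφ, hq⟩, inf_le_right, ?_⟩
  haveI : IsIso ((Scheme.Modules.restrictFunctor (W₀ ⊓ U).ι).map φ) := by
    refine (NatIso.isIso_map_iff (Scheme.Modules.restrictFunctorIsoPullback (W₀ ⊓ U).ι) φ).2 ?_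
    exact isIso_of_bij _ fun w => (bij_pullback_iff (W₀ ⊓ U).ι φ w).2 w.2.1
  exact isInvertible_of_iso (asIso ((Scheme.Modules.restrictFunctor (W₀ ⊓ U).ι).map φ))
    (isInvertible_restrict (W₀ ⊓ U).ι (StalkPair.isInvertible_structureModule X))

variable (A : Type u) [CommRing A] [IsLocalRing A] [IsNoetherianRing A] (t : A)
  [IsAdicComplete (Ideal.span {t}) A] [IsLocalRing (A ⧸ Ideal.span {t})]

omit [IsAdicComplete (Ideal.span {t}) A] [IsLocalRing (A ⧸ Ideal.span {t})] in
/-- Invertible modules extend over parafactorial points. -/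
theorem exists_invertible_extension (U T : (Spec (CommRingCat.of A)).Opens) (hTU : T ≤ U)
    (hpt : ∀ q : Spec (CommRingCat.of A), q ∈ U → q ∉ T →
      ParaF.IsParafactorialLocalRing (Localization.AtPrime (q : PrimeSpectrum A).asIdeal))
    (LT : (T : Scheme.{u}).Modules) (hLT : PicF.IsInvertible LT) :
    ∃ L : (U : Scheme.{u}).Modules, PicF.IsInvertible L ∧
      Nonempty (L.restrict ((Spec (CommRingCat.of A)).homOfLE hTU) ≅ LT) := by
  let R := CommRingCat.of A
  let X := Spec R
  haveI : IsNoetherianRing R := inferInstanceAs (IsNoetherianRing A)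
  haveI : IsNoetherian X := inferInstance
  haveI : IsLocallyNoetherian (U : Scheme.{u}) := isLocallyNoetherian_of_isOpenImmersion U.ι
  let j := X.homOfLE hTU
  let Y : Closeds (U : Scheme.{u}) :=
    ⟨((U.ι ⁻¹ᵁ T : (U : Scheme.{u}).Opens) : Set (U : Scheme.{u}))ᶜ, (U.ι ⁻¹ᵁ T).isOpen.isClosed_compl⟩
  have hYc : Y.compl = U.ι ⁻¹ᵁ T := by
    ext x
    simp [Y]
  have hpair : ParaF.IsParafactorialPair (U : Scheme.{u}) Y := (PairIff.isParafactorialPair_iff_stalks Y).2
    fun w hw => by
      let q : X := w.1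
      letI : Algebra A (X.presheaf.stalk q) :=
        inferInstanceAs (Algebra A ((Spec.structureSheaf A).presheaf.stalk q))
      haveI : IsLocalization.AtPrime (X.presheaf.stalk q) (q : PrimeSpectrum A).asIdeal :=
        inferInstanceAs (IsLocalization.AtPrime ((Spec.structureSheaf A).presheaf.stalk q) (q : PrimeSpectrum A).asIdeal)
      exact PairIff.of_ringEquiv ((U.stalkIso w).commRingCatIsoToRingEquiv.trans
        (IsLocalization.algEquiv (q : PrimeSpectrum A).asIdeal.primeCompl (X.presheaf.stalk q)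
          (Localization.AtPrime (q : PrimeSpectrum A).asIdeal)).toRingEquiv) (hpt q w.2 fun h => hw h)
  have hgood : Good j := good_of_openImmersion Y hpair (𝟙 _) j (by
    rw [hYc]
    exact (Scheme.opensRange_homOfLE _).trans rfl)
  exact ⟨_, hgood.push LT hLT, ⟨restrictPushforward j LT⟩⟩

omit [IsLocalRing A] [IsNoetherianRing A] [IsAdicComplete (Ideal.span {t}) A] [IsLocalRing (A ⧸ Ideal.span {t})] in
/-- Reductions of generators are generators. -/
theorem isGen_extendScalars (N : ModuleCat.{u} (CommRingCat.of A)) [Module.Finite A N]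
    (M₁ : ModuleCat.{u} (A ⧸ Ideal.span {t}))
    (θ : N ⟶ (ModuleCat.restrictScalars.{u} (Ideal.Quotient.mk (Ideal.span {t}))).obj M₁)
    (P : Ideal (A ⧸ Ideal.span {t})) [P.IsPrime] (n : N)
    (hn : IsGen (P.comap (Ideal.Quotient.mk (Ideal.span {t}))) n) (hθn : IsGen P (θ n : M₁)) :
    ∃ x : (ModuleCat.extendScalars.{u, u, u} (Ideal.Quotient.mk (Ideal.span {t}))).obj N,
      IsGen P x ∧ IsGen P (((ModuleCat.extendRestrictScalarsAdj.{u, u, u}
        (Ideal.Quotient.mk (Ideal.span {t}))).homEquiv N M₁).symm θ x) := by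
  classical
  let I := Ideal.span {t}
  let adj := ModuleCat.extendRestrictScalarsAdj.{u, u, u} (Ideal.Quotient.mk I)
  let NB := (ModuleCat.extendScalars.{u, u, u} (Ideal.Quotient.mk I)).obj N
  let α : NB ⟶ M₁ := (adj.homEquiv N M₁).symm θ
  let η : N → NB := fun k => adj.unit.app N k
  have η_add : ∀ k k', η (k + k') = η k + η k' := fun k k' => map_add (adj.unit.app N).hom k k'
  have η_zero : η 0 = 0 := map_zero (adj.unit.app N).hom
  have η_smul : ∀ (a : A) k, η (a • k) = Ideal.Quotient.mk I a • η k := fun a k =>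
    map_smul (adj.unit.app N).hom a k
  let ξ : NB := η n
  have hαξ : α ξ = (θ n : M₁) :=
    ConcreteCategory.congr_hom ((adj.homEquiv_unit (X := N) (Y := M₁) (f := α)).symm.trans
      ((adj.homEquiv N M₁).apply_symm_apply θ)) n
  refine ⟨ξ, ⟨fun z => ?_, fun b hb => ?_⟩, hαξ ▸ hθn⟩
  · obtain ⟨s, hs⟩ := (inferInstance : Module.Finite A N).fg_top
    have hK : ∀ k : N, ∃ r ∉ P, r • η k ∈ Submodule.span (A ⧸ I) {ξ} := fun k => by
      obtain ⟨r, hr, b, hb⟩ := hn.1 k
      refine ⟨Ideal.Quotient.mk I r, hr, Submodule.mem_span_singleton.mpr ⟨Ideal.Quotient.mk I b, ?_⟩⟩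
      have := congrArg η hb
      rw [η_smul, η_smul] at this
      exact this.symm
    choose r hr hr' using hK
    have hall : ∀ k, (∏ k ∈ s, r k) • η k ∈ Submodule.span (A ⧸ I) {ξ} := by
      intro k
      have hk : k ∈ Submodule.span A (s : Set N) := hs ▸ trivial
      induction hk using Submodule.span_induction with
      | mem k hk =>
        rw [← Finset.mul_prod_erase s r hk, mul_comm, mul_smul]
        exact Submodule.smul_mem _ _ (hr' k)
      | zero => rw [η_zero, smul_zero]; exact zero_mem _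
      | add k k' _ _ h₁ h₂ => rw [η_add, smul_add]; exact add_mem h₁ h₂
      | smul a k _ h₁ =>
        rw [η_smul, smul_comm]
        exact Submodule.smul_mem _ _ h₁
    refine ⟨∏ k ∈ s, r k, fun h' => ?_, ?_⟩
    · obtain ⟨k, -, hk⟩ := (Ideal.IsPrime.prod_mem_iff).mp h'
      exact hr k hk
    · let Q := ModuleCat.of (A ⧸ I) (NB ⧸ Submodule.span (A ⧸ I) {ξ})
      let μ : NB ⟶ Q := ModuleCat.ofHom ((∏ k ∈ s, r k) • (Submodule.span (A ⧸ I) {ξ}).mkQ)
      have hμ : μ = 0 := ModuleCat.ExtendScalars.hom_ext fun k => by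
        show (∏ k ∈ s, r k) • (Submodule.span (A ⧸ I) {ξ}).mkQ (η k) = 0
        rw [Submodule.mkQ_apply, ← Submodule.Quotient.mk_smul, Submodule.Quotient.mk_eq_zero]
        exact hall k
      have h1 : (∏ k ∈ s, r k) • (Submodule.span (A ⧸ I) {ξ}).mkQ z = 0 := ConcreteCategory.congr_hom hμ z
      rw [Submodule.mkQ_apply, ← Submodule.Quotient.mk_smul, Submodule.Quotient.mk_eq_zero, Submodule.mem_span_singleton] at h1
      obtain ⟨b, hb⟩ := h1
      exact ⟨b, hb.symm⟩
  · have := congrArg α.hom hb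
    rw [map_smul, map_zero, hαξ] at this
    exact hθn.2 b this

omit [IsLocalRing A] [IsNoetherianRing A] [IsAdicComplete (Ideal.span {t}) A] [IsLocalRing (A ⧸ Ideal.span {t})] in
/-- Pulling a module back to an open of the quotient through an intermediate open. -/
theorem nonempty_pullback_iso (U T : (Spec (CommRingCat.of A)).Opens) (hTU : T ≤ U)
    (hVT : Spec.map (CommRingCat.ofHom (Ideal.Quotient.mk (Ideal.span {t}))) ⁻¹ᵁ U ≤
      Spec.map (CommRingCat.ofHom (Ideal.Quotient.mk (Ideal.span {t}))) ⁻¹ᵁ T)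
    (N : ModuleCat.{u} (CommRingCat.of A)) (L : (U : Scheme.{u}).Modules)
    (hL : Nonempty (L.restrict ((Spec (CommRingCat.of A)).homOfLE hTU) ≅
      (tilde (R := CommRingCat.of A) N).restrict T.ι)) :
    Nonempty ((Scheme.Modules.pullback
        (Spec.map (CommRingCat.ofHom (Ideal.Quotient.mk (Ideal.span {t}))) ∣_ U)).obj L ≅
      (tilde (R := CommRingCat.of (A ⧸ Ideal.span {t}))
        ((ModuleCat.extendScalars.{u, u, u} (Ideal.Quotient.mk (Ideal.span {t}))).obj N)).restrict
        (Spec.map (CommRingCat.ofHom (Ideal.Quotient.mk (Ideal.span {t}))) ⁻¹ᵁ U).ι) := by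
  obtain ⟨eL⟩ := hL
  let R := CommRingCat.of A
  let S := CommRingCat.of (A ⧸ Ideal.span {t})
  let g : R ⟶ S := CommRingCat.ofHom (Ideal.Quotient.mk (Ideal.span {t}))
  let f := Spec.map g
  let V := f ⁻¹ᵁ U
  let j := (Spec R).homOfLE hTU
  let h : (V : Scheme.{u}) ⟶ (T : Scheme.{u}) := f.resLE T V hVT
  have hhT : h ≫ T.ι = V.ι ≫ f := f.resLE_comp_ι hVT
  have hhj : h ≫ j = f ∣_ U := by
    rw [← cancel_mono U.ι, Category.assoc, Scheme.homOfLE_ι, hhT, morphismRestrict_ι]
  exact ⟨(Scheme.Modules.pullbackCongr hhj.symm).app L ≪≫ ((Scheme.Modules.pullbackComp h j).app L).symm ≪≫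
    (Scheme.Modules.pullback h).mapIso (((Scheme.Modules.restrictFunctorIsoPullback j).app L).symm ≪≫
      eL ≪≫ (Scheme.Modules.restrictFunctorIsoPullback T.ι).app _) ≪≫
    (Scheme.Modules.pullbackComp h T.ι).app _ ≪≫ (Scheme.Modules.pullbackCongr hhT).app _ ≪≫
    ((Scheme.Modules.pullbackComp V.ι f).app _).symm ≪≫
    ((Scheme.Modules.restrictFunctorIsoPullback V.ι).app _).symm ≪≫
    (Scheme.Modules.restrictFunctor V.ι).mapIso ((QCoh.tildePullbackIso g).app N)⟩

set_option maxHeartbeats 1600000 in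
/-- Invertible modules on the hypersurface extend. -/
theorem picPullbackSurjective_hyper (ht : t ∈ IsLocalRing.maximalIdeal A) (hreg : IsSMulRegular A t)
    (hd : (4 : ℕ∞) ≤ LocCoh.depth (A ⧸ Ideal.span {t}) (A ⧸ Ideal.span {t}))
    (hcurve : ∀ p : PrimeSpectrum A, t ∉ p.asIdeal → ringKrullDim (A ⧸ p.asIdeal) = 1 →
      ParaF.IsParafactorialLocalRing (Localization.AtPrime p.asIdeal)) :
    Formal2.PicPullbackSurjective
      (((Spec.map (CommRingCat.ofHom (Ideal.Quotient.mk (Ideal.span {t})))).ker.comap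
        (FEt.puncturedSpec A).ι)).subschemeι := by
  intro L' hL'
  let R := CommRingCat.of A
  let S := CommRingCat.of (A ⧸ Ideal.span {t})
  let g : R ⟶ S := CommRingCat.ofHom (Ideal.Quotient.mk (Ideal.span {t}))
  let f := Spec.map g
  let X := Spec R
  let U : X.Opens := FEt.puncturedSpec A
  let V := f ⁻¹ᵁ U
  haveI : IsNoetherianRing R := inferInstanceAs (IsNoetherianRing A)
  haveI : IsNoetherianRing S := inferInstanceAs (IsNoetherianRing (A ⧸ Ideal.span {t}))
  haveI : IsNoetherian X := inferInstance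
  haveI : IsNoetherian (Spec S) := inferInstance
  obtain ⟨e, he⟩ := exists_puncturedIso A (Ideal.span {t})
  let LV := (Scheme.Modules.pullback e.hom).obj L'
  have hLV : PicF.IsInvertible LV := PicClLib.isInvertible_pullback e.hom hL'
  have hLc := ParaFX.StalkPair.isCoh_of_invertible hLV
  obtain ⟨E, hEq, hEft, ⟨eE⟩⟩ := QCoh.exists_extension_abs (KZ.extStep (X := Spec S) V) LV hLc.1 hLc.2
  have hEfp : CohB1.IsFP E := QCoh.isCoh_iff_isFP.1 ⟨hEq, hEft⟩
  haveI : IsIso (Scheme.Modules.fromTildeΓ (R := S) E) :=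
    (isQuasicoherent_iff_isIso_fromTildeΓ (R := S) E).1 hEq
  let M₀ : ModuleCat.{u} (A ⧸ Ideal.span {t}) := (moduleSpecΓFunctor (R := S)).obj E
  haveI : Module.FinitePresentation (A ⧸ Ideal.span {t}) M₀ := (QCoh.isFP_iff_finitePresentation E hEq).1 hEfp
  have hV : V = FEt.puncturedSpec (A ⧸ Ideal.span {t}) := preimage_punctured A (Ideal.span {t})
  have hne : ∀ w : Spec S, w ∈ V →
      (w : PrimeSpectrum (A ⧸ Ideal.span {t})).asIdeal ≠ IsLocalRing.maximalIdeal (A ⧸ Ideal.span {t}) :=
    fun w hw h' => by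
      rw [hV] at hw
      exact hw (PrimeSpectrum.ext h')
  have hptV : ∀ (P : Ideal (A ⧸ Ideal.span {t})) (hP : P.IsPrime), P ≠ IsLocalRing.maximalIdeal (A ⧸ Ideal.span {t}) →
      (⟨P, hP⟩ : PrimeSpectrum (A ⧸ Ideal.span {t})) ∈ (V : Set (Spec S)) := fun P hP hne => by
    rw [hV]
    exact fun he => hne (congrArg PrimeSpectrum.asIdeal he)
  obtain ⟨N, M₁, θ, β, Z, hfin, hbad, hrank, hgen⟩ := exists_lifted_module A t ht hreg hd M₀ fun P hP hne =>
    rankOne_of_invertible (R := S) V hLV hEq eE P (hP := hP) (hptV P hP hne)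
  haveI : Module.Finite R N := hfin
  haveI : Module.Finite A N := hfin
  -- the open of rank one
  let D : X.Opens := (⟨PrimeSpectrum.zeroLocus Z, PrimeSpectrum.isClosed_zeroLocus _⟩ : Closeds X).compl
  let T : X.Opens := D ⊓ U
  have hTmem : ∀ q : X, q ∈ T ↔ ¬ Z ⊆ (q : PrimeSpectrum A).asIdeal ∧ q ∈ U := fun q => Iff.rfl
  have hLT := isInvertible_restrict_tilde (R := R) N T fun q hq =>
    hrank (q : PrimeSpectrum A).asIdeal (q : PrimeSpectrum A).isPrime ((hTmem q).1 hq).1
  obtain ⟨L, hL, hLres⟩ := exists_invertible_extension A U T inf_le_right (fun q hqU hqT => by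
    have hqZ : Z ⊆ (q : PrimeSpectrum A).asIdeal := by
      by_contra h
      exact hqT ((hTmem q).2 ⟨h, hqU⟩)
    obtain ⟨htq, hdim⟩ := hbad (q : PrimeSpectrum A).asIdeal (q : PrimeSpectrum A).isPrime
      (fun h => hqU (PrimeSpectrum.ext h)) hqZ
    exact hcurve _ htq hdim) _ hLT
  refine ⟨L, hL, ?_⟩
  have hVT : V ≤ f ⁻¹ᵁ T := fun w hw => (hTmem _).2 ⟨fun hZ => by
    obtain ⟨htw, -⟩ := hbad ((w : PrimeSpectrum (A ⧸ Ideal.span {t})).asIdeal.comap (Ideal.Quotient.mk _))
      inferInstance (fun h => hw (PrimeSpectrum.ext h)) hZ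
    refine htw ?_
    rw [Ideal.mem_comap, Ideal.Quotient.eq_zero_iff_mem.mpr (Ideal.mem_span_singleton_self t)]
    exact zero_mem _, hw⟩
  obtain ⟨c₁⟩ := nonempty_pullback_iso A t U T inf_le_right hVT N L hLres
  let α := ((ModuleCat.extendRestrictScalarsAdj.{u, u, u} (Ideal.Quotient.mk (Ideal.span {t}))).homEquiv N M₁).symm θ
  let βh : M₀ ⟶ M₁ := ModuleCat.ofHom (X := M₀) (Y := M₁) β
  haveI hα := isIso_restrict_tilde_map (R := S) α V fun w hw => by
    obtain ⟨n, m, hn, hθn, -, -⟩ := hgen _ (w : PrimeSpectrum (A ⧸ Ideal.span {t})).isPrime (hne w hw)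
    haveI := (w : PrimeSpectrum (A ⧸ Ideal.span {t})).isPrime
    exact isGen_extendScalars A t N M₁ θ _ n hn hθn
  haveI hβ := isIso_restrict_tilde_map (R := S) βh V fun w hw => by
    obtain ⟨n, m, -, -, hm, hβm⟩ := hgen _ (w : PrimeSpectrum (A ⧸ Ideal.span {t})).isPrime (hne w hw)
    exact ⟨m, hm, hβm⟩
  let c₂ := asIso ((Scheme.Modules.restrictFunctor V.ι).map ((tilde.functor S).map α)) ≪≫
    (asIso ((Scheme.Modules.restrictFunctor V.ι).map ((tilde.functor S).map βh))).symm ≪≫
    (Scheme.Modules.restrictFunctor V.ι).mapIso (asIso (Scheme.Modules.fromTildeΓ (R := S) E)) ≪≫ eE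
  let c : (Scheme.Modules.pullback e.hom).obj ((Scheme.Modules.pullback _).obj L) ≅ LV :=
    (Scheme.Modules.pullbackComp e.hom _).app L ≪≫ (Scheme.Modules.pullbackCongr he).app L ≪≫ c₁ ≪≫ c₂
  exact ⟨((Scheme.Modules.pullbackId _).app _).symm ≪≫ (Scheme.Modules.pullbackCongr e.inv_hom_id.symm).app _ ≪≫
    ((Scheme.Modules.pullbackComp e.inv e.hom).app _).symm ≪≫ (Scheme.Modules.pullback e.inv).mapIso c ≪≫
    (Scheme.Modules.pullbackComp e.inv e.hom).app _ ≪≫ (Scheme.Modules.pullbackCongr e.inv_hom_id).app _ ≪≫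
    (Scheme.Modules.pullbackId _).app _⟩

/-- Parafactoriality descends to the hypersurface in depth four. -/
theorem isParafactorial_hyper_of (ht : t ∈ IsLocalRing.maximalIdeal A) (hreg : IsSMulRegular A t)
    (hd : (4 : ℕ∞) ≤ LocCoh.depth (A ⧸ Ideal.span {t}) (A ⧸ Ideal.span {t}))
    (hcurve : ∀ p : PrimeSpectrum A, t ∉ p.asIdeal → ringKrullDim (A ⧸ p.asIdeal) = 1 →
      ParaF.IsParafactorialLocalRing (Localization.AtPrime p.asIdeal))
    (hA : ParaF.IsParafactorialLocalRing A) : ParaF.IsParafactorialLocalRing (A ⧸ Ideal.span {t}) := by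
  refine (ParaFX.isParafactorialLocalRing_iff _).2
    ⟨ParaFX.punctured_bijective _ (le_trans (by norm_num) hd), ?_⟩
  have hpic := ((ParaFX.isParafactorialLocalRing_iff A).1 hA).2
  rw [← preimage_punctured A (Ideal.span {t})]
  intro LV hLV
  obtain ⟨e, -⟩ := exists_puncturedIso A (Ideal.span {t})
  obtain ⟨L, hL, ⟨c⟩⟩ := picPullbackSurjective_hyper A t ht hreg hd hcurve
    ((Scheme.Modules.pullback e.inv).obj LV) (PicClLib.isInvertible_pullback e.inv hLV)
  obtain ⟨τ⟩ := hpic L hL
  obtain ⟨tY⟩ := PicClLib.nonempty_pullback_structureModule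
    (((Spec.map (CommRingCat.ofHom (Ideal.Quotient.mk (Ideal.span {t})))).ker.comap
      (FEt.puncturedSpec A).ι)).subschemeι
  obtain ⟨tV⟩ := PicClLib.nonempty_pullback_structureModule e.hom
  exact ⟨((Scheme.Modules.pullbackId _).app LV).symm ≪≫
    (Scheme.Modules.pullbackCongr e.hom_inv_id.symm).app LV ≪≫
    ((Scheme.Modules.pullbackComp e.hom e.inv).app LV).symm ≪≫
    (Scheme.Modules.pullback e.hom).mapIso (c.symm ≪≫ (Scheme.Modules.pullback _).mapIso τ ≪≫ tY) ≪≫ tV⟩

end

end Groth.Agent.CILift
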