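import Groth.Agent.CILift.Obstruction

/-!
# Deforming a divisor along a regular element

Local equations of an invertible module on the punctured spectrum of `B / t B` lift modulo every power of `t`; sections
lift after a bounded amount of correction.
-/

set_option linter.style.haveILetI false

universe u

namespace Groth.Agent.CILift

variable {B A Kb K : Type u} [CommRing B] [CommRing A] [CommRing Kb] [CommRing K] [Algebra B Kb] [Algebra A K]
  (q : B →+* A) (t : B) (π : Kb →+* K) {ι : Type u} [Fintype ι] (fB : ι → B)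

/-- A localization of a ring above a localization of its quotient by a regular element. -/
structure Setup : Prop where
  surj_q : Function.Surjective q
  ker_q : ∀ b, q b = 0 → ∃ c, b = t * c
  comm : ∀ b, π (algebraMap B Kb b) = algebraMap A K (q b)
  surj : Function.Surjective π
  ker : ∀ x, π x = 0 → ∃ y, x = algebraMap B Kb t * y
  reg_t : ∀ x, algebraMap B Kb t * x = 0 → x = 0
  unit_f : ∀ i, IsUnit (algebraMap B Kb (fB i))
  inj : Function.Injective (algebraMap A K)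
  q_t : q t = 0

variable {q t π fB}

local notation "τ" => algebraMap B Kb t

/-- Congruence modulo a power of `t`. -/
def Cg (t : B) (n : ℕ) (x y : Kb) : Prop := ∃ w, x = y + algebraMap B Kb t ^ n * w

theorem Cg.refl (n : ℕ) (x : Kb) : Cg t n x x := ⟨0, by simp⟩

theorem Cg.symm {n : ℕ} {x y : Kb} (h : Cg t n x y) : Cg t n y x := by
  obtain ⟨w, hw⟩ := h
  exact ⟨-w, by rw [hw]; ring⟩

theorem Cg.trans {n : ℕ} {x y z : Kb} (h : Cg t n x y) (h' : Cg t n y z) : Cg t n x z := by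
  obtain ⟨w, hw⟩ := h
  obtain ⟨w', hw'⟩ := h'
  exact ⟨w + w', by rw [hw, hw']; ring⟩

theorem Cg.mono {n m : ℕ} (hnm : m ≤ n) {x y : Kb} (h : Cg t n x y) : Cg t m x y := by
  obtain ⟨w, hw⟩ := h
  exact ⟨τ ^ (n - m) * w, by rw [hw, ← mul_assoc, ← pow_add, Nat.add_sub_cancel' hnm]⟩

theorem Cg.mul_right {n : ℕ} {x y : Kb} (h : Cg t n x y) (z : Kb) : Cg t n (x * z) (y * z) := by
  obtain ⟨w, hw⟩ := h
  exact ⟨w * z, by rw [hw]; ring⟩

variable (hS : Setup q t π fB)
include hS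

theorem Setup.pi_t : π τ = 0 := by rw [hS.comm, hS.q_t, map_zero]

theorem Setup.reg_pow (n : ℕ) {x : Kb} (h : τ ^ n * x = 0) : x = 0 := by
  induction n with
  | zero => simpa using h
  | succ n ih =>
    refine ih (hS.reg_t _ ?_)
    rw [← mul_assoc, ← pow_succ']
    exact h

theorem Setup.map_mem {h : B} {x : Kb} (hx : x ∈ Sub Kb ⊤ h) : π x ∈ Sub K ⊤ (q h) := by
  obtain ⟨N, z, -, hz⟩ := hx
  refine ⟨N, q z, trivial, ?_⟩
  rw [← map_pow q, ← hS.comm, ← map_mul π, hz, hS.comm]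

theorem Setup.lift_sub {h : B} (hh : IsUnit (algebraMap B Kb h)) {y : K} (hy : y ∈ Sub K ⊤ (q h)) :
    ∃ x ∈ Sub Kb ⊤ h, π x = y := by
  obtain ⟨N, z, -, hz⟩ := hy
  obtain ⟨z, rfl⟩ := hS.surj_q z
  obtain ⟨u, hu⟩ := hh.pow N
  refine ⟨((u⁻¹ : Kbˣ) : Kb) * algebraMap B Kb z, ⟨N, z, trivial, by
    rw [map_pow, ← hu, ← mul_assoc, Units.mul_inv, one_mul]⟩, ?_⟩
  rw [map_mul, hS.comm, ← hz, ← map_pow q, ← hS.comm, map_pow (algebraMap B Kb), ← hu, ← mul_assoc, ← map_mul,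
    Units.inv_mul, map_one, one_mul]

theorem Setup.div_t {h : B} : ∀ (n : ℕ) {y : Kb}, τ ^ n * y ∈ Sub Kb ⊤ h → y ∈ Sub Kb ⊤ h := by
  intro n
  induction n with
  | zero => simp
  | succ n ih =>
    intro y hy
    obtain ⟨N, z, -, hz⟩ := hy
    have hz0 : q z = 0 := by
      refine hS.inj ?_
      rw [map_zero, ← hS.comm, ← hz, map_mul, map_mul, map_pow π τ, hS.pi_t, zero_pow (Nat.succ_ne_zero n), zero_mul,
        mul_zero]
    obtain ⟨c, rfl⟩ := hS.ker_q z hz0
    refine ih ⟨N, c, trivial, sub_eq_zero.mp (hS.reg_t _ ?_)⟩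
    rw [map_mul] at hz
    rw [← sub_eq_zero.mpr hz]
    ring

theorem Setup.cancel_unit {n : ℕ} {x v : Kb} (hv : IsUnit (π v)) (h : Cg t n (x * v) 0) : Cg t n x 0 := by
  obtain ⟨u, hu⟩ := hv
  obtain ⟨w, hw⟩ := hS.surj ((u⁻¹ : Kˣ) : K)
  obtain ⟨z, hz⟩ := hS.ker (v * w - 1) (by rw [map_sub, map_mul, hw, ← hu, Units.mul_inv, map_one, sub_self])
  suffices ∀ j ≤ n, Cg t j x 0 from this n le_rfl
  intro j hj
  induction j with
  | zero => exact ⟨x, by simp⟩
  | succ j ih =>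
    obtain ⟨a, ha⟩ := Cg.mono hj h
    obtain ⟨b, hb⟩ := ih (by omega)
    refine ⟨a * w - b * z, ?_⟩
    calc x = (x * v) * w - x * (v * w - 1) := by ring
      _ = _ := by rw [ha, hz, hb]; ring

theorem Setup.unit_pair (i j : ι) : IsUnit (algebraMap B Kb (fB i * fB j)) := by
  rw [map_mul]; exact (hS.unit_f i).mul (hS.unit_f j)

variable [hinj : Fact (Function.Injective (algebraMap A K))] {μ ε : ι → K}
  (hD : DivData K (fun i => q (fB i)) μ ε)

/-- Local equations modulo `t ^ (n + 1)`. -/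
def Datum (t : B) (π : Kb →+* K) (fB : ι → B) (μ : ι → K) (n : ℕ) (v : ι → Kb) : Prop :=
  (∀ i, π (v i) = μ i) ∧ ∀ i j, ∃ r ∈ Sub Kb ⊤ (fB i * fB j), Cg t (n + 1) (v i) (r * v j)

include hD

/-- The initial local equations. -/
theorem exists_datum_zero : ∃ v, Datum t π fB μ 0 v := by
  choose v hv using fun i => hS.surj (μ i)
  refine ⟨v, hv, fun i j => ?_⟩
  obtain ⟨u, hu⟩ := hD.unit_f j
  obtain ⟨z, hz⟩ := hD.glob j i
  obtain ⟨r, hr, hr'⟩ := hS.lift_sub (h := fB i * fB j) (hS.unit_pair i j)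
    (y := ((u⁻¹ : Kˣ) : K) * algebraMap A K z) (by
      rw [map_mul q]
      exact mul_mem_sub (sub_le (dvd_mul_left _ _) (inv_mem_sub (by rw [← hu, Units.mul_inv])))
        (algebraMap_mem_sub trivial))
  obtain ⟨w, hw⟩ := hS.ker (v i - r * v j) (by
    rw [map_sub, map_mul, hv, hv, hr', ← hz,
      show ((u⁻¹ : Kˣ) : K) * (μ i * ε j) * μ j = μ i * (((u⁻¹ : Kˣ) : K) * (μ j * ε j)) by ring, hD.frame j, ← hu,
      Units.inv_mul, mul_one, sub_self])
  exact ⟨r, hr, w, by rw [zero_add, pow_one, ← hw]; ring⟩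

/-- The local equations lift one step. -/
theorem exists_datum_succ (hd : Deep (fun i => q (fB i)) 4 (⊥ : Ideal A)) {n : ℕ} {v : ι → Kb}
    (hv : Datum t π fB μ n v) : ∃ v', Datum t π fB μ (n + 1) v' ∧ ∀ i, Cg t (n + 1) (v' i) (v i) := by
  rcases isEmpty_or_nonempty ι with hι | ⟨⟨o⟩⟩
  · exact ⟨v, ⟨hv.1, fun i => hι.elim i⟩, fun i => Cg.refl _ _⟩
  choose r hr y hy using hv.2
  choose w hw using fun i => hD.unit_μ i
  let c : ι → ι → K := fun i j => π (y i j) * ((w i)⁻¹ : Kˣ)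
  have hc : ∀ i j l, c i j + c j l - c i l ∈ Sub K ⊤ (q (fB i) * q (fB j) * q (fB l)) := by
    intro i j l
    let h : B := fB i * fB j * fB l
    have hδ : r i l - r i j * r j l ∈ Sub Kb ⊤ h :=
      sub_mem (sub_le ⟨fB j, by ring⟩ (hr i l))
        (mul_mem_sub (sub_le (dvd_mul_right _ _) (hr i j)) (sub_le ⟨fB i, by ring⟩ (hr j l)))
    have hrel : (r i l - r i j * r j l) * v l = τ ^ (n + 1) * (y i j + r i j * y j l - y i l) := by
      have e1 := hy i j
      have e2 := hy j l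
      have e3 := hy i l
      linear_combination e1 - e3 + r i j * e2
    obtain ⟨δ, hδ'⟩ := hS.cancel_unit (by rw [hv.1 l]; exact hD.unit_μ l)
      ⟨y i j + r i j * y j l - y i l, by rw [zero_add]; exact hrel⟩
    rw [zero_add] at hδ'
    have hrel2 : δ * v l = y i j + r i j * y j l - y i l := by
      refine sub_eq_zero.mp (hS.reg_pow (n + 1) ?_)
      rw [hδ'] at hrel
      linear_combination hrel
    have hδm : π δ ∈ Sub K ⊤ (q (fB i) * q (fB j) * q (fB l)) := by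
      rw [← map_mul q, ← map_mul q]
      exact hS.map_mem (hS.div_t (n + 1) (hδ' ▸ hδ))
    have hρ : μ i = π (r i j) * μ j := by
      have := congrArg π (hy i j)
      rw [map_add, map_mul, map_mul, map_pow, hS.pi_t, zero_pow (Nat.succ_ne_zero n), zero_mul, add_zero,
        hv.1, hv.1] at this
      exact this
    have hπ := congrArg π hrel2
    rw [map_mul, map_sub, map_add, map_mul, hv.1] at hπ
    have key : c i j + c j l - c i l = π δ * (μ l * ((w i)⁻¹ : Kˣ)) := by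
      have h1 : π (y j l) * ((w j)⁻¹ : Kˣ) = π (r i j) * π (y j l) * ((w i)⁻¹ : Kˣ) := by
        have h2 := hρ
        rw [← hw i, ← hw j] at h2
        calc π (y j l) * ((w j)⁻¹ : Kˣ) = π (y j l) * ((w j)⁻¹ : Kˣ) * ((w i : K) * ((w i)⁻¹ : Kˣ)) := by
              rw [Units.mul_inv, mul_one]
          _ = π (y j l) * π (r i j) * ((w i)⁻¹ : Kˣ) * ((w j : K) * ((w j)⁻¹ : Kˣ)) := by rw [h2]; ring
          _ = _ := by rw [Units.mul_inv, mul_one]; ring
      simp only [c]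
      rw [h1, ← mul_assoc (π δ), hπ]
      ring
    rw [key]
    refine mul_mem_sub hδm (sub_le (h := q (fB i)) ⟨q (fB j) * q (fB l), by ring⟩ ?_)
    obtain ⟨u, hu⟩ := hD.unit_f i
    obtain ⟨z, hz⟩ := hD.glob i l
    have : μ l * ((w i)⁻¹ : Kˣ) = algebraMap A K z * ((u⁻¹ : Kˣ) : K) := by
      rw [← hz]
      calc μ l * ((w i)⁻¹ : Kˣ) = μ l * ((w i)⁻¹ : Kˣ) * ((u : K) * ((u⁻¹ : Kˣ) : K)) := by
            rw [Units.mul_inv, mul_one]
        _ = μ l * ε i * ((u⁻¹ : Kˣ) : K) * ((w i : K) * ((w i)⁻¹ : Kˣ)) := by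
            rw [hu, ← hD.frame i, hw i]; ring
        _ = _ := by rw [Units.mul_inv, mul_one]
    rw [this]
    exact mul_mem_sub (algebraMap_mem_sub trivial) (inv_mem_sub (by rw [← hu, Units.mul_inv]))
  obtain ⟨s, hs, hs'⟩ := cech₂ hD.unit_f hd (fun i j l => c i j + c j l - c i l) hc fun i j l o' => by ring
  -- the correction
  let a : ι → K := fun i => -(c i o - s i o) * μ i
  choose α hα using fun i => hS.surj (a i)
  have hτ : ∀ i, π (v i + τ ^ (n + 1) * α i) = μ i := fun i => by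
    rw [map_add, map_mul, map_pow, hS.pi_t, zero_pow (Nat.succ_ne_zero n), zero_mul, add_zero, hv.1]
  refine ⟨fun i => v i + τ ^ (n + 1) * α i, ⟨hτ, fun i j => ?_⟩, fun i => ⟨α i, rfl⟩⟩
  obtain ⟨u, hu⟩ := hD.unit_f j
  obtain ⟨z, hz⟩ := hD.glob j i
  have hratio : μ i * ((w j)⁻¹ : Kˣ) ∈ Sub K ⊤ (q (fB i) * q (fB j)) := by
    have : μ i * ((w j)⁻¹ : Kˣ) = algebraMap A K z * ((u⁻¹ : Kˣ) : K) := by
      rw [← hz]
      calc μ i * ((w j)⁻¹ : Kˣ) = μ i * ((w j)⁻¹ : Kˣ) * ((u : K) * ((u⁻¹ : Kˣ) : K)) := by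
            rw [Units.mul_inv, mul_one]
        _ = μ i * ε j * ((u⁻¹ : Kˣ) : K) * ((w j : K) * ((w j)⁻¹ : Kˣ)) := by
            rw [hu, ← hD.frame j, hw j]; ring
        _ = _ := by rw [Units.mul_inv, mul_one]
    rw [this]
    exact mul_mem_sub (algebraMap_mem_sub trivial)
      (sub_le (dvd_mul_left _ _) (inv_mem_sub (by rw [← hu, Units.mul_inv])))
  have hs1 : s i j * (μ i * ((w j)⁻¹ : Kˣ)) ∈ Sub K ⊤ (q (fB i * fB j)) := by
    rw [map_mul]
    exact mul_mem_sub (hs i j) hratio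
  obtain ⟨s', hs'₁, hs'₂⟩ := hS.lift_sub (hS.unit_pair i j) hs1
  refine ⟨r i j + τ ^ (n + 1) * s', add_mem (hr i j) (mul_mem_sub (by
    rw [← map_pow]; exact algebraMap_mem_sub trivial) hs'₁), ?_⟩
  have hρ : μ i = π (r i j) * μ j := by
    have := congrArg π (hy i j)
    rw [map_add, map_mul, map_mul, map_pow, hS.pi_t, zero_pow (Nat.succ_ne_zero n), zero_mul, add_zero,
      hv.1, hv.1] at this
    exact this
  obtain ⟨e, he⟩ := hS.ker (y i j + α i - r i j * α j - s' * v j) (by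
    simp only [map_sub, map_add, map_mul, hα, hs'₂, hv.1, a]
    have h3 := hs' i j o
    simp only [c] at h3 ⊢
    have hwi : μ i * ((w i)⁻¹ : Kˣ) = 1 := by rw [← hw i, Units.mul_inv]
    have hwj : μ j * ((w j)⁻¹ : Kˣ) = 1 := by rw [← hw j, Units.mul_inv]
    linear_combination (μ i) * h3 - (π (y i j)) * hwi + (π (y j o) * ((w j)⁻¹ : Kˣ) - s j o) * (-1 : K) * hρ -
      (s i j * μ i) * hwj)
  refine ⟨e - τ ^ n * s' * α j, ?_⟩
  linear_combination hy i j + τ ^ (n + 1) * he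

/-- Compatible local equations modulo all powers. -/
theorem exists_tower (hd : Deep (fun i => q (fB i)) 4 (⊥ : Ideal A)) :
    ∃ v : ℕ → ι → Kb, (∀ n, Datum t π fB μ n (v n)) ∧ ∀ n m, n ≤ m → ∀ i, Cg t (n + 1) (v m i) (v n i) := by
  obtain ⟨v₀, hv₀⟩ := exists_datum_zero hS hD
  let s : ∀ n : ℕ, { v // Datum t π fB μ n v } := Nat.rec ⟨v₀, hv₀⟩ fun n v =>
    ⟨(exists_datum_succ hS hD hd v.2).choose, (exists_datum_succ hS hD hd v.2).choose_spec.1⟩
  refine ⟨fun n => (s n).1, fun n => (s n).2, fun n m hnm i => ?_⟩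
  induction m, hnm using Nat.le_induction with
  | base => exact Cg.refl _ _
  | succ m hnm ih =>
    exact (Cg.mono (by omega) ((exists_datum_succ hS hD hd (s m).2).choose_spec.2 i)).trans ih


end Groth.Agent.CILift
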