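import Groth.Agent.CILift.CI
import Groth.Agent.ParaFX.UfdIff
import Groth.Agent.LC.LiaisonLocal

/-!
# Factorial complete intersections
-/

set_option linter.style.haveILetI false

universe u

open IsLocalRing RingTheory.Sequence

namespace Groth.Agent.CILift

open Groth.Agent

/-- Localizations of complete intersections are complete intersections. -/
theorem isCI_localization (A : Type u) [CommRing A] [IsLocalRing A] (hA : SGA2.IsAbsCompleteIntersection A)
    (P : Ideal A) [P.IsPrime] : SGA2.IsAbsCompleteIntersection (Localization.AtPrime P) := by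
  obtain ⟨R, _, _, rs, hmem, hreg, ⟨e⟩⟩ := hA
  let q : R →+* A := e.symm.toRingHom.comp (Ideal.Quotient.mk _)
  let p := P.comap q
  haveI : p.IsPrime := Ideal.comap_isPrime _ _
  let P' : Ideal (R ⧸ Ideal.ofList rs) := P.comap e.symm.toRingHom
  haveI : P'.IsPrime := Ideal.comap_isPrime _ _
  obtain ⟨ψ⟩ := RegLoc6.exists_quotLocalEquiv (Ideal.ofList rs) p P' rfl
  haveI := RegLoc6.isRegularLocalRing_localization R p
  rw [Ideal.map_ofList] at ψ
  have hmem_p : ∀ x ∈ rs.map (algebraMap R (Localization.AtPrime p)), x ∈ maximalIdeal (Localization.AtPrime p) := by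
    intro x hx
    obtain ⟨y, hy, rfl⟩ := List.mem_map.mp hx
    rw [IsLocalization.AtPrime.to_map_mem_maximal_iff (Localization.AtPrime p) p]
    show e.symm (Ideal.Quotient.mk _ y) ∈ P
    rw [Ideal.Quotient.eq_zero_iff_mem.mpr (Ideal.subset_span hy : y ∈ Ideal.ofList rs), map_zero]
    exact zero_mem _
  exact ⟨Localization.AtPrime p, inferInstance, inferInstance, rs.map (algebraMap R _), hmem_p,
    IsRegular.of_isWeaklyRegular_of_mem_maximalIdeal _ hmem_p
      (IsWeaklyRegular.of_isLocalization _ p.primeCompl hreg.1),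
    ⟨(Localization.localRingEquiv P' P e.symm (Ideal.ext fun x => Iff.rfl)).symm.trans ψ.symm⟩⟩

/-- Factoriality in codimension three propagates to all primes. -/
theorem ufd_localization_of_ci (A : Type u) [CommRing A] [IsLocalRing A] [IsNoetherianRing A]
    (hA : SGA2.IsAbsCompleteIntersection A)
    (h : ∀ p : PrimeSpectrum A, ringKrullDim (Localization.AtPrime p.asIdeal) ≤ 3 →
      IsDomain (Localization.AtPrime p.asIdeal) ∧ UniqueFactorizationMonoid (Localization.AtPrime p.asIdeal)) :
    ∀ (n : ℕ) (P : PrimeSpectrum A), P.asIdeal.height = n →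
      IsDomain (Localization.AtPrime P.asIdeal) ∧ UniqueFactorizationMonoid (Localization.AtPrime P.asIdeal) := by
  intro n
  induction n using Nat.strong_induction_on with
  | _ n ih =>
    intro P hn
    let L := Localization.AtPrime P.asIdeal
    have hdim : ringKrullDim L = (n : WithBot ℕ∞) := by
      rw [IsLocalization.AtPrime.ringKrullDim_eq_height P.asIdeal, hn]
      rfl
    rcases Nat.lt_or_ge n 4 with hlt | hge
    · exact h P (by rw [hdim]; exact_mod_cast (by omega : n ≤ 3))
    have hci := isCI_localization A hA P.asIdeal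
    have hpara := isParafactorial_of_ci L hci (by rw [hdim]; exact_mod_cast hge)
    obtain ⟨R, _, _, rs, hmem, hreg, ⟨e⟩⟩ := hci
    haveI := isLocalRing_quot hmem
    obtain ⟨hcm, -⟩ := quot_cm hmem hreg.1
    haveI : LocCoh.IsCohenMacaulayLocalRing L := by
      haveI := hcm
      exact LC.Liaison.isCMLocal_of_ringEquiv (A := R ⧸ Ideal.ofList rs) e.symm
    have hd : (2 : ℕ∞) ≤ LocCoh.depth L L := by
      have h1 := dim_le_depth (A := L)
      rw [hdim] at h1
      have h2 : LocCoh.depth L L = (n : ℕ∞) := by exact_mod_cast h1.symm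
      rw [h2]
      exact_mod_cast (by omega : 2 ≤ n)
    refine (ParaFX.ufd_iff_punctured L (by rw [hdim]; exact_mod_cast (by omega : 2 ≤ n))).2
      ⟨((ParaFX.isParafactorialLocalRing_iff L).1 hpara).2, hd, fun y hy => ?_⟩
    refine (ParaFX.stalk_ufd_iff L y).2 ?_
    let Q : PrimeSpectrum A := ⟨(y : PrimeSpectrum L).asIdeal.comap (algebraMap A L), inferInstance⟩
    have hQh : Q.asIdeal.height < P.asIdeal.height := by
      rw [show Q.asIdeal.height = (y : PrimeSpectrum L).asIdeal.height from
        IsLocalization.height_under P.asIdeal.primeCompl (y : PrimeSpectrum L).asIdeal]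
      have hlt : (y : PrimeSpectrum L).asIdeal < maximalIdeal L :=
        lt_of_le_of_ne (le_maximalIdeal (y : PrimeSpectrum L).isPrime.ne_top) fun he => hy (PrimeSpectrum.ext he)
      have h1 := Ideal.height_strict_mono_of_isPrime (I := (y : PrimeSpectrum L).asIdeal) hlt
      have h2 : (maximalIdeal L).height = (n : ℕ∞) := by
        have h3 := maximalIdeal_height_eq_ringKrullDim (R := L)
        rw [hdim] at h3
        exact_mod_cast h3
      rwa [h2, ← hn] at h1
    obtain ⟨k, hk⟩ := ENat.ne_top_iff_exists.mp (ne_top_of_lt hQh)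
    have hkn : k < n := by rw [← hk, hn] at hQh; exact_mod_cast hQh
    obtain ⟨hdom, hufd⟩ := ih k hkn Q hk.symm
    haveI := IsLocalization.isLocalization_isLocalization_atPrime_isLocalization P.asIdeal.primeCompl
      (Localization.AtPrime (y : PrimeSpectrum L).asIdeal) (y : PrimeSpectrum L).asIdeal
    let ε := (IsLocalization.algEquiv Q.asIdeal.primeCompl (Localization.AtPrime Q.asIdeal)
      (Localization.AtPrime (y : PrimeSpectrum L).asIdeal)).toRingEquiv
    exact ⟨ε.symm.toMulEquiv.isDomain, ε.toMulEquiv.uniqueFactorizationMonoid hufd⟩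

/-- A complete intersection factorial in codimension three is factorial. -/
theorem ufd_of_ci (A : Type u) [CommRing A] [IsLocalRing A] [IsNoetherianRing A]
    (hA : SGA2.IsAbsCompleteIntersection A)
    (h : ∀ p : PrimeSpectrum A, ringKrullDim (Localization.AtPrime p.asIdeal) ≤ 3 →
      IsDomain (Localization.AtPrime p.asIdeal) ∧ UniqueFactorizationMonoid (Localization.AtPrime p.asIdeal)) :
    IsDomain A ∧ UniqueFactorizationMonoid A := by
  obtain ⟨n, hn⟩ := ENat.ne_top_iff_exists.mp (Ideal.height_ne_top (maximalIdeal.isMaximal A).ne_top)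
  obtain ⟨hdom, hufd⟩ := ufd_localization_of_ci A hA h n (closedPoint A) hn.symm
  let ε := (IsLocalization.atUnits A (closedPoint A).asIdeal.primeCompl
    (S := Localization.AtPrime (closedPoint A).asIdeal) fun x hx => notMem_maximalIdeal.1 hx).toRingEquiv
  exact ⟨ε.toMulEquiv.isDomain, ε.symm.toMulEquiv.uniqueFactorizationMonoid hufd⟩

end Groth.Agent.CILift
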